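import Mathlib
import Cfsg.Prelude.Def_Local
import Cfsg.Agent.Lib.Helper32.Burnside
import Cfsg.Agent.Lib.Helper55.Cores

set_option autoImplicit false
set_option linter.style.haveILetI false

/-!
# `p`-solvable groups (`Cfsg.IsPSolvable`)

* `PFactor p n` : `n` is a power of `p` or coprime to `p`.
* `isPSolvable_of_surjective`, `isPSolvable_quotient`, `isPSolvable_subgroup`.
* `exists_normal_of_isPSolvable` : a nontrivial finite `p`-solvable group has a nontrivial normal subgroup which is a
  `p`-group or a `p'`-group.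
* `centralizer_pCore_le_of_isPSolvable` (Hall–Higman Lemma 1.2.3): `O_{p'}(G) = 1` implies `C_G(O_p(G)) ≤ O_p(G)`.
-/

namespace Cfsg.Agent.Lib.Helper76

open Cfsg Cfsg.Agent.Lib.Helper55 Cfsg.Agent.Lib.Helper32

variable {G : Type*} [Group G]

/-- the factor condition in `IsPSolvable` -/
def PFactor (p n : ℕ) : Prop := (∃ m : ℕ, n = p ^ m) ∨ n.Coprime p

theorem PFactor.of_dvd {p a b : ℕ} [hp : Fact p.Prime] (hab : a ∣ b) (hb : PFactor p b) :
    PFactor p a := by
  rcases hb with ⟨m, rfl⟩ | hb
  · obtain ⟨k, -, rfl⟩ := (Nat.dvd_prime_pow hp.out).1 hab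
    exact Or.inl ⟨k, rfl⟩
  · exact Or.inr (Nat.Coprime.coprime_dvd_left hab hb)

theorem isPSolvable_iff {p : ℕ} :
    IsPSolvable p G ↔ ∃ (n : ℕ) (H : Fin (n + 1) → Subgroup G),
      H 0 = ⊥ ∧ H (Fin.last n) = ⊤ ∧ Monotone H ∧ (∀ i, (H i).Normal) ∧
      ∀ i : Fin n, PFactor p ((H i.castSucc).relIndex (H i.succ)) := Iff.rfl

theorem relIndex_map_dvd {G' : Type*} [Group G'] (f : G →* G') {A B : Subgroup G} [A.Normal]
    (hAB : A ≤ B) : (A.map f).relIndex (B.map f) ∣ A.relIndex B := by
  rw [Subgroup.relIndex_map_map]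
  have h1 : B ⊔ f.ker = B ⊔ (A ⊔ f.ker) := by rw [← sup_assoc, sup_eq_left.2 hAB]
  rw [h1, Subgroup.relIndex_sup_right]
  exact Subgroup.relIndex_dvd_of_le_left B le_sup_left

theorem relIndex_dvd_of_le_right_of_normal {A K B : Subgroup G} [A.Normal] (hKB : K ≤ B) :
    A.relIndex K ∣ A.relIndex B := by
  rw [← Subgroup.relIndex_subgroupOf hKB]
  exact Subgroup.relIndex_dvd_index_of_normal _ _

theorem relIndex_inf_dvd (A B : Subgroup G) [A.Normal] (K : Subgroup G) :
    (A ⊓ K).relIndex (B ⊓ K) ∣ A.relIndex B := by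
  have h1 : (A ⊓ K).relIndex (B ⊓ K) = A.relIndex (B ⊓ K) := by
    rw [← Subgroup.inf_relIndex_right (A ⊓ K), ← Subgroup.inf_relIndex_right A]
    congr 1
    ext x
    simp only [Subgroup.mem_inf]
    tauto
  rw [h1]
  exact relIndex_dvd_of_le_right_of_normal inf_le_left

/-- `p`-solvability passes to homomorphic images. -/
theorem isPSolvable_of_surjective {G' : Type*} [Group G'] {p : ℕ} [Fact p.Prime] (f : G →* G')
    (hf : Function.Surjective f) (h : IsPSolvable p G) : IsPSolvable p G' := by
  obtain ⟨n, H, h0, hl, hmono, hnorm, hfac⟩ := isPSolvable_iff.1 h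
  refine isPSolvable_iff.2 ⟨n, fun i => (H i).map f, ?_, ?_, ?_, ?_, ?_⟩
  · simp only [h0, Subgroup.map_bot]
  · simp only [hl]
    rw [← MonoidHom.range_eq_map, MonoidHom.range_eq_top]
    exact hf
  · intro i j hij
    exact Subgroup.map_mono (hmono hij)
  · intro i
    exact (hnorm i).map f hf
  · intro i
    haveI := hnorm i.castSucc
    exact (hfac i).of_dvd (relIndex_map_dvd f (hmono (Fin.castSucc_le_succ i)))

theorem isPSolvable_quotient {p : ℕ} [Fact p.Prime] (N : Subgroup G) [N.Normal]
    (h : IsPSolvable p G) : IsPSolvable p (G ⧸ N) :=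
  isPSolvable_of_surjective (QuotientGroup.mk' N) (QuotientGroup.mk'_surjective N) h

theorem isPSolvable_of_mulEquiv {G' : Type*} [Group G'] {p : ℕ} [Fact p.Prime] (e : G ≃* G')
    (h : IsPSolvable p G) : IsPSolvable p G' :=
  isPSolvable_of_surjective e.toMonoidHom e.surjective h

/-- `p`-solvability passes to subgroups. -/
theorem isPSolvable_subgroup {p : ℕ} [Fact p.Prime] (K : Subgroup G)
    (h : IsPSolvable p G) : IsPSolvable p K := by
  obtain ⟨n, H, h0, hl, hmono, hnorm, hfac⟩ := isPSolvable_iff.1 h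
  refine isPSolvable_iff.2 ⟨n, fun i => (H i).subgroupOf K, ?_, ?_, ?_, ?_, ?_⟩
  · simp only [h0, Subgroup.bot_subgroupOf]
  · simp only [hl, Subgroup.top_subgroupOf]
  · intro i j hij
    exact fun x hx => hmono hij hx
  · intro i
    haveI := hnorm i
    infer_instance
  · intro i
    haveI := hnorm i.castSucc
    have h1 : ((H i.castSucc).subgroupOf K).relIndex ((H i.succ).subgroupOf K) =
        (H i.castSucc ⊓ K).relIndex (H i.succ ⊓ K) := by
      rw [← Subgroup.inf_subgroupOf_right (H i.castSucc), ← Subgroup.inf_subgroupOf_right (H i.succ)]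
      exact Subgroup.relIndex_subgroupOf inf_le_right
    show PFactor p _
    rw [h1]
    exact (hfac i).of_dvd (relIndex_inf_dvd _ _ K)

/-- A nontrivial `p`-solvable group has a nontrivial normal subgroup that is a `p`-group or a `p'`-group. -/
theorem exists_normal_of_isPSolvable [Finite G] [Nontrivial G] {p : ℕ} [Fact p.Prime]
    (h : IsPSolvable p G) :
    ∃ N : Subgroup G, N.Normal ∧ N ≠ ⊥ ∧ (IsPGroup p N ∨ (Nat.card N).Coprime p) := by
  obtain ⟨n, H, h0, hl, hmono, hnorm, hfac⟩ := isPSolvable_iff.1 h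
  by_contra hcon
  push Not at hcon
  have key : ∀ i : Fin (n + 1), H i = ⊥ := by
    intro i
    induction i using Fin.induction with
    | zero => exact h0
    | succ i ih =>
      by_contra hne
      have h1 := hfac i
      rw [ih, Subgroup.relIndex_bot_left] at h1
      obtain ⟨hA, hB⟩ := hcon (H i.succ) (hnorm _) hne
      rcases h1 with ⟨m, hm⟩ | h1
      · exact hA (IsPGroup.of_card hm)
      · exact hB h1
  have := key (Fin.last n)
  rw [hl] at this
  exact top_ne_bot this

/-- One step of the proof of Hall–Higman 1.2.3. -/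
theorem hallHigman_step [Finite G] {p : ℕ} [Fact p.Prime] (hO : pPrimeCore p G = ⊥)
    {A B : Subgroup G} [hAn : A.Normal] [hBn : B.Normal] (hAB : A ≤ B)
    (hf : PFactor p (A.relIndex B))
    (hA : A ⊓ Subgroup.centralizer (pCore p G : Set G) ≤ pCore p G) :
    B ⊓ Subgroup.centralizer (pCore p G : Set G) ≤ pCore p G := by
  haveI hPn : (pCore p G).Normal := pCore_normal' p
  set P := pCore p G with hP
  set C := Subgroup.centralizer (P : Set G) with hC
  haveI hCn : C.Normal := Subgroup.normal_centralizer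
  set D := B ⊓ C with hD
  set Z := A ⊓ C with hZ
  haveI hDn : D.Normal := Subgroup.normal_inf_normal B C
  haveI hZn : Z.Normal := Subgroup.normal_inf_normal A C
  have hZD : Z ≤ D := inf_le_inf_right C hAB
  have hZp : IsPGroup p Z := (pCore_isPGroup p).to_le hA
  have hfac : PFactor p (Z.relIndex D) := hf.of_dvd (relIndex_inf_dvd A B C)
  have hcard : Nat.card Z * Z.relIndex D = Nat.card D := card_mul_relIndex_eq hZD
  rcases hfac with ⟨m, hm⟩ | hcop
  · -- `D` is a normal `p`-subgroup
    obtain ⟨k, hk⟩ := IsPGroup.iff_card.mp hZp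
    have : IsPGroup p D := by
      apply IsPGroup.of_card (n := k + m)
      rw [← hcard, hk, hm, pow_add]
    exact le_pCore p D this
  · -- `Z` is a central Sylow `p`-subgroup of `D`
    have hZs : IsPGroup p (Z.subgroupOf D) := by
      have : IsPGroup p (Z.subgroupOf D) :=
        hZp.comap_of_injective D.subtype D.subtype_injective
      exact this
    have hidx : ¬ p ∣ (Z.subgroupOf D).index := by
      have : (Z.subgroupOf D).index = Z.relIndex D := rfl
      rw [this]
      exact (Nat.Prime.coprime_iff_not_dvd Fact.out).mp hcop.symm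
    let S : Sylow p D := hZs.toSylow hidx
    have hScoe : (S : Subgroup D) = Z.subgroupOf D := IsPGroup.toSylow_coe hZs hidx
    have hcen : (S : Subgroup D) ≤ Subgroup.center D := by
      rw [hScoe]
      intro z hz
      rw [Subgroup.mem_subgroupOf] at hz
      rw [Subgroup.mem_center_iff]
      intro d
      have hd : (d : G) ∈ C := d.2.2
      have hzP : (z : G) ∈ P := hA hz
      have := (Subgroup.mem_centralizer_iff.1 hd) (z : G) hzP
      apply Subtype.ext
      simp only [Subgroup.coe_mul]
      exact this.symm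
    obtain ⟨K, hKn, hKcop, hKsup, hKmem⟩ := exists_normal_pComplement_of_le_center S hcen
    -- `K` maps to a normal `p'`-subgroup of `G`
    have hK'n : (K.map D.subtype).Normal := by
      constructor
      rintro _ ⟨k, hk, rfl⟩ g
      have hmem : g * (k : G) * g⁻¹ ∈ D := hDn.conj_mem _ k.2 g
      refine ⟨⟨g * (k : G) * g⁻¹, hmem⟩, ?_, rfl⟩
      rw [SetLike.mem_coe] at hk
      rw [SetLike.mem_coe, hKmem] at *
      have e1 : orderOf (⟨g * (k : G) * g⁻¹, hmem⟩ : D) = orderOf (g * (k : G) * g⁻¹) :=
        Subgroup.orderOf_mk _ _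
      have e2 : orderOf (g * (k : G) * g⁻¹) = orderOf (k : G) := by
        have := orderOf_injective (MulAut.conj g).toMonoidHom (MulAut.conj g).injective (k : G)
        simpa using this
      have e3 : orderOf (k : G) = orderOf k := Subgroup.orderOf_coe k
      rw [e1, e2, e3]
      exact hk
    have hK'card : (Nat.card (K.map D.subtype)).Coprime p := by
      rw [Nat.card_congr (K.equivMapOfInjective D.subtype D.subtype_injective).symm.toEquiv]
      exact hKcop
    have hK'bot : K.map D.subtype = ⊥ := by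
      have := le_pPrimeCore p (K.map D.subtype) hK'card
      rw [hO] at this
      exact le_bot_iff.mp this
    have hKbot : K = ⊥ := by
      rw [eq_bot_iff]
      intro k hk
      have : (k : G) ∈ K.map D.subtype := ⟨k, hk, rfl⟩
      rw [hK'bot, Subgroup.mem_bot] at this
      rw [Subgroup.mem_bot]
      exact Subtype.ext this
    rw [hKbot, bot_sup_eq, hScoe] at hKsup
    have hDZ : D ≤ Z := by
      intro d hd
      have : (⟨d, hd⟩ : D) ∈ Z.subgroupOf D := by rw [hKsup]; trivial
      exact this
    exact hDZ.trans hA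

/-- **Hall–Higman Lemma 1.2.3**: in a finite `p`-solvable group with `O_{p'}(G) = 1`,
`C_G(O_p(G)) ≤ O_p(G)`. -/
theorem centralizer_pCore_le_of_isPSolvable [Finite G] {p : ℕ} [Fact p.Prime]
    (h : IsPSolvable p G) (hO : pPrimeCore p G = ⊥) :
    Subgroup.centralizer (pCore p G : Set G) ≤ pCore p G := by
  obtain ⟨n, H, h0, hl, hmono, hnorm, hfac⟩ := isPSolvable_iff.1 h
  have key : ∀ i : Fin (n + 1), H i ⊓ Subgroup.centralizer (pCore p G : Set G) ≤ pCore p G := by
    intro i
    induction i using Fin.induction with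
    | zero => rw [h0, bot_inf_eq]; exact bot_le
    | succ i ih =>
      haveI := hnorm i.castSucc
      haveI := hnorm i.succ
      exact hallHigman_step hO (hmono (Fin.castSucc_le_succ i)) (hfac i) ih
  have := key (Fin.last n)
  rwa [hl, top_inf_eq] at this

end Cfsg.Agent.Lib.Helper76
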