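import Cfsg.Agent.Lib.Helper76.BGSigU3

set_option autoImplicit false
set_option linter.style.haveILetI false
set_option linter.unusedSectionVars false

/-!
# S1353, S1354: the centralizers `C_M(k)`, `k ∈ K#`, from B&G 13.4 (S1430)
-/

namespace Cfsg.Agent.Lib.Helper76.BGSigU

open Subgroup Cfsg
open scoped Pointwise

variable {G : Type*} [Group G] [Finite G]

/-- a `p`-subgroup of `M` is conjugate into a subgroup `E` of index prime to `p`. -/
theorem exists_conj_le_of_not_dvd {M E : Subgroup G} (_hEM : E ≤ M) {p : ℕ} [Fact p.Prime]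
    (hN : ¬ p ∣ E.relIndex M) {Q : Subgroup G} (hQ : IsPGroup p Q) (hQM : Q ≤ M) :
    ∃ m ∈ M, ∀ a ∈ Q, m⁻¹ * a * m ∈ E := by
  have hQ' : IsPGroup p (Q.subgroupOf M) := hQ.comap_subtype
  have hnd : ¬ p ∣ Nat.card (M ⧸ E.subgroupOf M) := by
    rw [← Subgroup.index_eq_card]; exact hN
  obtain ⟨q, hq⟩ := hQ'.nonempty_fixed_point_of_prime_not_dvd_card (M ⧸ E.subgroupOf M) hnd
  obtain ⟨m, rfl⟩ := QuotientGroup.mk_surjective q
  refine ⟨m.1, m.2, ?_⟩
  intro a ha
  have h1 := hq ⟨⟨a, hQM ha⟩, by simpa [Subgroup.mem_subgroupOf] using ha⟩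
  have h2 : (((⟨a, hQM ha⟩ : M) * m : M) : M ⧸ E.subgroupOf M) = (m : M ⧸ E.subgroupOf M) := h1
  rw [QuotientGroup.eq] at h2
  have h3 : ((((⟨a, hQM ha⟩ : M) * m)⁻¹ * m : M) : G) ∈ E := h2
  have h4 : (m : G)⁻¹ * a⁻¹ * (m : G) ∈ E := by simpa [mul_assoc] using h3
  have h5 := E.inv_mem h4
  simpa [mul_assoc] using h5

/-- a subgroup of prime order inside `⟨k⟩`, `k ≠ 1`. -/
theorem exists_prime_card_zpowers {k : G} (hk : k ≠ 1) :
    ∃ x : G, x ∈ Subgroup.zpowers k ∧ (Nat.card (Subgroup.zpowers x)).Prime := by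
  have hn1 : orderOf k ≠ 1 := fun h => hk (orderOf_eq_one_iff.1 h)
  have hn0 : 0 < orderOf k := orderOf_pos k
  have hp : (orderOf k).minFac.Prime := Nat.minFac_prime hn1
  have hpn : (orderOf k).minFac ∣ orderOf k := Nat.minFac_dvd _
  refine ⟨k ^ (orderOf k / (orderOf k).minFac), Subgroup.pow_mem _ (Subgroup.mem_zpowers k) _, ?_⟩
  rw [Nat.card_zpowers]
  have hd : orderOf k / (orderOf k).minFac ∣ orderOf k := Nat.div_dvd_of_dvd hpn
  have hne : orderOf k / (orderOf k).minFac ≠ 0 := by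
    intro h0
    rw [h0] at hd
    exact hn0.ne' (Nat.eq_zero_of_zero_dvd hd)
  rw [orderOf_pow_of_dvd hne hd, Nat.div_div_self hpn hn0.ne']
  exact hp

/-- `C_M(k) ≤ N_M(X)` for a subgroup `X` of `⟨k⟩`. -/
theorem centralizer_singleton_le_normalizer {k x : G} (hx : x ∈ Subgroup.zpowers k) :
    centralizer ({k} : Set G) ≤ normalizer ((Subgroup.zpowers x : Subgroup G) : Set G) := by
  intro u hu
  have huk : k * u = u * k := (Subgroup.mem_centralizer_iff.1 hu) k rfl
  have hcomm : ∀ z ∈ Subgroup.zpowers k, z * u = u * z := by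
    intro z hz
    obtain ⟨n, rfl⟩ := hz
    have : Commute k u := huk
    exact (this.zpow_left n).eq
  rw [Subgroup.mem_normalizer_iff]
  intro z
  have hzk : ∀ w, w ∈ Subgroup.zpowers x → w ∈ Subgroup.zpowers k := fun w hw =>
    (Subgroup.zpowers_le.2 hx) hw
  constructor
  · intro hz
    have h1 := hcomm z (hzk z hz)
    have : u * z * u⁻¹ = z := by rw [← h1]; group
    rw [this]; exact hz
  · intro hz
    have h1 := hcomm _ (hzk _ hz)
    -- (u z u⁻¹) u = u (u z u⁻¹)  ⇒  z = u z u⁻¹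
    have h2 : u * z * u⁻¹ = z := by
      have h3 : u * z * u⁻¹ * u = u * (u * z * u⁻¹) := h1
      have h4 : u * z = u * (u * z * u⁻¹) := by rw [← h3]; group
      exact (mul_left_cancel h4).symm
    rw [h2] at hz; exact hz

/-- **S1353**, armed on S1430. -/
theorem cent_U_K {M K U : Subgroup G} (h : IsSigmaDecomposition M K U)
    (h134 : ∀ X : Subgroup G, X ≤ K → (Nat.card X).Prime →
      M ⊓ normalizer (X : Set G) = K ⊔ (sigmaCore M ⊓ centralizer (K : Set G))) :
    ∀ k ∈ K, k ≠ 1 → U ⊓ centralizer ({k} : Set G) = ⊥ := by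
  intro k hk hk1
  obtain ⟨x, hx, hxp⟩ := exists_prime_card_zpowers hk1
  have hXK : Subgroup.zpowers x ≤ K := (Subgroup.zpowers_le.2 hx).trans (Subgroup.zpowers_le.2 hk)
  have h1 := h134 _ hXK hxp
  rw [eq_bot_iff]
  rintro u ⟨huU, huC⟩
  have h2 : u ∈ M ⊓ normalizer ((Subgroup.zpowers x : Subgroup G) : Set G) :=
    ⟨U_le h huU, centralizer_singleton_le_normalizer hx huC⟩
  rw [h1] at h2
  have h3 : u ∈ K ⊔ sigmaCore M := (sup_le_sup_left inf_le_left K) h2
  have h4 : u ∈ U ⊓ (K ⊔ sigmaCore M) := ⟨huU, h3⟩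
  rw [h.compl.2.2.1] at h4
  exact h4

/-- **S1354**, armed on S1430. -/
theorem cent_M_K {M K : Subgroup G} (hne : sigmaCore M ≠ ⊥) (hKc : IsCyclic K)
    (hK : IsPiHallOf (kappa M) K M)
    (h134a : K ≠ ⊥ → ∀ k ∈ K, k ≠ 1 → sigmaCore M ⊓ centralizer ({k} : Set G) =
      sigmaCore M ⊓ centralizer (K : Set G))
    (h134 : K ≠ ⊥ → ∀ X : Subgroup G, X ≤ K → (Nat.card X).Prime →
      M ⊓ normalizer (X : Set G) = K ⊔ (sigmaCore M ⊓ centralizer (K : Set G))) :
    sigmaCore M ⊓ centralizer (K : Set G) ≠ ⊥ ∧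
      (K ≠ ⊥ → ∀ k ∈ K, k ≠ 1 →
        M ⊓ centralizer ({k} : Set G) = K ⊔ (sigmaCore M ⊓ centralizer (K : Set G))) := by
  constructor
  · by_cases hK1 : K = ⊥
    · subst hK1
      have : centralizer (((⊥ : Subgroup G) : Subgroup G) : Set G) = ⊤ := by
        rw [eq_top_iff]
        intro g _
        rw [Subgroup.mem_centralizer_iff]
        intro z hz
        have : z = 1 := hz
        rw [this, one_mul, mul_one]
      rw [this, inf_top_eq]
      exact hne
    · -- a prime `p ∈ κ(M)` dividing `|K|`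
      have hcard : Nat.card K ≠ 1 := fun h1 => hK1 ((Subgroup.card_eq_one).1 h1)
      obtain ⟨p, hp, hpK⟩ := Nat.exists_prime_and_dvd hcard
      haveI : Fact p.Prime := ⟨hp⟩
      have hpκ : p ∈ kappa M := hK.2.1 p hp hpK
      obtain ⟨P⟩ : Nonempty (Sylow p M) := inferInstance
      obtain ⟨_, x, hxP, hx1, y, hyS, hy1, hxy⟩ := hpκ.2.2.2 P
      have hQ : IsPGroup p (Subgroup.zpowers (x : G)) := by
        have h1 : IsPGroup p (Subgroup.zpowers x) := P.2.to_le ((Subgroup.zpowers_le).2 hxP)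
        rintro ⟨_, ⟨n, rfl⟩⟩
        obtain ⟨j, hj⟩ := h1 ⟨x ^ n, ⟨n, rfl⟩⟩
        refine ⟨j, Subtype.ext ?_⟩
        have h2 := congrArg Subtype.val hj
        have h3 : ((x ^ n : M) : G) ^ p ^ j = 1 := by simpa using congrArg Subtype.val h2
        simpa using h3
      have hQM : Subgroup.zpowers (x : G) ≤ M := (Subgroup.zpowers_le).2 x.2
      obtain ⟨m, hmM, hm⟩ := exists_conj_le_of_not_dvd hK.1 (hK.2.2 p hp hpκ) hQ hQM
      have hx' : m⁻¹ * (x : G) * m ∈ K := hm _ (Subgroup.mem_zpowers _)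
      have hx'1 : m⁻¹ * (x : G) * m ≠ 1 := by
        intro h0
        apply hx1
        apply Subtype.ext
        have : (x : G) = m * (m⁻¹ * (x : G) * m) * m⁻¹ := by group
        rw [this, h0]; simp
      have hy' : m⁻¹ * y * m ∈ sigmaCore M := by
        have := ((Subgroup.mem_normalizer_iff.1
          (le_normalizer_sigmaCore' M (M.inv_mem hmM))) y).1 hyS
        simpa using this
      have hy'1 : m⁻¹ * y * m ≠ 1 := by
        intro h0
        apply hy1
        have : y = m * (m⁻¹ * y * m) * m⁻¹ := by group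
        rw [this, h0]; simp
      have hcomm : (m⁻¹ * (x : G) * m) * (m⁻¹ * y * m) = (m⁻¹ * y * m) * (m⁻¹ * (x : G) * m) := by
        calc (m⁻¹ * (x : G) * m) * (m⁻¹ * y * m) = m⁻¹ * ((x : G) * y) * m := by group
          _ = m⁻¹ * (y * (x : G)) * m := by rw [hxy]
          _ = _ := by group
      have hmem : m⁻¹ * y * m ∈ sigmaCore M ⊓ centralizer ({m⁻¹ * (x : G) * m} : Set G) := by
        refine Subgroup.mem_inf.2 ⟨hy', ?_⟩
        rw [Subgroup.mem_centralizer_iff]
        intro z hz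
        rw [Set.mem_singleton_iff] at hz
        rw [hz]; exact hcomm
      rw [h134a hK1 _ hx' hx'1] at hmem
      intro h0
      rw [h0] at hmem
      exact hy'1 hmem
  · intro hK1 k hk hk1
    obtain ⟨x, hx, hxp⟩ := exists_prime_card_zpowers hk1
    have hXK : Subgroup.zpowers x ≤ K :=
      (Subgroup.zpowers_le.2 hx).trans (Subgroup.zpowers_le.2 hk)
    have h1 := h134 hK1 _ hXK hxp
    apply le_antisymm
    · rw [← h1]
      exact inf_le_inf_left _ (centralizer_singleton_le_normalizer hx)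
    · apply sup_le
      · refine le_inf hK.1 ?_
        intro a ha
        rw [Subgroup.mem_centralizer_iff]
        intro z hz
        rw [Set.mem_singleton_iff] at hz
        subst hz
        obtain ⟨g, hg⟩ := hKc.exists_generator
        obtain ⟨i, hi⟩ := Subgroup.mem_zpowers_iff.1 (hg ⟨a, ha⟩)
        obtain ⟨j, hj⟩ := Subgroup.mem_zpowers_iff.1 (hg ⟨z, hk⟩)
        have h2 : (⟨z, hk⟩ : K) * ⟨a, ha⟩ = ⟨a, ha⟩ * ⟨z, hk⟩ := by
          rw [← hi, ← hj, ← zpow_add, ← zpow_add, add_comm]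
        exact congrArg Subtype.val h2
      · refine le_inf (inf_le_left.trans ?_) (inf_le_right.trans ?_)
        · intro s hs
          obtain ⟨s', _, rfl⟩ := hs
          exact s'.2
        · exact Subgroup.centralizer_le (by
            intro z hz
            rw [Set.mem_singleton_iff] at hz
            rw [hz]; exact hk)

end Cfsg.Agent.Lib.Helper76.BGSigU
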