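import Cfsg.Agent.Lib.Helper76.PGroup
import Mathlib.GroupTheory.Nilpotent

set_option autoImplicit false

namespace Cfsg.Agent.Lib.Helper76

open Subgroup

universe u

/-- the centre of a nontrivial finite `p`-group has order divisible by `p`. -/
theorem dvd_card_center {G : Type*} [Group G] [Finite G] {p : ℕ} [Fact p.Prime]
    (hG : IsPGroup p G) [Nontrivial G] : p ∣ Nat.card (center G) := by
  haveI := hG.center_nontrivial
  rcases (hG.to_subgroup (center G)).card_eq_or_dvd with h | h
  · exfalso
    have := (Nat.card_eq_one_iff_unique.1 h).1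
    exact not_subsingleton (center G) this
  · exact h

/-- `|G/Z(G)|` divides `p^n` when `|G|` divides `p^(n+1)` and `G` is nontrivial. -/
theorem card_quotient_center_dvd {G : Type*} [Group G] [Finite G] {p : ℕ} [Fact p.Prime]
    [Nontrivial G] {n : ℕ} (h : Nat.card G ∣ p ^ (n + 1)) :
    Nat.card (G ⧸ center G) ∣ p ^ n := by
  have hp : p.Prime := Fact.out
  have hG : IsPGroup p G := IsPGroup.of_card_dvd_pow h
  have h1 := dvd_card_center hG
  have h2 : Nat.card (center G) * (center G).index = Nat.card G := Subgroup.card_mul_index _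
  obtain ⟨c, hc⟩ := h1
  have h3 : p * (c * (center G).index) ∣ p * p ^ n := by
    rw [← mul_assoc, ← hc, h2, ← pow_succ']; exact h
  have h4 := Nat.dvd_of_mul_dvd_mul_left hp.pos h3
  exact (Dvd.intro_left _ rfl).trans h4

theorem comm_of_card_dvd_sq {G : Type*} [Group G] [Finite G] {p : ℕ} [Fact p.Prime]
    (h : Nat.card G ∣ p ^ 2) : ∀ a b : G, a * b = b * a := by
  have hp : p.Prime := Fact.out
  rcases subsingleton_or_nontrivial G with hs | hn
  · intro a b; exact Subsingleton.elim _ _
  · apply comm_of_center_index_dvd_prime hp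
    have := card_quotient_center_dvd (n := 1) h
    rwa [pow_one] at this

theorem nilpotencyClass_le_of_card_dvd {p : ℕ} [Fact p.Prime] (n : ℕ) :
    ∀ (G : Type u) [Group G] [Finite G], Nat.card G ∣ p ^ (n + 2) →
      Group.nilpotencyClass G ≤ n + 1 := by
  induction n with
  | zero =>
    intro G _ _ h
    have hG : IsPGroup p G := IsPGroup.of_card_dvd_pow h
    haveI := hG.isNilpotent
    rw [Group.IsNilpotent.nilpotencyClass_le_one_iff]
    exact ⟨⟨comm_of_card_dvd_sq h⟩⟩
  | succ n ih =>
    intro G _ _ h
    have hG : IsPGroup p G := IsPGroup.of_card_dvd_pow h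
    haveI := hG.isNilpotent
    rcases subsingleton_or_nontrivial G with hs | hn
    · have := Group.nilpotencyClass_zero_iff_subsingleton.2 hs
      omega
    · rw [Group.nilpotencyClass_eq_quotient_center_plus_one]
      have h1 := ih (G ⧸ center G) (card_quotient_center_dvd h)
      omega

theorem nilpotencyClass_le_two_iff {G : Type*} [Group G] [Group.IsNilpotent G] :
    Group.nilpotencyClass G ≤ 2 ↔ commutator G ≤ center G := by
  rw [← Subgroup.lowerCentralSeries_eq_bot_iff_nilpotencyClass_le]
  have h1 : (⊤ : Subgroup G).lowerCentralSeries 2 = ⁅commutator G, (⊤ : Subgroup G)⁆ := rfl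
  rw [h1, commutator_eq_bot_iff_le_centralizer, coe_top, centralizer_univ]

/-- A nonabelian group of order `p^3` has derived subgroup of index `p^2`. -/
theorem index_commutator_of_card_cube {Q : Type*} [Group Q] [Finite Q] {p : ℕ} [Fact p.Prime]
    (hQ : Nat.card Q = p ^ 3) (hna : ¬ ∀ a b : Q, a * b = b * a) :
    (commutator Q).index = p ^ 2 := by
  have hp : p.Prime := Fact.out
  have hG : IsPGroup p Q := IsPGroup.of_card hQ
  haveI : Nontrivial Q := by
    rw [← Finite.one_lt_card_iff_nontrivial, hQ]
    exact Nat.one_lt_pow (by norm_num) hp.one_lt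
  have hqd : Nat.card (Q ⧸ center Q) ∣ p ^ 2 := card_quotient_center_dvd (n := 2) (by rw [hQ])
  have hDZ : commutator Q ≤ center Q := by
    letI : CommGroup (Q ⧸ center Q) :=
      { (inferInstance : Group (Q ⧸ center Q)) with mul_comm := comm_of_card_dvd_sq hqd }
    have := Abelianization.commutator_subset_ker (QuotientGroup.mk' (center Q))
    rwa [QuotientGroup.ker_mk'] at this
  have hnot : ¬ (center Q).index ∣ p := fun h => hna (comm_of_center_index_dvd_prime hp h)
  have hidx : (center Q).index = p ^ 2 := by
    obtain ⟨j, hj2, hj⟩ := (Nat.dvd_prime_pow hp).1 hqd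
    have hj' : (center Q).index = p ^ j := hj
    rcases (by omega : j = 0 ∨ j = 1 ∨ j = 2) with h | h | h
    · exfalso; apply hnot; rw [hj', h, pow_zero]; exact one_dvd p
    · exfalso; apply hnot; rw [hj', h, pow_one]
    · rw [hj', h]
  have hZcard : Nat.card (center Q) = p := by
    have h2 : Nat.card (center Q) * (center Q).index = Nat.card Q := Subgroup.card_mul_index _
    rw [hidx, hQ] at h2
    apply Nat.eq_of_mul_eq_mul_right (pow_pos hp.pos 2)
    rw [h2]; ring
  have hD1 : commutator Q ≠ ⊥ := by
    intro h
    apply hna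
    have h2 := (commutator_eq_bot_iff_center_eq_top Q).1 h
    intro a b
    have : b ∈ center Q := by rw [h2]; exact mem_top b
    rw [mem_center_iff] at this
    exact this a
  have hDcard : Nat.card (commutator Q) = p := by
    have h1 : Nat.card (commutator Q) ∣ p := hZcard ▸ Subgroup.card_dvd_of_le hDZ
    rcases (Nat.dvd_prime hp).1 h1 with h | h
    · exact absurd (Subgroup.card_eq_one.1 h) hD1
    · exact h
  have h3 : Nat.card (commutator Q) * (commutator Q).index = Nat.card Q :=
    Subgroup.card_mul_index _
  rw [hDcard, hQ] at h3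
  apply Nat.eq_of_mul_eq_mul_left hp.pos
  rw [h3]; ring

end Cfsg.Agent.Lib.Helper76
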