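import Cfsg.Agent.Lib.Helper76.BGSigU

set_option autoImplicit false
set_option linter.style.haveILetI false
set_option linter.unusedSectionVars false

/-!
# S1358: the Sylow subgroups of `U` are abelian of rank at most 2
-/

namespace Cfsg.Agent.Lib.Helper76.BGSigU

open Subgroup Cfsg

variable {G : Type*} [Group G] [Finite G]

omit [Finite G] in
theorem pRankLE_of_le {p k : ℕ} {H K : Subgroup G} (h : H ≤ K) (hK : PRankLE p k K) :
    PRankLE p k H := by
  intro E hE hEp
  have h1 : Nat.card (E.map (Subgroup.inclusion h)) = Nat.card E :=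
    Subgroup.card_map_of_injective (Subgroup.inclusion_injective h)
  rw [← h1]
  apply hK
  · refine isMulCommutative_iff.2 ?_
    rintro ⟨_, ⟨a, ha, rfl⟩⟩ ⟨_, ⟨b, hb, rfl⟩⟩
    apply Subtype.ext
    have := (isMulCommutative_iff.1 hE) ⟨a, ha⟩ ⟨b, hb⟩
    have h2 : a * b = b * a := congrArg Subtype.val this
    change Subgroup.inclusion h a * Subgroup.inclusion h b = Subgroup.inclusion h b * Subgroup.inclusion h a
    rw [← map_mul, ← map_mul, h2]
  · rintro _ ⟨a, ha, rfl⟩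
    rw [← map_pow, hEp a ha, map_one]

/-- an elementary abelian subgroup of order `p ^ 2` inside `M` when `M` has `p`-rank at least 2. -/
theorem exists_elemAb_sq {p : ℕ} [Fact p.Prime] {M : Subgroup G} (h : ¬ PRankLE p 1 M) :
    ∃ A : Subgroup G, A ≤ M ∧ IsElementaryAbelian p A ∧ Nat.card A = p ^ 2 := by
  have hp : p.Prime := Fact.out
  unfold PRankLE at h
  push Not at h
  obtain ⟨A₁, hA₁c, hA₁p, hcard⟩ := h
  have hPG : IsPGroup p A₁ := by
    intro a
    exact ⟨1, by rw [pow_one]; exact Subtype.ext (by simpa using hA₁p a.1 a.2)⟩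
  obtain ⟨n, hn⟩ := IsPGroup.iff_card.1 hPG
  have hn2 : 2 ≤ n := by
    by_contra hlt
    push Not at hlt
    have : p ^ n ≤ p ^ 1 := Nat.pow_le_pow_right hp.pos (by omega)
    rw [hn] at hcard
    omega
  obtain ⟨B, hB⟩ := Sylow.exists_subgroup_card_pow_prime (G := A₁) p
    (show p ^ 2 ∣ Nat.card A₁ from hn ▸ pow_dvd_pow p hn2)
  refine ⟨(B.map A₁.subtype).map M.subtype, ?_, ⟨?_, ?_⟩, ?_⟩
  · rintro _ ⟨m, _, rfl⟩
    exact m.2
  · refine isMulCommutative_iff.2 ?_
    rintro ⟨_, ⟨_, ⟨a, ha, rfl⟩, rfl⟩⟩ ⟨_, ⟨_, ⟨b, hb, rfl⟩, rfl⟩⟩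
    apply Subtype.ext
    have := (isMulCommutative_iff.1 hA₁c) a b
    have h2 : (a : M) * (b : M) = (b : M) * (a : M) := congrArg Subtype.val this
    have h3 : ((a : M) : G) * ((b : M) : G) = ((b : M) : G) * ((a : M) : G) := congrArg Subtype.val h2
    exact h3
  · rintro _ ⟨_, ⟨a, ha, rfl⟩, rfl⟩
    have := hA₁p a.1 a.2
    have h2 : ((a : M) : G) ^ p = 1 := by simpa using congrArg Subtype.val this
    exact h2
  · rw [Subgroup.card_map_of_injective M.subtype_injective,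
      Subgroup.card_map_of_injective A₁.subtype_injective, hB]

/-- **Core of S1358.** A `p`-subgroup of `U` is abelian of rank at most 2. -/
theorem pSubgroup_U (hodd : Odd (Nat.card G)) {M K U : Subgroup G}
    (hσ : IsPiHallOf (sigma M) (sigmaCore M) M)
    (hα : IsPiHallOf (alpha M) (alphaCore M) M) (hle : alphaCore M ≤ sigmaCore M)
    (h125 : ∀ (p : ℕ) [Fact p.Prime], p ∈ tau2 M → ∀ A : Subgroup G,
      (A ≤ M ∧ IsElementaryAbelian p A ∧ Nat.card A = p ^ 2) →
      ∀ P : Sylow p M, IsMulCommutative (P : Subgroup M))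
    (h : IsSigmaDecomposition M K U) {p : ℕ} [Fact p.Prime] {Q : Subgroup G} (hQ : IsPGroup p Q)
    (hQU : Q ≤ U) : (∀ x ∈ Q, ∀ y ∈ Q, x * y = y * x) ∧ PRankLE p 2 Q := by
  have hp : p.Prime := Fact.out
  by_cases hQ1 : Q = ⊥
  · subst hQ1
    constructor
    · intro x hx y hy
      rw [Subgroup.mem_bot] at hx hy
      rw [hx, hy]
    · intro E _ _
      have : Nat.card E = 1 := by
        have : Subsingleton (⊥ : Subgroup G) := inferInstance
        have : Subsingleton E := inferInstance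
        exact Nat.card_eq_one_iff_unique.2 ⟨inferInstance, ⟨1⟩⟩
      rw [this]; exact Nat.one_le_pow _ _ hp.pos
  have hQM : Q ≤ M := hQU.trans (U_le h)
  -- an element of order `p`
  obtain ⟨y, hyQ, hy1, hyp⟩ : ∃ y ∈ Q, y ≠ 1 ∧ y ^ p = 1 := by
    have hne : Nat.card Q ≠ 1 := by
      intro h1
      exact hQ1 ((Subgroup.card_eq_one).1 h1)
    obtain ⟨n, hn⟩ := IsPGroup.iff_card.1 hQ
    have hpd : p ∣ Nat.card Q := by
      rw [hn]
      rcases n with _ | n
      · exact absurd (by rw [hn, pow_zero]) hne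
      · exact dvd_pow_self p (Nat.succ_ne_zero n)
    obtain ⟨a, ha⟩ := exists_prime_orderOf_dvd_card' p hpd
    refine ⟨a.1, a.2, ?_, ?_⟩
    · intro h1
      have : a = 1 := Subtype.ext h1
      rw [this, orderOf_one] at ha
      exact hp.one_lt.ne ha
    · have := pow_orderOf_eq_one a
      rw [ha] at this
      simpa using congrArg Subtype.val this
  have hps : p ∉ sigma M := not_sigma_of_mem_U hσ h (hQU hyQ) hy1 hyp
  have hr2 : PRankLE p 2 M := pRankLE_two_of_not_sigma hσ hα hle hp hps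
  refine ⟨?_, pRankLE_of_le hQM hr2⟩
  by_cases hr1 : PRankLE p 1 M
  · -- cyclic
    have hp2 : p ≠ 2 := by
      rintro rfl
      have h2 : 2 ∣ Nat.card G := by
        have h3 : orderOf y = 2 := orderOf_eq_prime hyp hy1
        exact h3 ▸ orderOf_dvd_natCard y
      exact (Nat.not_even_iff_odd.2 hodd) (even_iff_two_dvd.2 h2)
    have hQ1' : Cfsg.Agent.Lib.Helper49.RankLEOne p Q := by
      intro A hA hAp
      have := pRankLE_of_le hQM hr1 A hA hAp
      simpa using this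
    have hcyc := Cfsg.Agent.Lib.Helper49.isCyclic_of_isPGroup_rankLEOne hp2 hQ hQ1'
    intro a ha b hb
    obtain ⟨g, hg⟩ := hcyc.exists_generator
    obtain ⟨m, hm⟩ := Subgroup.mem_zpowers_iff.1 (hg ⟨a, ha⟩)
    obtain ⟨n, hn⟩ := Subgroup.mem_zpowers_iff.1 (hg ⟨b, hb⟩)
    have h1 : (⟨a, ha⟩ : Q) * ⟨b, hb⟩ = ⟨b, hb⟩ * ⟨a, ha⟩ := by
      rw [← hm, ← hn, ← zpow_add, ← zpow_add, add_comm]
    exact congrArg Subtype.val h1
  · -- `p ∈ τ₂(M)`
    have hτ : p ∈ tau2 M := ⟨hp, hps, hr2, hr1⟩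
    obtain ⟨A, hA⟩ := exists_elemAb_sq hr1
    have hQ' : IsPGroup p (Q.subgroupOf M) := hQ.comap_subtype
    obtain ⟨P, hP⟩ := hQ'.exists_le_sylow
    have hc := h125 p hτ A hA P
    intro a ha b hb
    have ha' : (⟨a, hQM ha⟩ : M) ∈ (P : Subgroup M) := hP (by simpa [Subgroup.mem_subgroupOf] using ha)
    have hb' : (⟨b, hQM hb⟩ : M) ∈ (P : Subgroup M) := hP (by simpa [Subgroup.mem_subgroupOf] using hb)
    have := (isMulCommutative_iff.1 hc) ⟨_, ha'⟩ ⟨_, hb'⟩
    have h2 : (⟨a, hQM ha⟩ : M) * ⟨b, hQM hb⟩ = ⟨b, hQM hb⟩ * ⟨a, hQM ha⟩ := congrArg Subtype.val this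
    exact congrArg Subtype.val h2

/-- **S1358**, with the statements it is armed on as hypotheses. -/
theorem sylow_U (hodd : Odd (Nat.card G)) {M K U : Subgroup G}
    (hσ : IsPiHallOf (sigma M) (sigmaCore M) M)
    (hα : IsPiHallOf (alpha M) (alphaCore M) M) (hle : alphaCore M ≤ sigmaCore M)
    (h125 : ∀ (p : ℕ) [Fact p.Prime], p ∈ tau2 M → ∀ A : Subgroup G,
      (A ≤ M ∧ IsElementaryAbelian p A ∧ Nat.card A = p ^ 2) →
      ∀ P : Sylow p M, IsMulCommutative (P : Subgroup M))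
    (h : IsSigmaDecomposition M K U) :
    ∀ (p : ℕ), p.Prime → ∀ P : Sylow p U,
      IsMulCommutative (P : Subgroup U) ∧ PRankLE p 2 (P : Subgroup U) := by
  intro p hp P
  haveI : Fact p.Prime := ⟨hp⟩
  have hQ : IsPGroup p ((P : Subgroup U).map U.subtype) := P.2.map _
  have hQU : (P : Subgroup U).map U.subtype ≤ U := by
    rintro _ ⟨u, _, rfl⟩; exact u.2
  obtain ⟨hc, hr⟩ := pSubgroup_U hodd hσ hα hle h125 h hQ hQU
  constructor
  · refine isMulCommutative_iff.2 ?_
    rintro ⟨a, ha⟩ ⟨b, hb⟩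
    apply Subtype.ext
    apply Subtype.ext
    exact hc a ⟨a, ha, rfl⟩ b ⟨b, hb, rfl⟩
  · intro E hE hEp
    -- transport `E` to a subgroup of `Q`
    let f : (P : Subgroup U) →* ((P : Subgroup U).map U.subtype) :=
      (U.subtype.comp (P : Subgroup U).subtype).codRestrict _ (fun x => ⟨x.1, x.2, rfl⟩)
    have hf : Function.Injective f := by
      intro x y hxy
      have h0 : ((f x : ((P : Subgroup U).map U.subtype)) : G) = (f y : ((P : Subgroup U).map U.subtype)) :=
        congrArg Subtype.val hxy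
      have h1 : ((x : U) : G) = ((y : U) : G) := h0
      exact Subtype.ext (Subtype.ext h1)
    have h1 : Nat.card (E.map f) = Nat.card E := Subgroup.card_map_of_injective hf
    rw [← h1]
    apply hr
    · refine isMulCommutative_iff.2 ?_
      rintro ⟨_, ⟨a, ha, rfl⟩⟩ ⟨_, ⟨b, hb, rfl⟩⟩
      apply Subtype.ext
      have := (isMulCommutative_iff.1 hE) ⟨a, ha⟩ ⟨b, hb⟩
      have h2 : a * b = b * a := congrArg Subtype.val this
      change f a * f b = f b * f a
      rw [← map_mul, ← map_mul, h2]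
    · rintro _ ⟨a, ha, rfl⟩
      rw [← map_pow, hEp a ha, map_one]

end Cfsg.Agent.Lib.Helper76.BGSigU
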