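import Mathlib.GroupTheory.Transfer
import Mathlib.GroupTheory.Nilpotent
import Mathlib.GroupTheory.Sylow
import Cfsg.Prelude.Def_OddOrderLocal

set_option autoImplicit false
set_option linter.style.haveILetI false

/-!
# BG 12.4, last step: a maximal elementary abelian `p`-subgroup cannot be central in its normalizer

`G` a non-abelian simple group, `A` an elementary abelian `p`-subgroup of order `p ^ 2`,
maximal among the elementary abelian `p`-subgroups of `G`, with `N_G(A) ≤ C_G(A)`.  Given the
rank-2 Sylow structure theorem (BG 10.7(b), statement S1412) in a weak form, this is impossible.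
-/

namespace Cfsg.Agent.Lib.Helper76.BGCentNorm

open Subgroup

variable {G : Type*} [Group G]

theorem elemAb_isPGroup {p : ℕ} [Fact p.Prime] {A : Subgroup G}
    (hA : Cfsg.IsElementaryAbelian p A) : IsPGroup p A := by
  intro g
  refine ⟨1, ?_⟩
  have := hA.2 g.1 g.2
  apply Subtype.ext
  simpa using this

theorem elemAb_comm {p : ℕ} {A : Subgroup G} (hA : Cfsg.IsElementaryAbelian p A) :
    ∀ x ∈ A, ∀ y ∈ A, x * y = y * x := by
  intro x hx y hy
  have h := hA.1
  have := (isMulCommutative_iff.1 h) ⟨x, hx⟩ ⟨y, hy⟩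
  exact congrArg Subtype.val this

theorem elemAb_closure {p : ℕ} {S : Set G} (hcomm : ∀ x ∈ S, ∀ y ∈ S, x * y = y * x)
    (hpow : ∀ x ∈ S, x ^ p = 1) : Cfsg.IsElementaryAbelian p (Subgroup.closure S) := by
  have hc : ∀ x ∈ Subgroup.closure S, ∀ y ∈ Subgroup.closure S, x * y = y * x := by
    intro x hx y hy
    have h1 : ∀ y ∈ Subgroup.closure S, ∀ s ∈ S, s * y = y * s := by
      intro y hy s hs
      induction hy using Subgroup.closure_induction with
      | mem z hz => exact hcomm s hs z hz
      | one => simp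
      | mul a b _ _ ha hb => rw [← mul_assoc, ha, mul_assoc, hb, mul_assoc]
      | inv a _ ha =>
        have : a⁻¹ * (s * a) * a⁻¹ = a⁻¹ * (a * s) * a⁻¹ := by rw [ha]
        simpa [mul_assoc] using this.symm
    induction hx using Subgroup.closure_induction with
    | mem z hz => exact h1 y hy z hz
    | one => simp
    | mul a b _ _ ha hb => rw [mul_assoc, hb, ← mul_assoc, ha, mul_assoc]
    | inv a _ ha =>
      have : a⁻¹ * (a * y) * a⁻¹ = a⁻¹ * (y * a) * a⁻¹ := by rw [ha]
      simpa [mul_assoc] using this.symm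
  refine ⟨isMulCommutative_iff.2 fun a b => Subtype.ext (hc a.1 a.2 b.1 b.2), ?_⟩
  intro a ha
  induction ha using Subgroup.closure_induction with
  | mem z hz => exact hpow z hz
  | one => simp
  | mul a b ha' hb' ha hb =>
    have hab : Commute a b := hc a ha' b hb'
    rw [hab.mul_pow, ha, hb, one_mul]
  | inv a _ ha => rw [inv_pow, ha, inv_one]

theorem elemAb_sup {p : ℕ} {A B : Subgroup G} (hA : Cfsg.IsElementaryAbelian p A)
    (hB : Cfsg.IsElementaryAbelian p B) (hAB : ∀ a ∈ A, ∀ b ∈ B, a * b = b * a) :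
    Cfsg.IsElementaryAbelian p (A ⊔ B) := by
  have : A ⊔ B = Subgroup.closure ((A : Set G) ∪ (B : Set G)) := by
    rw [Subgroup.closure_union, Subgroup.closure_eq, Subgroup.closure_eq]
  rw [this]
  apply elemAb_closure
  · rintro x (hx | hx) y (hy | hy)
    · exact elemAb_comm hA x hx y hy
    · exact hAB x hx y hy
    · exact (hAB y hy x hx).symm
    · exact elemAb_comm hB x hx y hy
  · rintro x (hx | hx)
    · exact hA.2 x hx
    · exact hB.2 x hx

theorem elemAb_map {p : ℕ} {A : Subgroup G} (hA : Cfsg.IsElementaryAbelian p A) (f : G →* G) :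
    Cfsg.IsElementaryAbelian p (A.map f) := by
  refine ⟨isMulCommutative_iff.2 ?_, ?_⟩
  · rintro ⟨x, hx⟩ ⟨y, hy⟩
    obtain ⟨a, ha, rfl⟩ := hx
    obtain ⟨b, hb, rfl⟩ := hy
    apply Subtype.ext
    change f a * f b = f b * f a
    rw [← map_mul, ← map_mul, elemAb_comm hA a ha b hb]
  · rintro x ⟨a, ha, rfl⟩
    rw [← map_pow, hA.2 a ha, map_one]

theorem elemAb_zpowers {p : ℕ} {x : G} (hx : x ^ p = 1) :
    Cfsg.IsElementaryAbelian p (Subgroup.zpowers x) := by
  refine ⟨isMulCommutative_iff.2 ?_, ?_⟩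
  · rintro ⟨a, ha⟩ ⟨b, hb⟩
    obtain ⟨m, rfl⟩ := ha
    obtain ⟨n, rfl⟩ := hb
    apply Subtype.ext
    change x ^ m * x ^ n = x ^ n * x ^ m
    rw [← zpow_add, ← zpow_add, add_comm]
  · rintro a ⟨m, rfl⟩
    change (x ^ m) ^ p = 1
    rw [← zpow_natCast, ← zpow_mul, mul_comm, zpow_mul, zpow_natCast, hx, one_zpow]

/-- Main theorem. -/
theorem false_of_normalizer_le_centralizer [Finite G]
    (hsimple : IsSimpleGroup G) (hnc : ¬ IsMulCommutative G) (p : ℕ) [Fact p.Prime]
    (h12 : ∀ P : Sylow p G, Cfsg.PRankLE p 2 ↥(P : Subgroup G) →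
      IsMulCommutative ↥(P : Subgroup G) ∨
        ∃ P₁ : Subgroup G, P₁ ≤ (P : Subgroup G) ∧ ¬ IsMulCommutative ↥P₁ ∧ Monoid.exponent ↥P₁ = p)
    (A : Subgroup G) (hA : Cfsg.IsElementaryAbelian p A) (hcard : Nat.card A = p ^ 2)
    (hmax : ∀ B : Subgroup G, Cfsg.IsElementaryAbelian p B → A ≤ B → B = A)
    (hN : Subgroup.normalizer (A : Set G) ≤ Subgroup.centralizer (A : Set G)) : False := by
  have hp : p.Prime := Fact.out
  obtain ⟨S, hAS⟩ := (elemAb_isPGroup hA).exists_le_sylow
  -- membership in the normalizer from `conj y '' A ⊆ A`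
  have hnorm : ∀ y : G, (∀ a ∈ A, y * a * y⁻¹ ∈ A) → y ∈ Subgroup.normalizer (A : Set G) := by
    intro y hy
    have hle : A.map (MulAut.conj y).toMonoidHom ≤ A := by
      rintro _ ⟨a, ha, rfl⟩
      simpa using hy a ha
    have hcard' : Nat.card (A.map (MulAut.conj y).toMonoidHom) = Nat.card A :=
      Subgroup.card_map_of_injective (MulAut.conj y).injective
    have heq : A.map (MulAut.conj y).toMonoidHom = A :=
      Subgroup.eq_of_le_of_card_ge hle (le_of_eq hcard'.symm)
    rw [Subgroup.mem_normalizer_iff]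
    intro h
    constructor
    · intro hh; exact hy h hh
    · intro hh
      have : y * h * y⁻¹ ∈ A.map (MulAut.conj y).toMonoidHom := by rw [heq]; exact hh
      obtain ⟨b, hb, hbe⟩ := this
      have hbe' : y * b * y⁻¹ = y * h * y⁻¹ := by simpa using hbe
      have : b = h := by
        have := congrArg (fun z => y⁻¹ * z * y) hbe'
        simpa [mul_assoc] using this
      exact this ▸ hb
  -- Step 2: `A` is central in `S`
  have hcentral : ∀ s ∈ (S : Subgroup G), ∀ a ∈ A, s * a = a * s := by
    by_contra hcon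
    let C : Subgroup G := (S : Subgroup G) ⊓ Subgroup.centralizer (A : Set G)
    have hCne : C.subgroupOf (S : Subgroup G) ≠ ⊤ := by
      intro htop
      apply hcon
      intro s hs a ha
      have : (⟨s, hs⟩ : (S : Subgroup G)) ∈ C.subgroupOf (S : Subgroup G) := by
        rw [htop]; trivial
      have hsC : s ∈ C := this
      exact ((Subgroup.mem_centralizer_iff.1 hsC.2) a ha).symm
    haveI : Group.IsNilpotent ↥(S : Subgroup G) := S.2.isNilpotent
    have hncond := Group.normalizerCondition_of_isNilpotent (G := ↥(S : Subgroup G))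
    have hlt := hncond _ (lt_top_iff_ne_top.2 hCne)
    obtain ⟨y, hyN, hyC⟩ := SetLike.exists_of_lt hlt
    -- `A ≤ C`
    have hAC : ∀ a ∈ A, a ∈ C := fun a ha =>
      ⟨hAS ha, Subgroup.mem_centralizer_iff.2 fun b hb => elemAb_comm hA b hb a ha⟩
    have hconj : ∀ a ∈ A, (y : G) * a * (y : G)⁻¹ ∈ C := by
      intro a ha
      have h1 : (⟨a, hAS ha⟩ : (S : Subgroup G)) ∈ C.subgroupOf (S : Subgroup G) := hAC a ha
      have h2 := (Subgroup.mem_normalizer_iff.1 hyN _).1 h1
      exact h2
    let B : Subgroup G := A ⊔ A.map (MulAut.conj (y : G)).toMonoidHom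
    have hB : Cfsg.IsElementaryAbelian p B := by
      apply elemAb_sup hA (elemAb_map hA _)
      rintro a ha _ ⟨b, hb, rfl⟩
      have h3 := hconj b hb
      have := (Subgroup.mem_centralizer_iff.1 h3.2) a ha
      simpa using this
    have hBA : B = A := hmax B hB le_sup_left
    have hyNA : (y : G) ∈ Subgroup.normalizer (A : Set G) := by
      apply hnorm
      intro a ha
      have : (y : G) * a * (y : G)⁻¹ ∈ B :=
        (le_sup_right : A.map (MulAut.conj (y : G)).toMonoidHom ≤ B) ⟨a, ha, by simp⟩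
      rw [hBA] at this
      exact this
    exact hyC (show (y : G) ∈ C from ⟨y.2, hN hyNA⟩)
  -- Step 3: elements of order dividing `p` in `S` lie in `A`
  have hmem : ∀ x ∈ (S : Subgroup G), x ^ p = 1 → x ∈ A := by
    intro x hxS hxp
    have hB : Cfsg.IsElementaryAbelian p (A ⊔ Subgroup.zpowers x) := by
      apply elemAb_sup hA (elemAb_zpowers hxp)
      rintro a ha _ ⟨m, rfl⟩
      have hc : Commute x a := hcentral x hxS a ha
      exact ((hc.zpow_left m).eq).symm
    have := hmax _ hB le_sup_left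
    rw [← this]
    exact (le_sup_right : Subgroup.zpowers x ≤ _) (Subgroup.mem_zpowers x)
  -- Step 4: `S` has `p`-rank at most 2
  have hrank : Cfsg.PRankLE p 2 ↥(S : Subgroup G) := by
    intro E _ hEp
    have hle : E.map (S : Subgroup G).subtype ≤ A := by
      rintro _ ⟨e, he, rfl⟩
      apply hmem _ e.2
      have := hEp e he
      have := congrArg Subtype.val this
      simpa using this
    have h1 : Nat.card (E.map (S : Subgroup G).subtype) = Nat.card E :=
      Subgroup.card_map_of_injective (Subgroup.subtype_injective _)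
    rw [← h1, ← hcard]
    exact Subgroup.card_le_of_le hle
  rcases h12 S hrank with hSc | ⟨P₁, hP₁S, hP₁nc, hP₁e⟩
  · -- transfer
    haveI := hSc
    obtain ⟨a, haA, ha1⟩ : ∃ a ∈ A, a ≠ 1 := by
      by_contra hcon
      push Not at hcon
      have : A = ⊥ := by
        rw [Subgroup.eq_bot_iff_forall]; exact hcon
      rw [this] at hcard
      simp at hcard
      have := hp.one_lt
      have h2 : 1 < p ^ 2 := Nat.one_lt_pow (by norm_num) this
      omega
    -- normalizer of `S` normalizes `A`
    have hNS : ∀ n ∈ Subgroup.normalizer ((S : Subgroup G) : Set G), n ∈ Subgroup.normalizer (A : Set G) := by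
      intro n hn
      apply hnorm
      intro x hx
      apply hmem
      · exact (Subgroup.mem_normalizer_iff.1 hn x).1 (hAS hx)
      · rw [← MulAut.conj_apply, ← map_pow, hA.2 x hx, map_one]
    have key : ∀ (k : ℕ) (g₀ : G), g₀⁻¹ * a ^ k * g₀ ∈ (S : Subgroup G) →
        g₀⁻¹ * a ^ k * g₀ = a ^ k := by
      intro k g₀ hk
      have hb : a ^ k ∈ A := A.pow_mem haA k
      obtain ⟨n, hn, hne⟩ := S.conj_eq_normalizer_conj_of_mem (a ^ k) g₀ (hAS hb) hk
      rw [hne]
      have hnC := hN (hNS n hn)
      have := (Subgroup.mem_centralizer_iff.1 hnC) (a ^ k) hb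
      rw [mul_assoc, this, ← mul_assoc, inv_mul_cancel, one_mul]
    open scoped IsMulCommutative in
    let T : G →* ↥(S : Subgroup G) := MonoidHom.transfer (MonoidHom.id ↥(S : Subgroup G))
    open scoped IsMulCommutative in
    have htr : T a = (MonoidHom.id ↥(S : Subgroup G)) ⟨a ^ (S : Subgroup G).index, _⟩ :=
      MonoidHom.transfer_eq_pow (H := (S : Subgroup G)) (MonoidHom.id ↥(S : Subgroup G)) a key
    have hker : T.ker = ⊤ := by
      rcases hsimple.eq_bot_or_eq_top_of_normal _ (MonoidHom.normal_ker T) with h | h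
      · exfalso
        apply hnc
        have hinj := (MonoidHom.ker_eq_bot_iff T).1 h
        refine isMulCommutative_iff.2 fun x y => hinj ?_
        have hc : T x * T y = T y * T x := Subtype.ext (by
          have := (isMulCommutative_iff.1 hSc) (T x) (T y)
          exact congrArg Subtype.val this)
        rw [MonoidHom.map_mul, MonoidHom.map_mul, hc]
      · exact h
    have h1 : T a = 1 := by
      have : a ∈ T.ker := by rw [hker]; trivial
      exact this
    rw [h1] at htr
    have h2 : a ^ (S : Subgroup G).index = 1 := by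
      have := congrArg Subtype.val htr
      simpa using this.symm
    have hord : orderOf a = p := by
      have := orderOf_dvd_of_pow_eq_one (hA.2 a haA)
      rcases (Nat.dvd_prime hp).1 this with h | h
      · exact absurd (orderOf_eq_one_iff.1 h) ha1
      · exact h
    have hdvd : p ∣ (S : Subgroup G).index := by
      have h3 := orderOf_dvd_of_pow_eq_one h2
      rwa [hord] at h3
    exact S.not_dvd_index hdvd
  · -- the nonabelian case is impossible
    apply hP₁nc
    refine isMulCommutative_iff.2 ?_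
    rintro ⟨x, hx⟩ ⟨y, hy⟩
    apply Subtype.ext
    change x * y = y * x
    have hxp : ∀ z (hz : z ∈ P₁), z ^ p = 1 := by
      intro z hz
      have := Monoid.pow_exponent_eq_one (⟨z, hz⟩ : ↥P₁)
      rw [hP₁e] at this
      have := congrArg Subtype.val this
      simpa using this
    exact elemAb_comm hA x (hmem x (hP₁S hx) (hxp x hx)) y (hmem y (hP₁S hy) (hxp y hy))

/-- The statement of S1412 (BG 10.7(b)) at the prime `p`, as a `Prop`. -/
def Stmt1412 (G : Type*) [Group G] (p : ℕ) : Prop :=
  ∀ P : Sylow p G, Cfsg.PRankLE p 2 (P : Subgroup G) →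
    IsMulCommutative (P : Subgroup G) ∨ ∃ P₁ P₂ : Subgroup G, P₁ ⊔ P₂ = (P : Subgroup G) ∧
      (∀ a ∈ P₁, ∀ b ∈ P₂, a * b = b * a) ∧
        ¬ IsMulCommutative P₁ ∧ Nat.card P₁ = p ^ 3 ∧ Monoid.exponent P₁ = p ∧ IsCyclic P₂ ∧
        Subgroup.closure {x : G | x ∈ P₂ ∧ x ^ p = 1} = P₁ ⊓ Subgroup.centralizer (P₁ : Set G)

/-- Version for a minimal simple group of odd order, with the statement of S1412 as hypothesis:
a maximal elementary abelian subgroup `A` of order `p ^ 2` has `N_G(A) ≠ C_G(A)`. -/
theorem false_of_minSimple [Finite G] (hG : Cfsg.IsMinSimpleOddOrder G) (p : ℕ) [Fact p.Prime]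
    (h12 : Stmt1412 G p)
    (A : Subgroup G) (hA : Cfsg.IsElementaryAbelian p A) (hcard : Nat.card A = p ^ 2)
    (hmax : ∀ B : Subgroup G, Cfsg.IsElementaryAbelian p B → A ≤ B → B = A)
    (hN : Subgroup.normalizer (A : Set G) ≤ Subgroup.centralizer (A : Set G)) : False := by
  refine false_of_normalizer_le_centralizer hG.2.1 hG.2.2.1 p ?_ A hA hcard hmax hN
  intro P hP
  rcases h12 P hP with h | ⟨P₁, P₂, hsup, _, hnc, _, hexp, _, _⟩
  · exact Or.inl h
  · exact Or.inr ⟨P₁, hsup ▸ le_sup_left, hnc, hexp⟩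

end Cfsg.Agent.Lib.Helper76.BGCentNorm
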