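import Cfsg.Agent.Lib.Helper76.BGSigU2
import Cfsg.Agent.Lib.Helper76.BGCentNorm

set_option autoImplicit false
set_option linter.style.haveILetI false
set_option linter.unusedSectionVars false

/-!
# S1361: `C_G(X) ≤ M` uniquely, for `1 ≠ X ≤ U` with `C_{M_σ}(X) ≠ 1`
-/

namespace Cfsg.Agent.Lib.Helper76.BGSigU

open Subgroup Cfsg
open scoped Pointwise

variable {G : Type*} [Group G] [Finite G]

omit [Finite G] in
/-- `M` normalizes `M_σ`. -/
theorem le_normalizer_sigmaCore' (M : Subgroup G) :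
    M ≤ normalizer ((sigmaCore M : Subgroup G) : Set G) := by
  have key : ∀ m ∈ M, ∀ s ∈ sigmaCore M, m * s * m⁻¹ ∈ sigmaCore M := by
    intro m hm s hs
    obtain ⟨s', hs', rfl⟩ := hs
    have hn : (piCore (sigma M) M).Normal := inferInstance
    exact ⟨⟨m, hm⟩ * s' * ⟨m, hm⟩⁻¹, hn.conj_mem s' hs' ⟨m, hm⟩, by simp⟩
  intro m hm
  rw [Subgroup.mem_normalizer_iff]
  intro s
  constructor
  · exact key m hm s
  · intro hs
    have h1 := key m⁻¹ (M.inv_mem hm) _ hs
    have h2 : m⁻¹ * (m * s * m⁻¹) * m⁻¹⁻¹ = s := by group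
    rwa [h2] at h1

section Decomp

variable {M K U : Subgroup G}

theorem K_inf_sigmaCore (hσ : IsPiHallOf (sigma M) (sigmaCore M) M)
    (h : IsSigmaDecomposition M K U) : K ⊓ sigmaCore M = ⊥ := by
  apply disjoint_iff.mp
  apply Subgroup.disjoint_of_coprime_natCard
  apply Nat.coprime_of_dvd
  intro q hq hqK hqS
  have h1 : q ∈ kappa M := h.hall.2.1 q hq hqK
  have h2 : q ∈ sigma M := hσ.2.1 q hq hqS
  exact h1.2.2.1 h2

/-- `E = UK` is a complement of `M_σ` in `M`. -/
theorem isComplIn_UK (hσ : IsPiHallOf (sigma M) (sigmaCore M) M)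
    (h : IsSigmaDecomposition M K U) : IsComplIn (U ⊔ K) (sigmaCore M) M := by
  have hUM : U ≤ M := U_le h
  have hKM : K ≤ M := h.hall.1
  have hSM : sigmaCore M ≤ M := hσ.1
  have hKN : K ≤ normalizer ((sigmaCore M : Subgroup G) : Set G) :=
    hKM.trans (le_normalizer_sigmaCore' M)
  have hUK : (↑(U ⊔ K) : Set G) = (U : Set G) * (K : Set G) :=
    Subgroup.coe_mul_of_right_le_normalizer_left U K h.normal
  have hKS : (↑(K ⊔ sigmaCore M) : Set G) = (K : Set G) * (sigmaCore M : Set G) :=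
    Subgroup.coe_mul_of_left_le_normalizer_right K (sigmaCore M) hKN
  refine ⟨sup_le hUM hKM, hSM, ?_, ?_⟩
  · rw [eq_bot_iff]
    rintro e ⟨he1, he2⟩
    have he1' : e ∈ (↑(U ⊔ K) : Set G) := he1
    rw [hUK] at he1'
    obtain ⟨u, hu, k, hk, rfl⟩ := he1'
    have hu2 : u ∈ K ⊔ sigmaCore M := by
      have h1 : u * k * k⁻¹ ∈ K ⊔ sigmaCore M :=
        mul_mem ((le_sup_right : sigmaCore M ≤ K ⊔ sigmaCore M) he2)
          ((le_sup_left : K ≤ K ⊔ sigmaCore M) (inv_mem hk))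
      simpa using h1
    have hu1 : u = 1 := by
      have h3 : u ∈ U ⊓ (K ⊔ sigmaCore M) := ⟨hu, hu2⟩
      rw [h.compl.2.2.1] at h3
      exact h3
    subst hu1
    have he2' : k ∈ sigmaCore M := by
      have : (1 : G) * k ∈ sigmaCore M := he2
      rwa [one_mul] at this
    have h4 : k ∈ K ⊓ sigmaCore M := ⟨hk, he2'⟩
    rw [K_inf_sigmaCore hσ h] at h4
    rw [Subgroup.mem_bot] at h4 ⊢
    change (1 : G) * k = 1
    rw [one_mul]; exact h4
  · intro m hm
    obtain ⟨u, hu, b, hb, rfl⟩ := h.compl.2.2.2 m hm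
    have hb' : b ∈ (↑(K ⊔ sigmaCore M) : Set G) := hb
    rw [hKS] at hb'
    obtain ⟨k, hk, s, hs, rfl⟩ := hb'
    exact ⟨u * k, mul_mem ((le_sup_left : U ≤ U ⊔ K) hu) ((le_sup_right : K ≤ U ⊔ K) hk), s, hs,
      by rw [mul_assoc]⟩

end Decomp

/-- a `p`-subgroup of `M` is conjugate into a complement `E` of a normal `p'`-subgroup. -/
theorem exists_conj_le_compl {M E N : Subgroup G} (hE : IsComplIn E N M) {p : ℕ} [Fact p.Prime]
    (hN : ¬ p ∣ Nat.card N) {Q : Subgroup G} (hQ : IsPGroup p Q) (hQM : Q ≤ M) :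
    ∃ m ∈ M, ∀ a ∈ Q, m⁻¹ * a * m ∈ E := by
  have hcard : Nat.card E * Nat.card N = Nat.card M := Cfsg.Agent.Lib.Helper23.card_isComplIn hE
  have hidx : (E.subgroupOf M).index = Nat.card N := by
    have h1 := card_mul_relIndex hE.1
    have hpos : 0 < Nat.card E := Nat.card_pos
    have h2 : E.relIndex M = Nat.card N := Nat.eq_of_mul_eq_mul_left hpos (h1.trans hcard.symm)
    exact h2
  have hQ' : IsPGroup p (Q.subgroupOf M) := hQ.comap_subtype
  have hnd : ¬ p ∣ Nat.card (M ⧸ E.subgroupOf M) := by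
    rw [← Subgroup.index_eq_card, hidx]; exact hN
  obtain ⟨q, hq⟩ := hQ'.nonempty_fixed_point_of_prime_not_dvd_card (M ⧸ E.subgroupOf M) hnd
  obtain ⟨m, rfl⟩ := QuotientGroup.mk_surjective q
  refine ⟨m.1, m.2, ?_⟩
  intro a ha
  have h1 := hq ⟨⟨a, hQM ha⟩, by simpa [Subgroup.mem_subgroupOf] using ha⟩
  have h2 : (((⟨a, hQM ha⟩ : M) * m : M) : M ⧸ E.subgroupOf M) = (m : M ⧸ E.subgroupOf M) := h1
  rw [QuotientGroup.eq] at h2
  have h3 : ((((⟨a, hQM ha⟩ : M) * m)⁻¹ * m : M) : G) ∈ E := h2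
  have h4 : (m : G)⁻¹ * a⁻¹ * (m : G) ∈ E := by simpa [mul_assoc] using h3
  have h5 := E.inv_mem h4
  simpa [mul_assoc] using h5

omit [Finite G] in
/-- conjugation action of a subgroup `R ≤ N(A)` on `A` -/
@[instance_reducible]
def conjOn {A R : Subgroup G} (hR : R ≤ normalizer (A : Set G)) : MulAction R A where
  smul r a := ⟨r.1 * a.1 * r.1⁻¹, ((Subgroup.mem_normalizer_iff.1 (hR r.2)) a.1).1 a.2⟩
  one_smul a := by
    apply Subtype.ext
    change (1 : R).1 * a.1 * (1 : R).1⁻¹ = a.1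
    simp
  mul_smul r s a := by
    apply Subtype.ext
    change (r * s).1 * a.1 * (r * s).1⁻¹ = r.1 * (s.1 * a.1 * s.1⁻¹) * r.1⁻¹
    simp [mul_assoc]

/-- an `r`-group acting on a group of order `p ^ 2`, `p < r`, `p` odd, acts trivially. -/
theorem le_centralizer_of_lt {p r : ℕ} [Fact p.Prime] [Fact r.Prime] (hpr : p < r) (hp2 : p ≠ 2)
    {A R : Subgroup G} (hA : Nat.card A = p ^ 2) (hR : IsPGroup r R)
    (hRA : R ≤ normalizer (A : Set G)) : R ≤ centralizer (A : Set G) := by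
  have hp : p.Prime := Fact.out
  have hr : r.Prime := Fact.out
  letI := conjOn hRA
  have hmod := hR.card_modEq_card_fixedPoints A
  let C : Subgroup A := (centralizer (R : Set G)).subgroupOf A
  have hC : (MulAction.fixedPoints R A) = (C : Set A) := by
    ext a
    simp only [MulAction.mem_fixedPoints, SetLike.mem_coe]
    constructor
    · intro h
      change a.1 ∈ centralizer (R : Set G)
      rw [Subgroup.mem_centralizer_iff]
      intro g hg
      have h1 := congrArg Subtype.val (h ⟨g, hg⟩)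
      have h2 : g * a.1 * g⁻¹ = a.1 := h1
      calc g * a.1 = g * a.1 * g⁻¹ * g := by group
        _ = a.1 * g := by rw [h2]
    · intro h g
      apply Subtype.ext
      change g.1 * a.1 * g.1⁻¹ = a.1
      have h1 : a.1 ∈ centralizer (R : Set G) := h
      have h2 := (Subgroup.mem_centralizer_iff.1 h1) g.1 g.2
      rw [h2, mul_inv_cancel_right]
  have hcardC : Nat.card (MulAction.fixedPoints R A) = Nat.card C := by
    rw [hC]; rfl
  rw [hcardC, hA] at hmod
  have hdvd : Nat.card C ∣ p ^ 2 := hA ▸ Subgroup.card_subgroup_dvd_card C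
  obtain ⟨j, hj, hCj⟩ := (Nat.dvd_prime_pow hp).1 hdvd
  have hp1 : 1 < p := hp.one_lt
  have hpodd : Odd p := (Nat.Prime.eq_two_or_odd' hp).resolve_left hp2
  have hnd1 : ¬ r ∣ p - 1 := by
    intro hd
    have := Nat.le_of_dvd (by omega) hd
    omega
  have hnd2 : ¬ r ∣ p := by
    intro hd
    have := (Nat.prime_dvd_prime_iff_eq hr hp).1 hd
    omega
  have hnd3 : ¬ r ∣ p + 1 := by
    intro hd
    have h1 := Nat.le_of_dvd (by omega) hd
    have h2 : r = p + 1 := by omega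
    have h3 : Even r := by
      rw [h2]
      exact Odd.add_one hpodd
    have h4 : r = 2 := (Nat.Prime.even_iff hr).1 h3
    omega
  have hj2 : j = 2 := by
    rw [hCj] at hmod
    interval_cases j
    · exfalso
      have h1 : r ∣ p ^ 2 - p ^ 0 := (Nat.modEq_iff_dvd' (by
        rw [pow_zero]; exact Nat.one_le_pow _ _ hp.pos)).1 hmod.symm
      have h2 : p ^ 2 - p ^ 0 = (p - 1) * (p + 1) := by
        obtain ⟨t, rfl⟩ : ∃ t, p = t + 1 := ⟨p - 1, by omega⟩
        simp only [pow_zero, Nat.add_sub_cancel]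
        apply Nat.sub_eq_of_eq_add
        ring
      rw [h2] at h1
      rcases (Nat.Prime.dvd_mul hr).1 h1 with h | h
      · exact hnd1 h
      · exact hnd3 h
    · exfalso
      have h1 : r ∣ p ^ 2 - p ^ 1 := (Nat.modEq_iff_dvd' (by
        exact Nat.pow_le_pow_right hp.pos (by omega))).1 hmod.symm
      have h2 : p ^ 2 - p ^ 1 = p * (p - 1) := by
        obtain ⟨t, rfl⟩ : ∃ t, p = t + 1 := ⟨p - 1, by omega⟩
        simp only [pow_one, Nat.add_sub_cancel]
        apply Nat.sub_eq_of_eq_add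
        ring
      rw [h2] at h1
      rcases (Nat.Prime.dvd_mul hr).1 h1 with h | h
      · exact hnd2 h
      · exact hnd1 h
    · rfl
  have hCtop : C = ⊤ := by
    apply Subgroup.eq_top_of_card_eq
    rw [hCj, hj2, hA]
  intro g hg
  rw [Subgroup.mem_centralizer_iff]
  intro a ha
  have h1 : (⟨a, ha⟩ : A) ∈ C := by rw [hCtop]; exact Subgroup.mem_top _
  have h2 : a ∈ centralizer (R : Set G) := h1
  exact ((Subgroup.mem_centralizer_iff.1 h2) g hg).symm

/-- a `p`-group normalizing a `p`-group `A`, inside `M` with abelian Sylow `p`-subgroups,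
centralizes `A`. -/
theorem le_centralizer_of_abelian_sylow {p : ℕ} [Fact p.Prime] {M A R : Subgroup G} (hAM : A ≤ M)
    (hRM : R ≤ M) (hA : IsPGroup p A) (hR : IsPGroup p R) (hRA : R ≤ normalizer (A : Set G))
    (hab : ∀ P : Sylow p M, IsMulCommutative (P : Subgroup M)) : R ≤ centralizer (A : Set G) := by
  have hS : IsPGroup p (R ⊔ A : Subgroup G) := hR.to_sup_of_normal_right' hA hRA
  have hSM : R ⊔ A ≤ M := sup_le hRM hAM
  have hS' : IsPGroup p ((R ⊔ A).subgroupOf M) := hS.comap_subtype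
  obtain ⟨P, hP⟩ := hS'.exists_le_sylow
  have hc := hab P
  intro g hg
  rw [Subgroup.mem_centralizer_iff]
  intro a ha
  have hg' : (⟨g, hRM hg⟩ : M) ∈ (P : Subgroup M) :=
    hP (by rw [Subgroup.mem_subgroupOf]; exact (le_sup_left : R ≤ R ⊔ A) hg)
  have ha' : (⟨a, hAM ha⟩ : M) ∈ (P : Subgroup M) :=
    hP (by rw [Subgroup.mem_subgroupOf]; exact (le_sup_right : A ≤ R ⊔ A) ha)
  have h1 := (isMulCommutative_iff.1 hc) ⟨_, ha'⟩ ⟨_, hg'⟩
  have h2 : (⟨a, hAM ha⟩ : M) * ⟨g, hRM hg⟩ = ⟨g, hRM hg⟩ * ⟨a, hAM ha⟩ := congrArg Subtype.val h1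
  exact congrArg Subtype.val h2

omit [Finite G] in
/-- a subgroup lies in `C` as soon as its elements of prime power order do. -/
theorem le_of_primePow_mem {X C : Subgroup G}
    (h : ∀ x ∈ X, ∀ r k : ℕ, r.Prime → orderOf x = r ^ k → x ∈ C) (hfin : ∀ x ∈ X, 0 < orderOf x) :
    X ≤ C := by
  have key : ∀ n : ℕ, ∀ x ∈ X, orderOf x = n → x ∈ C := by
    intro n
    induction n using Nat.strong_induction_on with
    | _ n ih =>
    intro x hx hn
    have hn0 : 0 < n := hn ▸ hfin x hx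
    by_cases h1 : n = 1
    · have : x = 1 := orderOf_eq_one_iff.1 (hn.trans h1)
      rw [this]; exact one_mem _
    · have hr : (n.minFac).Prime := Nat.minFac_prime h1
      have hrn : n.minFac ∣ n := Nat.minFac_dvd n
      obtain ⟨k, m, hm, hnkm⟩ := Nat.exists_eq_pow_mul_and_not_dvd hn0.ne' n.minFac hr.ne_one
      generalize n.minFac = r at hr hrn hm hnkm
      by_cases hm1 : m = 1
      · exact h x hx r k hr (by rw [hn, hnkm, hm1, mul_one])
      · have hk0 : k ≠ 0 := by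
          rintro rfl
          rw [pow_zero, one_mul] at hnkm
          exact hm (hnkm ▸ hrn)
        have hcop : Nat.Coprime m (r ^ k) :=
          (Nat.Coprime.pow_left k ((Nat.Prime.coprime_iff_not_dvd hr).2 hm)).symm
        have hm0 : 0 < m := Nat.pos_of_ne_zero (by
          rintro rfl
          rw [mul_zero] at hnkm
          omega)
        have hrk : 1 < r ^ k := Nat.one_lt_pow hk0 hr.one_lt
        have hm2 : 1 < m := by omega
        have ho1 : orderOf (x ^ m) = r ^ k := by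
          rw [orderOf_pow_of_dvd hm0.ne' (by rw [hn, hnkm]; exact dvd_mul_left _ _), hn, hnkm,
            Nat.mul_div_cancel _ hm0]
        have ho2 : orderOf (x ^ r ^ k) = m := by
          rw [orderOf_pow_of_dvd (by omega) (by rw [hn, hnkm]; exact dvd_mul_right _ _), hn, hnkm,
            Nat.mul_div_cancel_left _ (by omega)]
        have hlt1 : r ^ k < n := by rw [hnkm]; nlinarith
        have hlt2 : m < n := by rw [hnkm]; nlinarith
        have hc1 := ih (r ^ k) hlt1 (x ^ m) (X.pow_mem hx m) ho1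
        have hc2 := ih m hlt2 (x ^ r ^ k) (X.pow_mem hx _) ho2
        have hb : (1 : ℤ) = (m : ℤ) * Nat.gcdA m (r ^ k) + ((r ^ k : ℕ) : ℤ) * Nat.gcdB m (r ^ k) := by
          rw [← Nat.gcd_eq_gcd_ab, hcop.gcd_eq_one]; rfl
        have h2 : x = (x ^ m) ^ (Nat.gcdA m (r ^ k)) * (x ^ r ^ k) ^ (Nat.gcdB m (r ^ k)) := by
          rw [← zpow_natCast x m, ← zpow_natCast x (r ^ k), ← zpow_mul, ← zpow_mul, ← zpow_add,
            ← hb, zpow_one]
        rw [h2]
        exact mul_mem (C.zpow_mem hc1 _) (C.zpow_mem hc2 _)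
  intro x hx
  exact key _ x hx rfl

/-- an element of order `p` of `U` centralizing a nonidentity element of `M_σ` forces `p ∈ τ₂(M)`. -/
theorem mem_tau2_of_mem_U (hodd : Odd (Nat.card G)) {M K U : Subgroup G}
    (hσ : IsPiHallOf (sigma M) (sigmaCore M) M)
    (hα : IsPiHallOf (alpha M) (alphaCore M) M) (hle : alphaCore M ≤ sigmaCore M)
    (h : IsSigmaDecomposition M K U) {p : ℕ} [Fact p.Prime] {x y : G}
    (hxU : x ∈ U) (hx1 : x ≠ 1) (hxp : x ^ p = 1) (hy : y ∈ sigmaCore M) (hy1 : y ≠ 1)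
    (hxy : x * y = y * x) : p ∈ tau2 M := by
  have hp : p.Prime := Fact.out
  have hps : p ∉ sigma M := not_sigma_of_mem_U hσ h hxU hx1 hxp
  have hr2 : PRankLE p 2 M := pRankLE_two_of_not_sigma hσ hα hle hp hps
  refine ⟨hp, hps, hr2, ?_⟩
  intro hr1
  have hxM : x ∈ M := U_le h hxU
  have hord : orderOf x = p := orderOf_eq_prime hxp hx1
  have hpU : p ∣ Nat.card U := by
    have h1 := orderOf_dvd_natCard (⟨x, hxU⟩ : U)
    rwa [Subgroup.orderOf_mk, hord] at h1
  have hp2 : p ≠ 2 := by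
    rintro rfl
    have h2 : 2 ∣ Nat.card G := dvd_trans hpU (Subgroup.card_subgroup_dvd_card U)
    exact (Nat.not_even_iff_odd.2 hodd) (even_iff_two_dvd.2 h2)
  apply not_kappa_of_dvd_card_U h hp hpU
  refine ⟨hp, dvd_trans hpU (Subgroup.card_dvd_of_le (U_le h)), hps, ?_⟩
  intro P
  constructor
  · have hP1 : Cfsg.Agent.Lib.Helper49.RankLEOne p (P : Subgroup M) := by
      apply Cfsg.Agent.Lib.Helper49.rankLEOne_subgroup
      intro A hA hAp
      simpa using hr1 A hA hAp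
    exact Cfsg.Agent.Lib.Helper49.isCyclic_of_isPGroup_rankLEOne hp2 P.2 hP1
  · let xM : M := ⟨x, hxM⟩
    have hxM1 : xM ≠ 1 := fun h0 => hx1 (congrArg Subtype.val h0)
    have hxMp : xM ^ p = 1 := Subtype.ext (by simpa [xM] using hxp)
    have hordM : orderOf xM = p := orderOf_eq_prime hxMp hxM1
    have hZ : IsPGroup p (Subgroup.zpowers xM) :=
      IsPGroup.of_card (n := 1) (by rw [Nat.card_zpowers, hordM, pow_one])
    obtain ⟨P₀, hP₀⟩ := hZ.exists_le_sylow
    obtain ⟨g, hg⟩ := MulAction.exists_smul_eq M P₀ P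
    have hmem : g * xM * g⁻¹ ∈ (P : Subgroup M) := by
      have h1 : xM ∈ (P₀ : Subgroup M) := hP₀ (Subgroup.mem_zpowers xM)
      rw [← hg]
      rw [Sylow.smul_def, Sylow.pointwise_smul_def]
      rw [Subgroup.mem_pointwise_smul_iff_inv_smul_mem]
      simpa [MulAut.smul_def, mul_assoc] using h1
    refine ⟨g * xM * g⁻¹, hmem, ?_, (g : G) * y * (g : G)⁻¹, ?_, ?_, ?_⟩
    · intro h0
      apply hxM1
      have : xM = g⁻¹ * (g * xM * g⁻¹) * g := by group
      rw [this, h0]; group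
    · exact ((Subgroup.mem_normalizer_iff.1 (le_normalizer_sigmaCore' M g.2)) y).1 hy
    · intro h0
      apply hy1
      have : y = (g : G)⁻¹ * ((g : G) * y * (g : G)⁻¹) * (g : G) := by group
      rw [this, h0]; group
    · change (g : G) * x * (g : G)⁻¹ * ((g : G) * y * (g : G)⁻¹) =
        (g : G) * y * (g : G)⁻¹ * ((g : G) * x * (g : G)⁻¹)
      calc (g : G) * x * (g : G)⁻¹ * ((g : G) * y * (g : G)⁻¹)
          = (g : G) * (x * y) * (g : G)⁻¹ := by group
        _ = (g : G) * (y * x) * (g : G)⁻¹ := by rw [hxy]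
        _ = _ := by group

/-- **S1361**, with the statements it is armed on as hypotheses. -/
theorem cent_X (hodd : Odd (Nat.card G)) {M K U : Subgroup G}
    (hσ : IsPiHallOf (sigma M) (sigmaCore M) M)
    (hα : IsPiHallOf (alpha M) (alphaCore M) M) (hle : alphaCore M ≤ sigmaCore M)
    (h125 : ∀ (p : ℕ) [Fact p.Prime], p ∈ tau2 M → ∀ A : Subgroup G,
      (A ≤ M ∧ IsElementaryAbelian p A ∧ Nat.card A = p ^ 2) →
      (∀ P : Sylow p M, IsMulCommutative (P : Subgroup M)) ∧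
      (∀ Mstar : Subgroup G, IsCoatom Mstar → Mstar ≠ M → A ≤ Mstar → sigmaCore M ⊓ Mstar = ⊥))
    (h126 : ∀ E : Subgroup G, IsComplIn E (sigmaCore M) M → ∀ (p : ℕ) [Fact p.Prime],
      p ∈ tau2 M → ∀ A : Subgroup G,
      (A ≤ E ∧ IsElementaryAbelian p A ∧ Nat.card A = p ^ 2) →
      (E ≤ normalizer (A : Set G) ∧ ∀ X : Subgroup G, X ≤ E → Nat.card X = p → X ≤ A) ∧
      ∀ X : Subgroup G, X ≤ A → Nat.card X = p →
        sigmaCore M ⊓ centralizer (X : Set G) ≠ ⊥ → centralizer (X : Set G) ≤ M)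
    (h : IsSigmaDecomposition M K U) {X : Subgroup G} (hXU : X ≤ U) (hX : X ≠ ⊥)
    (hXc : sigmaCore M ⊓ centralizer (X : Set G) ≠ ⊥) :
    centralizer (X : Set G) ≤ M ∧
      ∀ L : Subgroup G, IsCoatom L → centralizer (X : Set G) ≤ L → L = M := by
  -- a nonidentity element of `C_{M_σ}(X)`
  obtain ⟨⟨y, hyS, hyC⟩, hy1'⟩ := (Subgroup.ne_bot_iff_exists_ne_one).1 hXc
  have hy1 : y ≠ 1 := fun h0 => hy1' (Subtype.ext h0)
  -- the smallest prime divisor `p` of `|X|`
  have hXcard : Nat.card X ≠ 1 := fun h1 => hX ((Subgroup.card_eq_one).1 h1)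
  have hp : (Nat.card X).minFac.Prime := Nat.minFac_prime hXcard
  have hpX : (Nat.card X).minFac ∣ Nat.card X := Nat.minFac_dvd _
  have hmin : ∀ r : ℕ, r.Prime → r ∣ Nat.card X → (Nat.card X).minFac ≤ r :=
    fun r hr hrd => Nat.minFac_le_of_dvd hr.two_le hrd
  generalize (Nat.card X).minFac = p at hp hpX hmin
  haveI : Fact p.Prime := ⟨hp⟩
  obtain ⟨x₀, hx₀⟩ := exists_prime_orderOf_dvd_card' p hpX
  have hx₀X : (x₀ : G) ∈ X := x₀.2
  have hx₀1 : (x₀ : G) ≠ 1 := by
    intro h0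
    have : x₀ = 1 := Subtype.ext h0
    rw [this, orderOf_one] at hx₀
    exact hp.one_lt.ne hx₀
  have hx₀p : (x₀ : G) ^ p = 1 := by
    have h0 := pow_orderOf_eq_one x₀
    rw [hx₀] at h0
    simpa using congrArg Subtype.val h0
  have hcomm : (x₀ : G) * y = y * (x₀ : G) := (Subgroup.mem_centralizer_iff.1 hyC) _ hx₀X
  have hτ : p ∈ tau2 M := mem_tau2_of_mem_U hodd hσ hα hle h (hXU hx₀X) hx₀1 hx₀p hyS hy1 hcomm
  have hp2 : p ≠ 2 := by
    rintro rfl
    have h2 : 2 ∣ Nat.card G := dvd_trans hpX (Subgroup.card_subgroup_dvd_card X)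
    exact (Nat.not_even_iff_odd.2 hodd) (even_iff_two_dvd.2 h2)
  -- an elementary abelian subgroup of order `p ^ 2` in `E = UK`
  obtain ⟨A', hA'M, hA'e, hA'c⟩ := exists_elemAb_sq hτ.2.2.2
  have hE := isComplIn_UK hσ h
  have hpS : ¬ p ∣ Nat.card (sigmaCore M) := fun hd => hτ.2.1 (hσ.2.1 p hp hd)
  obtain ⟨m, hmM, hm⟩ := exists_conj_le_compl hE hpS
    (Cfsg.Agent.Lib.Helper76.BGCentNorm.elemAb_isPGroup hA'e) hA'M
  set A : Subgroup G := A'.map (MulAut.conj m⁻¹).toMonoidHom with hAdef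
  have hAE : A ≤ U ⊔ K := by
    rintro _ ⟨a, ha, rfl⟩
    have := hm a ha
    simpa [MulAut.conj_apply] using this
  have hAe : IsElementaryAbelian p A := Cfsg.Agent.Lib.Helper76.BGCentNorm.elemAb_map hA'e _
  have hAc : Nat.card A = p ^ 2 := by
    rw [hAdef, Subgroup.card_map_of_injective (MulAut.conj m⁻¹).injective, hA'c]
  have hAM : A ≤ M := hAE.trans hE.1
  obtain ⟨⟨hEN, hEp⟩, hcent⟩ := h126 (U ⊔ K) hE p hτ A ⟨hAE, hAe, hAc⟩
  obtain ⟨hab, hstar⟩ := h125 p hτ A ⟨hAM, hAe, hAc⟩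
  have hXE : X ≤ U ⊔ K := hXU.trans le_sup_left
  have hAp : IsPGroup p A := Cfsg.Agent.Lib.Helper76.BGCentNorm.elemAb_isPGroup hAe
  -- `X` centralizes `A`
  have hXA : X ≤ centralizer (A : Set G) := by
    refine le_of_primePow_mem ?_ (fun x _ => orderOf_pos x)
    intro x hx r k hr hxo
    haveI : Fact r.Prime := ⟨hr⟩
    have hRX : Subgroup.zpowers x ≤ X := (Subgroup.zpowers_le).2 hx
    have hR : IsPGroup r (Subgroup.zpowers x) :=
      IsPGroup.of_card (n := k) (by rw [Nat.card_zpowers, hxo])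
    have hRN : Subgroup.zpowers x ≤ normalizer (A : Set G) := (hRX.trans hXE).trans hEN
    have hxmem : x ∈ Subgroup.zpowers x := Subgroup.mem_zpowers x
    by_cases hk : k = 0
    · have : x = 1 := by
        rw [hk, pow_zero] at hxo
        exact orderOf_eq_one_iff.1 hxo
      rw [this]; exact one_mem _
    have hrX : r ∣ Nat.card X := by
      have h1 : orderOf x ∣ Nat.card X := by
        have := orderOf_dvd_natCard (⟨x, hx⟩ : X)
        rwa [Subgroup.orderOf_mk] at this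
      rw [hxo] at h1
      exact dvd_trans (dvd_pow_self r hk) h1
    have hpr : p ≤ r := hmin r hr hrX
    rcases hpr.lt_or_eq with hlt | heq
    · exact le_centralizer_of_lt hlt hp2 hAc hR hRN hxmem
    · subst heq
      exact le_centralizer_of_abelian_sylow hAM ((hRX.trans hXE).trans hE.1) hAp hR hRN hab hxmem
  -- the subgroup of order `p`
  have hZc : Nat.card (Subgroup.zpowers (x₀ : G)) = p := by
    rw [Nat.card_zpowers]; exact orderOf_eq_prime hx₀p hx₀1
  have hZX : Subgroup.zpowers (x₀ : G) ≤ X := (Subgroup.zpowers_le).2 hx₀X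
  have hZA : Subgroup.zpowers (x₀ : G) ≤ A := hEp _ (hZX.trans hXE) hZc
  have hle1 : centralizer (X : Set G) ≤ centralizer ((Subgroup.zpowers (x₀ : G) : Subgroup G) : Set G) :=
    Subgroup.centralizer_le (by exact_mod_cast hZX)
  have hne : sigmaCore M ⊓ centralizer ((Subgroup.zpowers (x₀ : G) : Subgroup G) : Set G) ≠ ⊥ := by
    intro h0
    apply hXc
    rw [eq_bot_iff, ← h0]
    exact inf_le_inf_left _ hle1
  have hCM : centralizer (X : Set G) ≤ M := hle1.trans (hcent _ hZA hZc hne)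
  refine ⟨hCM, ?_⟩
  intro L hL hCL
  by_contra hLM
  have hAL : A ≤ L := by
    refine le_trans ?_ hCL
    intro a ha
    rw [Subgroup.mem_centralizer_iff]
    intro x hx
    exact ((Subgroup.mem_centralizer_iff.1 (hXA hx)) a ha).symm
  have h0 := hstar L hL hLM hAL
  apply hXc
  rw [eq_bot_iff, ← h0]
  exact inf_le_inf_left _ hCL

end Cfsg.Agent.Lib.Helper76.BGSigU
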