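import Mathlib
import Cfsg.Prelude.Def_OddOrderLocal
import Cfsg.Agent.Lib.Helper49.RankOneCyclic
import Cfsg.Agent.Lib.Helper23.TypeP

set_option autoImplicit false
set_option linter.style.haveILetI false
set_option linter.unusedSectionVars false

/-!
# The complement `U` in the standard factorisation `M = K U M_σ` (B&G Theorem I pieces)

Elementary facts about `σ(M)'`-subgroups of a maximal subgroup `M`, used for S1358 and S1361.
-/

namespace Cfsg.Agent.Lib.Helper76.BGSigU

open Subgroup Cfsg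

variable {G : Type*} [Group G] [Finite G]

omit [Finite G] in
theorem card_mul_relIndex {H K : Subgroup G} (h : H ≤ K) :
    Nat.card H * H.relIndex K = Nat.card K := by
  have := Subgroup.relIndex_mul_relIndex (⊥ : Subgroup G) H K bot_le h
  rwa [Subgroup.relIndex_bot_left, Subgroup.relIndex_bot_left] at this

/-- a `q`-subgroup of `M` with `q ∈ σ(M)` lies in `M_σ` (given that `M_σ` is a Hall subgroup). -/
theorem le_sigmaCore_of_isPGroup {M : Subgroup G} (hσ : IsPiHallOf (sigma M) (sigmaCore M) M)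
    {q : ℕ} [Fact q.Prime] (hq : q ∈ sigma M) {Q : Subgroup G} (hQ : IsPGroup q Q) (hQM : Q ≤ M) :
    Q ≤ sigmaCore M := by
  intro x hx
  have hnd : ¬ q ∣ (sigmaCore M).relIndex M := hσ.2.2 q Fact.out hq
  set N : Subgroup M := piCore (sigma M) M with hN
  have hrel : (sigmaCore M).relIndex M = N.index := by
    unfold Subgroup.relIndex sigmaCore
    congr 1
    ext y
    simp [Subgroup.mem_subgroupOf, hN]
  rw [hrel] at hnd
  let xM : M := ⟨x, hQM hx⟩
  obtain ⟨k, hk⟩ := hQ ⟨x, hx⟩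
  have hxk : xM ^ q ^ k = 1 := by
    apply Subtype.ext
    have := congrArg Subtype.val hk
    simpa using this
  have h1 : ((xM : M) : M ⧸ N) ^ q ^ k = 1 := by
    rw [← QuotientGroup.mk_pow, hxk]; rfl
  have h2 : ((xM : M) : M ⧸ N) ^ N.index = 1 := by
    rw [Subgroup.index_eq_card]; exact pow_card_eq_one'
  have hcop : Nat.Coprime (q ^ k) N.index :=
    Nat.Coprime.pow_left k ((Nat.Prime.coprime_iff_not_dvd Fact.out).2 hnd)
  have h3 : ((xM : M) : M ⧸ N) = 1 := by
    have h := (pow_gcd_eq_one (a := ((xM : M) : M ⧸ N)) (m := q ^ k) (n := N.index)).2 ⟨h1, h2⟩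
    rwa [Nat.Coprime.gcd_eq_one hcop, pow_one] at h
  have h4 : xM ∈ N := (QuotientGroup.eq_one_iff _).1 h3
  exact ⟨xM, h4, rfl⟩

/-- `α(M) ⊆ σ(M)`, from B&G 10.2 (S1405) and the Hall property of `M_σ` (S1350). -/
theorem alpha_subset_sigma {M : Subgroup G} (hσ : IsPiHallOf (sigma M) (sigmaCore M) M)
    (hα : IsPiHallOf (alpha M) (alphaCore M) M) (hle : alphaCore M ≤ sigmaCore M)
    {p : ℕ} (hp : p ∈ alpha M) : p ∈ sigma M := by
  obtain ⟨hpp, hr⟩ := hp
  haveI : Fact p.Prime := ⟨hpp⟩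
  -- `p ∣ |M|`
  have hpM : p ∣ Nat.card M := by
    by_contra hnd
    apply hr
    intro A _ hA
    have : Nat.card A = 1 := by
      by_contra hne
      obtain ⟨q, hq, hqd⟩ := Nat.exists_prime_and_dvd hne
      haveI : Fact q.Prime := ⟨hq⟩
      obtain ⟨a, ha⟩ := exists_prime_orderOf_dvd_card' q hqd
      have hap : a ^ p = 1 := by
        have := hA a.1 a.2
        exact Subtype.ext (by simpa using this)
      have hqp : q ∣ p := ha ▸ orderOf_dvd_of_pow_eq_one hap
      have : q = p := (Nat.prime_dvd_prime_iff_eq hq hpp).1 hqp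
      subst this
      exact hnd (dvd_trans hqd (Subgroup.card_subgroup_dvd_card A))
    rw [this]; exact Nat.one_le_pow _ _ hpp.pos
  have h1 : ¬ p ∣ (alphaCore M).relIndex M := hα.2.2 p hpp ⟨hpp, hr⟩
  have h2 : Nat.card (alphaCore M) * (alphaCore M).relIndex M = Nat.card M :=
    card_mul_relIndex hα.1
  have h3 : p ∣ Nat.card (alphaCore M) := by
    rw [← h2] at hpM
    exact (hpp.dvd_mul.1 hpM).resolve_right h1
  have h4 : p ∣ Nat.card (sigmaCore M) := dvd_trans h3 (Subgroup.card_dvd_of_le hle)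
  exact hσ.2.1 p hpp h4

/-- `M` has `p`-rank at most 2 for `p ∉ σ(M)`. -/
theorem pRankLE_two_of_not_sigma {M : Subgroup G} (hσ : IsPiHallOf (sigma M) (sigmaCore M) M)
    (hα : IsPiHallOf (alpha M) (alphaCore M) M) (hle : alphaCore M ≤ sigmaCore M)
    {p : ℕ} (hpp : p.Prime) (hp : p ∉ sigma M) : PRankLE p 2 M := by
  by_contra h
  exact hp (alpha_subset_sigma hσ hα hle ⟨hpp, h⟩)

section Decomp

variable {M K U : Subgroup G}

theorem U_le (h : IsSigmaDecomposition M K U) : U ≤ M := h.compl.1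

theorem U_inf_sigmaCore (h : IsSigmaDecomposition M K U) : U ⊓ sigmaCore M = ⊥ := by
  have := h.compl.2.2.1
  exact le_bot_iff.1 (this ▸ inf_le_inf_left U le_sup_right)

/-- no nonidentity element of `U` has order divisible only by a prime of `σ(M)`. -/
theorem not_sigma_of_mem_U (hσ : IsPiHallOf (sigma M) (sigmaCore M) M)
    (h : IsSigmaDecomposition M K U) {r : ℕ} [Fact r.Prime] {x : G} (hxU : x ∈ U) (hx1 : x ≠ 1)
    (hxr : x ^ r = 1) : r ∉ sigma M := by
  intro hr
  have hP : IsPGroup r (Subgroup.zpowers x) := by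
    rintro ⟨_, ⟨m, rfl⟩⟩
    refine ⟨1, Subtype.ext ?_⟩
    change (x ^ m) ^ r ^ 1 = 1
    rw [pow_one, ← zpow_natCast, ← zpow_mul, mul_comm, zpow_mul, zpow_natCast, hxr, one_zpow]
  have hle : Subgroup.zpowers x ≤ sigmaCore M :=
    le_sigmaCore_of_isPGroup hσ hr hP ((Subgroup.zpowers_le).2 (U_le h hxU))
  have : x ∈ U ⊓ sigmaCore M := ⟨hxU, hle (Subgroup.mem_zpowers x)⟩
  rw [U_inf_sigmaCore h] at this
  exact hx1 this

/-- the order of `U` is the index of `K M_σ` in `M`. -/
theorem card_U_dvd_relIndex (h : IsSigmaDecomposition M K U) : Nat.card U ∣ K.relIndex M := by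
  have h1 := Cfsg.Agent.Lib.Helper23.card_isComplIn h.compl
  have hKM : K ≤ M := h.hall.1
  have h2 : K ≤ K ⊔ sigmaCore M := le_sup_left
  have h3 : K ⊔ sigmaCore M ≤ M := h.compl.2.1
  have h4 := Subgroup.relIndex_mul_relIndex K (K ⊔ sigmaCore M) M h2 h3
  have h5 : (K ⊔ sigmaCore M).relIndex M = Nat.card U := by
    have h6 := card_mul_relIndex h3
    have hpos : 0 < Nat.card (K ⊔ sigmaCore M : Subgroup G) := Nat.card_pos
    rw [← h1, mul_comm (Nat.card U)] at h6
    exact Nat.eq_of_mul_eq_mul_left hpos h6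
  rw [← h4, h5]
  exact dvd_mul_left _ _

theorem not_kappa_of_dvd_card_U (h : IsSigmaDecomposition M K U) {r : ℕ} (hr : r.Prime)
    (hrU : r ∣ Nat.card U) : r ∉ kappa M := fun hk =>
  h.hall.2.2 r hr hk (dvd_trans hrU (card_U_dvd_relIndex h))

end Decomp

end Cfsg.Agent.Lib.Helper76.BGSigU
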