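import Mathlib
import Cfsg.Prelude.Def_Characters
import Cfsg.Agent.S4566
import Cfsg.Agent.Lib.Helper80.Orthogonality
import Cfsg.Agent.Lib.Helper80.IrrApi
import Cfsg.Agent.Lib.Helper80.Central

set_option autoImplicit false

/-!
# Central elements and irreducible characters; class counting

* `irr_mul_central` : `χ (g * z) = (χ z / χ 1) * χ g` for central `z`.
* `sum_eq_zero_of_mul` : a multiplicative function on a finite group that is not identically `1` sums to `0`.
* `sum_card_centralizer_of_classPred` : `∑_{h, Q h} |C_H(h)| = |H| * #{classes satisfying Q}`.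
* `sum_comp_mk` : `∑_{g : G} F (g N) = |N| * ∑_{x : G ⧸ N} F x`.
-/

namespace Cfsg.Agent.Lib.Helper76

open Cfsg Cfsg.Agent.Lib.Helper80
open scoped ComplexConjugate

section central
variable {G : Type*} [Group G]

theorem irr_mul_central (χ : IrrCharacter G) (z : G) (hz : z ∈ Subgroup.center G) (g : G) :
    (χ : G → ℂ) (g * z) = ((χ : G → ℂ) z / (χ : G → ℂ) 1) * (χ : G → ℂ) g := by
  obtain ⟨n, ρ, hρ, hχ⟩ := χ.2
  obtain ⟨c, hc⟩ := Cfsg.Agent.S4566.central_scalar ρ hρ z hz
  have h1 : (χ : G → ℂ) 1 ≠ 0 := irr_one_ne_zero χ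
  have hc' : ∀ g, (χ : G → ℂ) (g * z) = c * (χ : G → ℂ) g := by
    intro g; rw [← hχ]; exact hc g
  have hcz : (χ : G → ℂ) z = c * (χ : G → ℂ) 1 := by
    have := hc' 1
    rwa [one_mul] at this
  rw [hc' g, hcz, mul_div_assoc, div_self h1, mul_one]

/-- the central character value `χ z / χ 1` -/
noncomputable def om (χ : IrrCharacter G) (z : G) : ℂ := (χ : G → ℂ) z / (χ : G → ℂ) 1

theorem om_one (χ : IrrCharacter G) : om χ 1 = 1 := by
  unfold om
  exact div_self (irr_one_ne_zero χ)

theorem irr_mul_central' (χ : IrrCharacter G) (z : G) (hz : z ∈ Subgroup.center G) (g : G) :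
    (χ : G → ℂ) (g * z) = om χ z * (χ : G → ℂ) g := irr_mul_central χ z hz g

theorem om_mul (χ : IrrCharacter G) (z w : G) (hw : w ∈ Subgroup.center G) :
    om χ (z * w) = om χ z * om χ w := by
  unfold om
  rw [irr_mul_central χ w hw z]
  field_simp

theorem om_conj [Finite G] (χ : IrrCharacter G) (z : G) : conj (om χ z) = om χ z⁻¹ := by
  unfold om
  rw [map_div₀, irr_one_conj, irr_conj_inv]

theorem om_mul_inv (χ : IrrCharacter G) (z : G) (hz : z ∈ Subgroup.center G) :
    om χ z * om χ z⁻¹ = 1 := by
  rw [← om_mul χ z z⁻¹ (Subgroup.inv_mem _ hz), mul_inv_cancel, om_one]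

end central

/-- A multiplicative function on a finite group which is not identically `1` has sum `0`. -/
theorem sum_eq_zero_of_mul {A : Type*} [Group A] [Fintype A] (μ : A → ℂ)
    (hmul : ∀ a b, μ (a * b) = μ a * μ b) (a0 : A) (ha0 : μ a0 ≠ 1) : ∑ a : A, μ a = 0 := by
  have h1 : ∑ a : A, μ a = μ a0 * ∑ a : A, μ a := by
    conv_lhs => rw [← Equiv.sum_comp (Equiv.mulLeft a0)]
    rw [Finset.mul_sum]
    apply Finset.sum_congr rfl
    intro a _
    simp [hmul]
  have h2 : (1 - μ a0) * ∑ a : A, μ a = 0 := by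
    rw [sub_mul, one_mul, ← h1, sub_self]
  rcases mul_eq_zero.1 h2 with h | h
  · exact absurd (sub_eq_zero.1 h).symm ha0
  · exact h

section classcount
variable {H : Type*} [Group H] [Fintype H]

/-- Class counting: for a conjugation-invariant predicate `Q`,
`∑_{h, Q h} |C_H(h)| = |H| * #{C : ConjClasses H // C satisfies Q}`. -/
theorem sum_card_centralizer_of_classPred (Q : H → Prop) [DecidablePred Q]
    (hQ : ∀ h y : H, Q h → Q (y * h * y⁻¹)) :
    ∑ h : H, (if Q h then (Nat.card (Subgroup.centralizer ({h} : Set H)) : ℂ) else 0) =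
      (Nat.card H : ℂ) * (Nat.card {C : ConjClasses H // ∃ h : H, ConjClasses.mk h = C ∧ Q h} : ℂ) := by
  classical
  have hQiff : ∀ h k : H, IsConj h k → (Q h ↔ Q k) := by
    intro h k hk
    obtain ⟨c, hc⟩ := isConj_iff.1 hk
    constructor
    · intro hh; rw [← hc]; exact hQ h c hh
    · intro hk'
      have : h = c⁻¹ * k * c⁻¹⁻¹ := by rw [← hc]; group
      rw [this]; exact hQ k c⁻¹ hk'
  have hcard : ∀ h k : H, IsConj h k →
      Nat.card (Subgroup.centralizer ({h} : Set H)) = Nat.card (Subgroup.centralizer ({k} : Set H)) := by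
    intro h k hk
    have h1 := index_centralizer_eq_card_conj h
    have h2 := index_centralizer_eq_card_conj k
    have h3 : Nat.card {x : H // IsConj h x} = Nat.card {x : H // IsConj k x} := by
      apply Nat.card_congr
      exact Equiv.subtypeEquivRight (fun x => ⟨fun hx => hk.symm.trans hx, fun hx => hk.trans hx⟩)
    have e1 := (Subgroup.centralizer ({h} : Set H)).card_mul_index
    have e2 := (Subgroup.centralizer ({k} : Set H)).card_mul_index
    rw [h1, h3] at e1
    rw [h2] at e2
    have hpos : 0 < Nat.card {x : H // IsConj k x} := by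
      have : Nonempty {x : H // IsConj k x} := ⟨⟨k, IsConj.refl k⟩⟩
      exact Nat.card_pos
    exact Nat.eq_of_mul_eq_mul_right hpos (e1.trans e2.symm)
  -- fiberwise over conjugacy classes
  rw [← Finset.sum_fiberwise (s := Finset.univ) (g := fun h : H => ConjClasses.mk h)]
  have hfiber : ∀ C : ConjClasses H,
      ∑ h ∈ Finset.univ.filter (fun h : H => ConjClasses.mk h = C),
        (if Q h then (Nat.card (Subgroup.centralizer ({h} : Set H)) : ℂ) else 0) =
      if (∃ h : H, ConjClasses.mk h = C ∧ Q h) then (Nat.card H : ℂ) else 0 := by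
    intro C
    obtain ⟨h0, rfl⟩ := ConjClasses.mk_surjective C
    have hterm : ∀ h ∈ Finset.univ.filter (fun h : H => ConjClasses.mk h = ConjClasses.mk h0),
        (if Q h then (Nat.card (Subgroup.centralizer ({h} : Set H)) : ℂ) else 0) =
        (if Q h0 then (Nat.card (Subgroup.centralizer ({h0} : Set H)) : ℂ) else 0) := by
      intro h hh
      rw [Finset.mem_filter] at hh
      have hconj : IsConj h h0 := ConjClasses.mk_eq_mk_iff_isConj.1 hh.2
      rw [hcard h h0 hconj]
      simp only [hQiff h h0 hconj]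
    rw [Finset.sum_congr rfl hterm, Finset.sum_const, nsmul_eq_mul]
    have hex : (∃ h : H, ConjClasses.mk h = ConjClasses.mk h0 ∧ Q h) ↔ Q h0 := by
      constructor
      · rintro ⟨h, hh, hq⟩
        exact (hQiff h h0 (ConjClasses.mk_eq_mk_iff_isConj.1 hh)).1 hq
      · intro hq; exact ⟨h0, rfl, hq⟩
    simp only [hex]
    split_ifs with hq
    · -- |class| * |centralizer| = |H|
      have h1 := index_centralizer_eq_card_conj h0
      have e1 := (Subgroup.centralizer ({h0} : Set H)).card_mul_index
      have hfc : (Finset.univ.filter (fun h : H => ConjClasses.mk h = ConjClasses.mk h0)).card =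
          Nat.card {x : H // IsConj h0 x} := by
        rw [Nat.card_eq_fintype_card, Fintype.card_subtype]
        congr 1
        ext x
        simp only [Finset.mem_filter, Finset.mem_univ, true_and]
        rw [ConjClasses.mk_eq_mk_iff_isConj]
        exact ⟨fun h => h.symm, fun h => h.symm⟩
      rw [hfc, ← h1]
      rw [← e1]
      push_cast
      ring
    · simp
  rw [Finset.sum_congr rfl (fun C _ => hfiber C)]
  rw [Finset.sum_ite, Finset.sum_const_zero, add_zero, Finset.sum_const, nsmul_eq_mul, mul_comm]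
  congr 1
  rw [Nat.card_eq_fintype_card, Fintype.card_subtype]

end classcount

section fiber
variable {G : Type*} [Group G] [Fintype G]

/-- Summing a function of the coset over the group. -/
theorem sum_comp_mk (N : Subgroup G) [N.Normal] [Fintype (G ⧸ N)] (F : G ⧸ N → ℂ) :
    ∑ g : G, F (g : G ⧸ N) = (Nat.card N : ℂ) * ∑ x : G ⧸ N, F x := by
  classical
  rw [← Finset.sum_fiberwise (s := Finset.univ) (g := fun g : G => (g : G ⧸ N)), Finset.mul_sum]
  apply Finset.sum_congr rfl
  intro x _
  obtain ⟨g0, rfl⟩ := QuotientGroup.mk_surjective x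
  have hterm : ∀ g ∈ Finset.univ.filter (fun g : G => (g : G ⧸ N) = (g0 : G ⧸ N)),
      F (g : G ⧸ N) = F (g0 : G ⧸ N) := by
    intro g hg
    rw [Finset.mem_filter] at hg
    rw [hg.2]
  rw [Finset.sum_congr rfl hterm, Finset.sum_const, nsmul_eq_mul]
  congr 1
  -- the fiber is in bijection with `N`
  have : (Finset.univ.filter (fun g : G => (g : G ⧸ N) = (g0 : G ⧸ N))).card = Nat.card N := by
    rw [Nat.card_eq_fintype_card, ← Fintype.card_subtype]
    apply Fintype.card_congr
    refine ⟨fun g => ⟨g0⁻¹ * g.1, ?_⟩, fun n => ⟨g0 * n.1, ?_⟩, ?_, ?_⟩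
    · have := g.2
      rw [eq_comm, QuotientGroup.eq] at this
      exact this
    · rw [eq_comm, QuotientGroup.eq]
      simp
    · intro g; apply Subtype.ext; simp
    · intro n; apply Subtype.ext; simp
  rw [this]

end fiber

end Cfsg.Agent.Lib.Helper76
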