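import Mathlib.GroupTheory.PGroup
import Mathlib.GroupTheory.Sylow
import Mathlib.GroupTheory.SpecificGroups.Cyclic
import Mathlib.GroupTheory.Abelianization.Defs
import Mathlib.GroupTheory.GroupAction.ConjAct
import Mathlib.GroupTheory.Index

set_option autoImplicit false

namespace Cfsg.Agent.Lib.Helper76

open Subgroup
open scoped commutatorElement

variable {G : Type*} [Group G]

/-- If the centre has index dividing a prime then the group is commutative. -/
theorem comm_of_center_index_dvd_prime {p : ℕ} (hp : p.Prime)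
    (h : (center G).index ∣ p) : ∀ a b : G, a * b = b * a := by
  have hcyc : IsCyclic (G ⧸ center G) := by
    rcases (Nat.dvd_prime hp).1 h with h1 | h1
    · have : Subsingleton (G ⧸ center G) := by
        have h2 : Nat.card (G ⧸ center G) = 1 := h1
        exact (Nat.card_eq_one_iff_unique.1 h2).1
      exact isCyclic_of_subsingleton
    · have h2 : Nat.card (G ⧸ center G) = p := h1
      haveI : Fact p.Prime := ⟨hp⟩
      exact isCyclic_of_prime_card h2
  exact commutative_of_cyclic_center_quotient (QuotientGroup.mk' (center G))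
    (by rw [QuotientGroup.ker_mk'])

theorem center_eq_top_of_index_dvd_prime {p : ℕ} (hp : p.Prime)
    (h : (center G).index ∣ p) : center G = ⊤ := by
  rw [eq_top_iff]
  intro a _
  rw [mem_center_iff]
  intro b
  exact comm_of_center_index_dvd_prime hp h b a

/-- The commutator map `g ↦ x g x⁻¹ g⁻¹` is a homomorphism when `G' ≤ Z(G)`. -/
def commHom (x : G) (h : commutator G ≤ center G) : G →* G where
  toFun g := x * g * x⁻¹ * g⁻¹
  map_one' := by simp
  map_mul' a b := by
    have hb : x * b * x⁻¹ * b⁻¹ ∈ center G := by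
      apply h
      have : x * b * x⁻¹ * b⁻¹ = ⁅x, b⁆ := rfl
      rw [this]
      exact commutator_mem_commutator (mem_top x) (mem_top b)
    rw [mem_center_iff] at hb
    have h2 := hb a
    calc x * (a * b) * x⁻¹ * (a * b)⁻¹
        = x * a * x⁻¹ * ((x * b * x⁻¹ * b⁻¹) * a⁻¹) := by group
      _ = x * a * x⁻¹ * (a⁻¹ * (x * b * x⁻¹ * b⁻¹)) := by
          congr 1
          have h3 := hb a⁻¹
          exact h3.symm
      _ = x * a * x⁻¹ * a⁻¹ * (x * b * x⁻¹ * b⁻¹) := by group

theorem commHom_apply (x : G) (h : commutator G ≤ center G) (g : G) :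
    commHom x h g = x * g * x⁻¹ * g⁻¹ := rfl

theorem commHom_range_le (x : G) (h : commutator G ≤ center G) :
    (commHom x h).range ≤ commutator G := by
  rintro _ ⟨g, rfl⟩
  rw [commHom_apply]
  have : x * g * x⁻¹ * g⁻¹ = ⁅x, g⁆ := rfl
  rw [this]
  exact commutator_mem_commutator (mem_top x) (mem_top g)

theorem commHom_ker (x : G) (h : commutator G ≤ center G) :
    (commHom x h).ker = centralizer ({x} : Set G) := by
  ext g
  rw [MonoidHom.mem_ker, commHom_apply, mem_centralizer_iff]
  constructor
  · intro hg y hy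
    rw [Set.mem_singleton_iff] at hy
    subst hy
    have : y * g = (y * g * y⁻¹ * g⁻¹) * (g * y) := by group
    rw [this, hg, one_mul]
  · intro hg
    have h1 := hg x (Set.mem_singleton x)
    rw [h1]
    group

/-- A nontrivial normal subgroup of a finite `p`-group meets the centre nontrivially. -/
theorem exists_mem_center_of_normal [Finite G] {p : ℕ} [Fact p.Prime] (hG : IsPGroup p G)
    (N : Subgroup G) [hN : N.Normal] (hN1 : N ≠ ⊥) :
    ∃ b : G, b ∈ N ∧ b ∈ center G ∧ b ≠ 1 := by
  have hC : IsPGroup p (ConjAct G) := hG.of_equiv ConjAct.toConjAct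
  have hpN : p ∣ Nat.card N := by
    rcases (hG.to_subgroup N).card_eq_or_dvd with h | h
    · exact absurd (Subgroup.card_eq_one.1 h) hN1
    · exact h
  have h1 : (1 : N) ∈ MulAction.fixedPoints (ConjAct G) N := by
    intro g
    apply Subtype.ext
    rw [ConjAct.Subgroup.val_conj_smul, ConjAct.smul_def]
    simp
  obtain ⟨b, hb, hb1⟩ := hC.exists_fixed_point_of_prime_dvd_card_of_fixed_point N hpN h1
  refine ⟨b, b.2, ?_, ?_⟩
  · rw [mem_center_iff]
    intro g
    have h2 := hb (ConjAct.toConjAct g)
    have h3 := congrArg Subtype.val h2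
    rw [ConjAct.Subgroup.val_conj_smul, ConjAct.smul_def, ConjAct.ofConjAct_toConjAct] at h3
    have : g * b = (g * b * g⁻¹) * g := by group
    rw [this, h3]
  · intro h
    apply hb1
    exact (Subtype.ext h).symm

/-- A normal subgroup of prime order in a finite `p`-group is central. -/
theorem normal_card_prime_le_center [Finite G] {p : ℕ} [Fact p.Prime] (hG : IsPGroup p G)
    (N : Subgroup G) [hN : N.Normal] (hNp : Nat.card N = p) : N ≤ center G := by
  have hN1 : N ≠ ⊥ := by
    intro h
    rw [h, Subgroup.card_bot] at hNp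
    exact (Fact.out : p.Prime).one_lt.ne hNp
  obtain ⟨b, hbN, hbZ, hb1⟩ := exists_mem_center_of_normal hG N hN1
  have hz : zpowers b = N := by
    apply Subgroup.eq_of_le_of_card_ge
    · rw [zpowers_le]; exact hbN
    · rw [hNp, Nat.card_zpowers]
      have h1 : orderOf b ∣ p := by
        rw [← hNp]
        have := orderOf_dvd_natCard (⟨b, hbN⟩ : N)
        rwa [Subgroup.orderOf_mk] at this
      rcases (Nat.dvd_prime Fact.out).1 h1 with h2 | h2
      · exact absurd (orderOf_eq_one_iff.1 h2) hb1
      · exact h2.ge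
  rw [← hz, zpowers_le]
  exact hbZ

end Cfsg.Agent.Lib.Helper76
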