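import Mathlib
import Cfsg.Agent.Lib.Helper5.HyDefs
import Cfsg.Agent.Lib.Helper43.ZeroCount
import Cfsg.Agent.Lib.Helper43.ZZmod

/-! # HY-T2 (helper5's S5992 / S5993 hive): the type of a nondegenerate invariant subspace without fixed
vectors, for an isometry of odd prime order `r ≠ p`: plus type iff `q^(dim/2) ≡ 1 (mod r)`.

Route: zero counts modulo `r` (helper43's `card_zeros_modEq`, `witt_family`, `card_OG_family`), a fibre
count for spaces with a totally isotropic subspace of half the dimension (`t2_count`), and a structural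
argument (maximal invariant totally isotropic subspace) when `q ≡ 1 (mod r)` (`t2_q1`). -/

set_option autoImplicit false
set_option linter.style.haveILetI false
set_option linter.unusedSectionVars false
set_option linter.unusedVariables false

namespace Cfsg.Agent.Lib.Helper5.Hy

open Polynomial Module
open Cfsg.Agent.Lib.Helper2.BG Cfsg.Agent.Lib.Helper99 Cfsg.Agent.Lib.Helper48.Ti
open Cfsg.Agent.Lib.Helper67.Ts

section absQ1
variable {F M : Type*} [Field F] [AddCommGroup M] [Module F M]

theorem t2_aeval_mem (g : Module.End F M) (W : Submodule F M) (hW : Inv g W) (p : F[X]) :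
    ∀ w ∈ W, aeval g p w ∈ W := by
  intro w hw
  induction p using Polynomial.induction_on' with
  | add p q hp hq => rw [map_add, LinearMap.add_apply]; exact W.add_mem hp hq
  | monomial n a =>
    rw [← C_mul_X_pow_eq_monomial, map_mul, aeval_C, map_pow, aeval_X, Module.End.mul_apply,
      Module.algebraMap_end_apply]
    exact W.smul_mem _ (hW.pow n w hw)

theorem t2_chain (g : Module.End F M) (U W : Submodule F M) (hW : Inv g W)
    (S : Finset F) : ∀ w₀ ∈ W, w₀ ∉ U → (aeval g (∏ μ ∈ S, (X - C μ))) w₀ ∈ U →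
    ∃ μ ∈ S, ∃ w ∈ W, w ∉ U ∧ g w - μ • w ∈ U := by
  classical
  induction S using Finset.induction_on with
  | empty =>
    intro w₀ _ hw₀ h
    simp at h
    exact absurd h hw₀
  | insert a S ha ih =>
    intro w₀ hw₀W hw₀ h
    rw [Finset.prod_insert ha, map_mul, Module.End.mul_apply] at h
    have hw₁W := t2_aeval_mem g W hW (∏ μ ∈ S, (X - C μ)) w₀ hw₀W
    by_cases hw₁U : (aeval g (∏ μ ∈ S, (X - C μ))) w₀ ∈ U
    · obtain ⟨μ, hμ, w, hwW, hwU, hw⟩ := ih w₀ hw₀W hw₀ hw₁U
      exact ⟨μ, Finset.mem_insert_of_mem hμ, w, hwW, hwU, hw⟩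
    · refine ⟨a, Finset.mem_insert_self _ _, _, hw₁W, hw₁U, ?_⟩
      simpa [map_sub, aeval_X, aeval_C, LinearMap.sub_apply, Module.algebraMap_end_apply] using h

variable [Fintype F] [FiniteDimensional F M]

theorem t2_q1 (β : M →ₗ[F] M →ₗ[F] F) (h2 : (2 : F) ≠ 0) (hs : ∀ u v, β u v = β v u)
    (hnd : ∀ u, (∀ v, β u v = 0) → u = 0)
    (g : Module.End F M) (hg : ∀ u v, β (g u) (g v) = β u v) (r : ℕ) [Fact r.Prime] (hr2 : r ≠ 2)
    (hgr : g ^ r = 1) (hfix : ∀ v, g v = v → v = 0)
    (hq1 : ((Fintype.card F : ℕ) : ZMod r) = 1) :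
    ∃ U : Submodule F M, (∀ u ∈ U, ∀ v ∈ U, β u v = 0) ∧ 2 * finrank F U = finrank F M := by
  classical
  have hr : r.Prime := Fact.out
  have hdvd : r ∣ Fintype.card Fˣ := by
    rw [Fintype.card_units]
    have : ((Fintype.card F - 1 : ℕ) : ZMod r) = 0 := by
      rw [Nat.cast_sub Fintype.card_pos, hq1]; simp
    exact (ZMod.natCast_eq_zero_iff _ _).1 this
  obtain ⟨z, hz⟩ := exists_prime_orderOf_dvd_card r hdvd
  have hprim : IsPrimitiveRoot (z : F) r := by
    have := IsPrimitiveRoot.orderOf (z : F)
    rwa [orderOf_units, hz] at this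
  have hprod := X_pow_sub_one_eq_prod hr.pos hprim
  have hfinM : Finite M := Module.finite_of_finite F
  have hfin : Finite (Submodule F M) :=
    Finite.of_injective (fun U : Submodule F M => (U : Set M)) SetLike.coe_injective
  obtain ⟨U, hUP, hUmax⟩ := Set.exists_max_image
    {U : Submodule F M | Inv g U ∧ ∀ u ∈ U, ∀ v ∈ U, β u v = 0} (fun U => finrank F U)
    (Set.toFinite _) ⟨⊥, by
      refine ⟨fun v hv => ?_, fun u hu v hv => ?_⟩
      · rw [Submodule.mem_bot] at hv ⊢; rw [hv, map_zero]
      · rw [Submodule.mem_bot] at hu; rw [hu]; simp⟩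
  obtain ⟨hUi, hUti⟩ := hUP
  refine ⟨U, hUti, ?_⟩
  -- the orthogonal complement
  have hβnd : LinearMap.BilinForm.Nondegenerate β :=
    ⟨fun x hx => hnd x hx, fun y hy => hnd y (fun v => by rw [hs]; exact hy v)⟩
  have hβrefl : LinearMap.IsRefl β := fun x y hxy => by rw [hs]; exact hxy
  have hWdim := LinearMap.BilinForm.finrank_orthogonal hβnd U
  set W := LinearMap.BilinForm.orthogonal β U with hWdef
  have hUW : U ≤ W := by
    intro u hu
    rw [hWdef, LinearMap.BilinForm.mem_orthogonal_iff]
    intro n hn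
    exact hUti n hn u hu
  have hUle : finrank F U ≤ finrank F M := Submodule.finrank_le U
  by_cases hlt : U = W
  · rw [← hlt] at hWdim
    omega
  exfalso
  have hUltW : U < W := lt_of_le_of_ne hUW hlt
  obtain ⟨w₀, hw₀W, hw₀U⟩ := SetLike.exists_of_lt hUltW
  -- W is invariant
  have hgpow : ∀ v, g ((g ^ (r - 1)) v) = v := by
    intro v
    rw [← Module.End.mul_apply, ← pow_succ', Nat.sub_add_cancel hr.one_le, hgr]
    rfl
  have hWi : Inv g W := by
    intro w hw
    rw [hWdef, LinearMap.BilinForm.mem_orthogonal_iff] at hw ⊢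
    intro u hu
    rw [← hgpow u, hg]
    exact hw _ (hUi.pow (r - 1) u hu)
  have hzero : (aeval g (∏ μ ∈ nthRootsFinset r (1 : F), (X - C μ))) w₀ ∈ U := by
    rw [← hprod]
    simp [hgr]
  obtain ⟨μ, hμS, w, hwW, hwU, hw⟩ := t2_chain g U W hWi _ w₀ hw₀W hw₀U hzero
  have hμr : μ ^ r = 1 := (mem_nthRootsFinset hr.pos (1 : F)).1 hμS
  have hwo : ∀ u ∈ U, β u w = 0 := by
    intro u hu
    rw [hWdef, LinearMap.BilinForm.mem_orthogonal_iff] at hwW
    exact hwW u hu
  set u₁ := g w - μ • w with hu₁
  have hgw : g w = μ • w + u₁ := by rw [hu₁]; abel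
  have hkey : (μ ^ 2 - 1) * β w w = 0 := by
    have h1 := hg w w
    rw [hgw] at h1
    simp only [map_add, map_smul, LinearMap.add_apply, LinearMap.smul_apply, smul_eq_mul] at h1
    rw [hs w u₁, hwo u₁ hw, hUti u₁ hw u₁ hw] at h1
    linear_combination h1
  rcases mul_eq_zero.1 hkey with hμ2 | hww
  · -- μ = 1
    have hμ1 : μ = 1 := by
      obtain ⟨t, ht⟩ := hr.eq_two_or_odd'.resolve_left hr2
      have : μ ^ r = (μ ^ 2) ^ t * μ := by rw [ht, pow_succ, pow_mul]
      rw [this, sub_eq_zero.1 hμ2, one_pow, one_mul] at hμr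
      exact hμr
    -- (g - 1) restricted to U is surjective
    let φ : U →ₗ[F] U := (g - 1).restrict (fun u hu => U.sub_mem (hUi u hu) hu)
    have hφinj : Function.Injective φ := by
      rw [← LinearMap.ker_eq_bot, LinearMap.ker_eq_bot']
      intro u hu
      have h1 : (g - 1) (u : M) = 0 := by
        have := congrArg Subtype.val hu
        simpa [φ] using this
      have h2' : g (u : M) = u := by
        rw [LinearMap.sub_apply, sub_eq_zero] at h1
        exact h1
      exact Subtype.ext (hfix _ h2')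
    have hφsurj : Function.Surjective φ := LinearMap.injective_iff_surjective.1 hφinj
    obtain ⟨u', hu'⟩ := hφsurj ⟨u₁, hw⟩
    have hu'2 : g (u' : M) - u' = u₁ := by
      have := congrArg Subtype.val hu'
      simpa [φ] using this
    have hfixed : g (w - u') = w - u' := by
      rw [map_sub, hgw, hμ1, one_smul]
      rw [← hu'2]
      abel
    have := hfix _ hfixed
    apply hwU
    rw [sub_eq_zero.1 this]
    exact u'.2
  · -- U ⊔ span {w} is a bigger invariant t.i. subspace
    have hbig : Inv g (U ⊔ Submodule.span F {w}) ∧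
        ∀ a ∈ U ⊔ Submodule.span F {w}, ∀ b ∈ U ⊔ Submodule.span F {w}, β a b = 0 := by
      constructor
      · intro v hv
        obtain ⟨u, hu, y, hy, rfl⟩ := Submodule.mem_sup.1 hv
        obtain ⟨c, rfl⟩ := Submodule.mem_span_singleton.1 hy
        rw [map_add, map_smul, hgw, smul_add]
        refine Submodule.add_mem _ (Submodule.mem_sup_left (hUi u hu))
          (Submodule.add_mem _ ?_ (Submodule.mem_sup_left (U.smul_mem _ hw)))
        exact Submodule.mem_sup_right (Submodule.smul_mem _ _ (Submodule.smul_mem _ _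
          (Submodule.mem_span_singleton_self w)))
      · intro a ha b hb
        obtain ⟨u, hu, y, hy, rfl⟩ := Submodule.mem_sup.1 ha
        obtain ⟨c, rfl⟩ := Submodule.mem_span_singleton.1 hy
        obtain ⟨u', hu', y', hy', rfl⟩ := Submodule.mem_sup.1 hb
        obtain ⟨c', rfl⟩ := Submodule.mem_span_singleton.1 hy'
        simp only [map_add, map_smul, LinearMap.add_apply, LinearMap.smul_apply, smul_eq_mul]
        rw [hUti u hu u' hu', hwo u hu, hs w u', hwo u' hu', hww]
        ring
    have hlt2 : U < U ⊔ Submodule.span F {w} := by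
      refine lt_of_le_of_ne le_sup_left (fun h => hwU ?_)
      rw [h]
      exact Submodule.mem_sup_right (Submodule.mem_span_singleton_self w)
    have h1 := hUmax _ hbig
    have h2' := Submodule.finrank_lt_finrank_of_lt hlt2
    omega

end absQ1

section absMain
variable {F M : Type*} [Field F] [AddCommGroup M] [Module F M] [Fintype F] [FiniteDimensional F M]

theorem t2_count (β : M →ₗ[F] M →ₗ[F] F) (h2 : (2 : F) ≠ 0) (hs : ∀ u v, β u v = β v u)
    (hnd : ∀ u, (∀ v, β u v = 0) → u = 0) (U : Submodule F M)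
    (hUti : ∀ u ∈ U, ∀ v ∈ U, β u v = 0) (k : ℕ) (hk : finrank F U = k)
    (hn : finrank F M = 2 * k) :
    Nat.card {v : M // β v v = 0} * Fintype.card F =
      Fintype.card F ^ (2 * k) + (Fintype.card F - 1) * Fintype.card F ^ k := by
  classical
  have hfinM : Finite M := Module.finite_of_finite F
  have hftM : Fintype M := Fintype.ofFinite M
  have hq1 : 1 ≤ Fintype.card F := Fintype.card_pos
  -- U is its own orthogonal complement
  have hβnd : LinearMap.BilinForm.Nondegenerate β :=
    ⟨fun x hx => hnd x hx, fun y hy => hnd y (fun v => by rw [hs]; exact hy v)⟩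
  have hWdim := LinearMap.BilinForm.finrank_orthogonal hβnd U
  have hUW : U ≤ LinearMap.BilinForm.orthogonal β U := by
    intro u hu
    rw [LinearMap.BilinForm.mem_orthogonal_iff]
    intro n hn
    exact hUti n hn u hu
  have hUeqW : U = LinearMap.BilinForm.orthogonal β U :=
    Submodule.eq_of_le_of_finrank_eq hUW (by rw [hWdim, hn, hk]; omega)
  have hUmem : ∀ v, v ∉ U → ∃ u ∈ U, β v u ≠ 0 := by
    intro v hv
    by_contra hcon
    push Not at hcon
    apply hv
    rw [hUeqW, LinearMap.BilinForm.mem_orthogonal_iff]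
    intro n hn
    show β n v = 0
    rw [hs]
    exact hcon n hn
  have hcU : Fintype.card U = Fintype.card F ^ k := by
    rw [Module.card_eq_pow_finrank (K := F) (V := U), hk]
  have hcM : Fintype.card M = Fintype.card F ^ k * Fintype.card F ^ k := by
    rw [Module.card_eq_pow_finrank (K := F) (V := M), hn, two_mul, pow_add]
  set q := Fintype.card F with hq
  set a := q ^ k with ha
  have hapos : 0 < a := Nat.pos_of_ne_zero (pow_ne_zero _ (by omega))
  -- the zero count as a filter
  have hZ : Nat.card {v : M // β v v = 0} =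
      (Finset.univ.filter (fun v : M => β v v = 0)).card := by
    rw [Nat.card_eq_fintype_card, Fintype.card_subtype]
  -- the fibre counts
  let c : M → ℕ := fun v => (Finset.univ.filter (fun u : U => β (v + u) (v + u) = 0)).card
  have h1 : ∑ v : M, c v = Nat.card {v : M // β v v = 0} * a := by
    have : ∀ v : M, c v = ∑ u : U, if β (v + u) (v + u) = 0 then 1 else 0 := by
      intro v
      simp only [c, Finset.card_filter]
    simp only [this]
    rw [Finset.sum_comm]
    have h3 : ∀ u : U, (∑ v : M, if β (v + u) (v + u) = 0 then 1 else 0) =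
        Nat.card {v : M // β v v = 0} := by
      intro u
      rw [hZ, Finset.card_filter]
      exact Fintype.sum_equiv (Equiv.addRight (u : M)) _ _ (fun v => rfl)
    simp only [h3]
    rw [Finset.sum_const, Finset.card_univ, hcU, smul_eq_mul, mul_comm]
  have h2a : ∀ v ∈ U, c v = a := by
    intro v hv
    have : (Finset.univ.filter (fun u : U => β (v + u) (v + u) = 0)) = Finset.univ := by
      apply Finset.filter_true_of_mem
      intro u _
      exact hUti _ (U.add_mem hv u.2) _ (U.add_mem hv u.2)
    simp only [c, this, Finset.card_univ, hcU]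
  have h2b : ∀ v, v ∉ U → c v * q = a := by
    intro v hv
    obtain ⟨u₀, hu₀, hne⟩ := hUmem v hv
    let ψ : U →+ F := ((2 : F) • (β v).domRestrict U).toAddMonoidHom
    have hψ : ∀ u : U, ψ u = 2 * β v u := fun u => rfl
    have hsurj : ∀ t : F, t ∈ Set.range ψ := by
      intro t
      refine ⟨(t / (2 * β v u₀)) • ⟨u₀, hu₀⟩, ?_⟩
      rw [hψ]
      simp only [Submodule.coe_smul, map_smul, smul_eq_mul]
      field_simp
    have hfil : ∀ u : U, (β (v + u) (v + u) = 0) ↔ ψ u = - β v v := by
      intro u
      rw [hψ]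
      simp only [map_add, LinearMap.add_apply]
      rw [hs (u : M) v, hUti u u.2 u u.2]
      constructor
      · intro h; linear_combination h
      · intro h; linear_combination h
    have hcv : c v = (Finset.univ.filter (fun u : U => ψ u = - β v v)).card := by
      simp only [c]
      congr 1
      ext u
      simp only [Finset.mem_filter, Finset.mem_univ, true_and]
      exact hfil u
    have hsum := Finset.card_eq_sum_card_fiberwise (f := ψ) (s := (Finset.univ : Finset U))
      (t := (Finset.univ : Finset F)) (fun _ _ => Finset.mem_coe.2 (Finset.mem_univ _))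
    have heq : ∀ b : F, (Finset.univ.filter (fun u : U => ψ u = b)).card = c v := by
      intro b
      rw [hcv]
      exact AddMonoidHom.card_fiber_eq_of_mem_range ψ (hsurj b) (hsurj _)
    simp only [heq] at hsum
    rw [Finset.sum_const, Finset.card_univ, Finset.card_univ, hcU, smul_eq_mul] at hsum
    rw [mul_comm, ← hsum]
  -- summing up
  have h3 : (∑ v : M, c v) * q = ∑ v : M, if v ∈ U then a * q else a := by
    rw [Finset.sum_mul]
    apply Finset.sum_congr rfl
    intro v _
    by_cases hv : v ∈ U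
    · rw [if_pos hv, h2a v hv]
    · rw [if_neg hv, h2b v hv]
  rw [Finset.sum_ite, Finset.sum_const, Finset.sum_const, smul_eq_mul, smul_eq_mul] at h3
  have hA : (Finset.univ.filter (fun v : M => v ∈ U)).card = a := by
    rw [← hcU, Fintype.card_subtype]
  have hAB := Finset.card_filter_add_card_filter_not (s := (Finset.univ : Finset M))
    (fun v : M => v ∈ U)
  rw [Finset.card_univ, hcM, hA] at hAB
  rw [hA, h1] at h3
  set nB := (Finset.univ.filter (fun v : M => ¬ v ∈ U)).card with hnB
  have h4 : a * (Nat.card {v : M // β v v = 0} * q) = a * (a * q + nB) := by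
    calc a * (Nat.card {v : M // β v v = 0} * q)
        = Nat.card {v : M // β v v = 0} * a * q := by ring
      _ = a * (a * q) + nB * a := h3
      _ = a * (a * q + nB) := by ring
  have h5 := Nat.eq_of_mul_eq_mul_left hapos h4
  have h6 : q ^ (2 * k) = a * a := by rw [two_mul, pow_add]
  have h7 : (q - 1) * a = a * q - a := by rw [Nat.sub_mul, one_mul, mul_comm]
  have h8 : a ≤ a * q := Nat.le_mul_of_pos_right a (by omega)
  rw [h5, h6, h7]
  omega

theorem t2_ZZ_one (q : ℕ) (hq : 1 ≤ q) (k : ℕ) :
    Cfsg.Agent.Lib.Helper43.ZZ q 1 1 k = q ^ (2 * k) := by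
  induction k with
  | zero => rw [Cfsg.Agent.Lib.Helper43.ZZ_zero]; simp
  | succ k ih =>
    rw [Cfsg.Agent.Lib.Helper43.ZZ_succ, ih]
    obtain ⟨t, rfl⟩ : ∃ t, q = t + 1 := ⟨q - 1, by omega⟩
    simp only [Nat.add_sub_cancel]
    ring

theorem t2_abs (β : M →ₗ[F] M →ₗ[F] F) (h2 : (2 : F) ≠ 0) (hs : ∀ u v, β u v = β v u)
    (hnd : ∀ u, (∀ v, β u v = 0) → u = 0)
    (g : Module.End F M) (hg : ∀ u v, β (g u) (g v) = β u v) (r : ℕ) [Fact r.Prime] (hr2 : r ≠ 2)
    (hrq : ¬ r ∣ Fintype.card F) (hgr : g ^ r = 1) (hfix : ∀ v, g v = v → v = 0) :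
    (∃ U : Submodule F M, (∀ u ∈ U, ∀ v ∈ U, β u v = 0) ∧ 2 * finrank F U = finrank F M) ↔
      ((Fintype.card F : ℕ) : ZMod r) ^ (finrank F M / 2) = 1 := by
  classical
  have hr : r.Prime := Fact.out
  by_cases hx1 : ((Fintype.card F : ℕ) : ZMod r) = 1
  · refine ⟨fun _ => by rw [hx1, one_pow], fun _ => ?_⟩
    exact t2_q1 β h2 hs hnd g hg r hr2 hgr hfix hx1
  have hfinM : Finite M := Module.finite_of_finite F
  have hq1 : 1 ≤ Fintype.card F := Fintype.card_pos
  have h2r : (2 : ZMod r) ≠ 0 := by
    intro h0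
    have h3 : ((2 : ℕ) : ZMod r) = 0 := by exact_mod_cast h0
    rw [ZMod.natCast_eq_zero_iff] at h3
    exact hr2 ((Nat.prime_dvd_prime_iff_eq hr Nat.prime_two).1 h3)
  -- the quadratic form
  let Q : QuadraticForm F M := LinearMap.BilinMap.toQuadraticMap β
  have hQ : ∀ v, Q v = β v v := fun v => LinearMap.BilinMap.toQuadraticMap_apply β v
  have hpol : ∀ u v, QuadraticMap.polar Q u v = 2 * β u v := by
    intro u v
    rw [LinearMap.BilinMap.polar_toQuadraticMap, hs v u]
    ring
  have hQnd : (QuadraticMap.polarBilin Q).Nondegenerate := by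
    constructor
    · intro u hu
      apply hnd u
      intro v
      have := hu v
      rw [QuadraticMap.polarBilin_apply_apply, hpol] at this
      exact (mul_eq_zero.1 this).resolve_left h2
    · intro v hv
      apply hnd v
      intro u
      have := hv u
      rw [QuadraticMap.polarBilin_apply_apply, hpol] at this
      rw [hs]
      exact (mul_eq_zero.1 this).resolve_left h2
  -- the action
  have hgit : ∀ v : M, (⇑g)^[r] v = v := by
    intro v
    rw [← Module.End.pow_apply, hgr]
    rfl
  -- the number of vectors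
  have hxn : ((Fintype.card F : ℕ) : ZMod r) ^ finrank F M = 1 := by
    have h := Cfsg.Agent.Lib.Helper43.ZeroCount.card_zeros_modEq (fun _ : M => (0 : F)) (⇑g) r
      hgit (fun _ => rfl)
    have h1 : Nat.card {v : M // (0 : F) = 0} = Fintype.card F ^ finrank F M := by
      rw [Nat.card_congr (Equiv.subtypeUnivEquiv (fun _ => rfl)), Module.natCard_eq_pow_finrank (K := F),
        Nat.card_eq_fintype_card]
    have h3 : Nat.card {v : M // (0 : F) = 0 ∧ g v = v} = 1 := by
      rw [Nat.card_eq_one_iff_unique]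
      refine ⟨⟨fun a b => Subtype.ext ?_⟩, ⟨⟨0, rfl, map_zero g⟩⟩⟩
      rw [hfix a.1 a.2.2, hfix b.1 b.2.2]
    rw [h1, h3] at h
    have := (ZMod.natCast_eq_natCast_iff _ _ _).2 h
    simpa using this
  -- the zero count
  have hZ1 : ((Nat.card {v : M // Q v = 0} : ℕ) : ZMod r) = 1 := by
    have h := Cfsg.Agent.Lib.Helper43.ZeroCount.card_zeros_modEq (fun v : M => Q v) (⇑g) r
      hgit (fun v => by rw [hQ, hQ, hg])
    have h3 : Nat.card {v : M // Q v = 0 ∧ g v = v} = 1 := by
      rw [Nat.card_eq_one_iff_unique]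
      refine ⟨⟨fun a b => Subtype.ext ?_⟩, ⟨⟨0, map_zero Q, map_zero g⟩⟩⟩
      rw [hfix a.1 a.2.2, hfix b.1 b.2.2]
    rw [h3] at h
    have := (ZMod.natCast_eq_natCast_iff _ _ _).2 h
    simpa using this
  -- Witt decomposition
  obtain ⟨k, e, f, W, H, hW2, haniso, hnd'⟩ := Cfsg.Agent.Lib.Helper43.witt_family M Q hQnd
  obtain ⟨hd, hz, -⟩ := Cfsg.Agent.Lib.Helper43.card_OG_family (Q.comp W.subtype) hnd' k M Q
    W.subtype e f H
  rw [Cfsg.Agent.Lib.Helper43.card_zeros_aniso _ haniso] at hz
  set x := ((Fintype.card F : ℕ) : ZMod r) with hx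
  have hcases : finrank F W = 0 ∨ finrank F W = 1 ∨ finrank F W = 2 := by omega
  rcases hcases with h0 | h1 | h2'
  · -- plus type
    rw [h0] at hz hd
    have hnk : finrank F M / 2 = k := by omega
    have hkey := Cfsg.Agent.Lib.Helper43.ZeroCount.cast_ZZ_plus (R := ZMod r) (Fintype.card F) hq1 k
    rw [← hz, hZ1] at hkey
    unfold Cfsg.Agent.Lib.Helper43.ZeroCount.zhat at hkey
    have hx2k : x ^ (2 * k) = 1 := by
      have : finrank F M = 2 * k := by omega
      rw [← this]; exact hxn
    rw [← hx, hx2k] at hkey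
    have hxk : x ^ k = 1 := by
      have h5 : (x - 1) * (x ^ k - 1) = 0 := by linear_combination -hkey
      rcases mul_eq_zero.1 h5 with h6 | h6
      · exact absurd (sub_eq_zero.1 h6) hx1
      · exact sub_eq_zero.1 h6
    rw [hnk]
    refine ⟨fun _ => hxk, fun _ => ?_⟩
    -- the span of the `e i`
    have hli : LinearIndependent F e :=
      Cfsg.Agent.Lib.Helper43.linearIndependent_of_dual Q e f H.toFam.fe
    have hee : ∀ i j, β (e i) (e j) = 0 := by
      intro i j
      have := H.ee i j
      rw [hpol] at this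
      exact (mul_eq_zero.1 this).resolve_left h2
    refine ⟨Submodule.span F (Set.range e), ?_, ?_⟩
    · have h1 : ∀ i, ∀ v ∈ Submodule.span F (Set.range e), β (e i) v = 0 := by
        intro i v hv
        induction hv using Submodule.span_induction with
        | mem v hv => obtain ⟨j, rfl⟩ := hv; exact hee i j
        | zero => simp
        | add a b _ _ ha hb => rw [map_add, ha, hb, add_zero]
        | smul c a _ ha => rw [map_smul, ha, smul_zero]
      intro u hu v hv
      induction hu using Submodule.span_induction with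
      | mem u hu => obtain ⟨i, rfl⟩ := hu; exact h1 i v hv
      | zero => simp
      | add a b _ _ ha hb => rw [map_add, LinearMap.add_apply, ha, hb, add_zero]
      | smul c a _ ha => rw [map_smul, LinearMap.smul_apply, ha, smul_zero]
    · rw [finrank_span_eq_card hli, Fintype.card_fin]
      omega
  · -- odd dimension: impossible
    exfalso
    rw [h1, t2_ZZ_one _ hq1] at hz
    rw [h1] at hd
    have h5 : x ^ (2 * k) = 1 := by
      have := hZ1
      rw [hz] at this
      simpa using this
    rw [hd, pow_succ, h5, one_mul] at hxn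
    exact hx1 hxn
  · -- minus type
    rw [h2'] at hz hd
    have hnk : finrank F M / 2 = k + 1 := by omega
    have hkey := Cfsg.Agent.Lib.Helper43.ZeroCount.cast_ZZ_minus (R := ZMod r) (Fintype.card F) hq1 k
    rw [← hz, hZ1] at hkey
    unfold Cfsg.Agent.Lib.Helper43.ZeroCount.zhat at hkey
    have hx2k : x ^ (2 * (k + 1)) = 1 := by
      have : finrank F M = 2 * (k + 1) := by omega
      rw [← this]; exact hxn
    rw [← hx, hx2k] at hkey
    have hxk : x ^ (k + 1) = -1 := by
      have h5 : (x - 1) * (x ^ (k + 1) + 1) = 0 := by linear_combination hkey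
      rcases mul_eq_zero.1 h5 with h6 | h6
      · exact absurd (sub_eq_zero.1 h6) hx1
      · exact eq_neg_of_add_eq_zero_left h6
    rw [hnk, hxk]
    constructor
    · rintro ⟨U, hUti, hUd⟩
      exfalso
      have hcnt := t2_count β h2 hs hnd U hUti (k + 1) (by omega) (by omega)
      have hZQ : Nat.card {v : M // β v v = 0} = Nat.card {v : M // Q v = 0} := by
        apply Nat.card_congr
        exact Equiv.subtypeEquivRight (fun v => by rw [hQ])
      rw [hZQ] at hcnt
      have hc := congrArg (fun n : ℕ => (n : ZMod r)) hcnt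
      simp only [Nat.cast_mul, Nat.cast_add, Nat.cast_pow, Nat.cast_sub hq1, Nat.cast_one] at hc
      rw [hZ1, ← hx, hx2k, hxk] at hc
      apply hx1
      have h6 : (2 : ZMod r) * (x - 1) = 0 := by linear_combination hc
      rcases mul_eq_zero.1 h6 with h7 | h7
      · exact absurd h7 h2r
      · exact sub_eq_zero.1 h7
    · intro h
      exfalso
      have h6 : (2 : ZMod r) = 0 := by linear_combination -h
      exact h2r h6

end absMain

section abstract

variable {F V : Type*} [Field F] [Fintype F] [AddCommGroup V] [Module F V] [FiniteDimensional F V]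
variable {B : V →ₗ[F] V →ₗ[F] F}

/-- HY-T2 -/
theorem plus_fpf (h2 : (2 : F) ≠ 0) (hs : ∀ u v, B u v = B v u) {f : Module.End F V}
    (hf : Isom B f) (r : ℕ) [Fact r.Prime] (hr2 : r ≠ 2) (hrq : ¬ r ∣ Fintype.card F)
    (hfr : f ^ r = 1) {N : Submodule F V} (hNi : Inv f N) (hN : Nd B N) (hfix : N ⊓ Fix f = ⊥) :
    Plus B N ↔ ((Fintype.card F : ℕ) : ZMod r) ^ (finrank F N / 2) = 1 := by
  let β : N →ₗ[F] N →ₗ[F] F := B.domRestrict₁₂ N N
  have hβ : ∀ u v : N, β u v = B u v := fun u v => LinearMap.domRestrict₁₂_apply B N N u v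
  have hNi' : ∀ x ∈ N, f x ∈ N := hNi
  let g : Module.End F N := f.restrict hNi'
  have hgv : ∀ v : N, ((g v : N) : V) = f v := fun v => rfl
  have hgpow : ∀ n : ℕ, ∀ v : N, (((g ^ n) v : N) : V) = (f ^ n) v := by
    intro n
    induction n with
    | zero => intro v; rfl
    | succ n ih =>
      intro v
      rw [pow_succ', Module.End.mul_apply, hgv, ih, pow_succ', Module.End.mul_apply]
  have hgr : g ^ r = 1 := by
    apply LinearMap.ext
    intro v
    apply Subtype.ext
    rw [hgpow, hfr]
    rfl
  have hfix' : ∀ v : N, g v = v → v = 0 := by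
    intro v hv
    have h1 : f (v : V) = v := by rw [← hgv, hv]
    have h3 : (v : V) ∈ N ⊓ Fix f := by
      refine ⟨v.2, ?_⟩
      show (v : V) ∈ LinearMap.ker (f - 1)
      rw [LinearMap.mem_ker, LinearMap.sub_apply, h1]
      simp
    rw [hfix, Submodule.mem_bot] at h3
    exact Subtype.ext h3
  have habs := t2_abs β h2 (fun u v => by rw [hβ, hβ, hs]) (fun u hu => by
      apply Subtype.ext
      apply hN u.1 u.2
      intro v hv
      have := hu ⟨v, hv⟩
      rw [hβ] at this
      exact this) g (fun u v => by rw [hβ, hβ, hgv, hgv]; exact hf u v) r hr2 hrq hgr hfix'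
  rw [← habs]
  constructor
  · rintro ⟨U, hUN, hUti, hUd⟩
    refine ⟨U.comap N.subtype, ?_, ?_⟩
    · intro u hu v hv
      rw [hβ]
      exact hUti u hu v hv
    · rw [(Submodule.comapSubtypeEquivOfLe hUN).finrank_eq]
      exact hUd
  · rintro ⟨U', hUti, hUd⟩
    refine ⟨U'.map N.subtype, Submodule.map_subtype_le N U', ?_, ?_⟩
    · intro u hu v hv
      obtain ⟨u', hu', rfl⟩ := Submodule.mem_map.1 hu
      obtain ⟨v', hv', rfl⟩ := Submodule.mem_map.1 hv
      have := hUti u' hu' v' hv'
      rw [hβ] at this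
      exact this
    · rw [← (Submodule.equivSubtypeMap N U').finrank_eq]
      exact hUd

end abstract

end Cfsg.Agent.Lib.Helper5.Hy
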