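import Mathlib
import Cfsg.Agent.Lib.Helper14.TuDefs
import Cfsg.Agent.Lib.Helper2.BGPoly
import Cfsg.Agent.Lib.Helper40.SympBasic

/-!
# Tu hive (S5953, owner helper14): leaves TU-IRR `exists_minimal` and TU-DVD `dvd_finrank_moved` (helper76)
-/

set_option autoImplicit false
set_option linter.unusedSectionVars false
set_option linter.unusedVariables false
set_option linter.style.haveILetI false

namespace Cfsg.Agent.Lib.Helper14.Tu

open Cfsg.Agent.Lib.Helper40.Herm Cfsg.Agent.Lib.Helper2.BG Polynomial Module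

section abs
variable {F : Type*} [Field F] [Fintype F] {q : ℕ} {hF : Fintype.card F = q ^ 2}
  {V : Type*} [AddCommGroup V] [Module F V] [FiniteDimensional F V]
  {H : V →ₗ[F] V →ₛₗ[tauHom hF] F} {g : Module.End F V} {N : ℕ}

/-- semisimplicity (same content as TU-SS; private-prefixed copy so that this file does not wait for it) -/
theorem irr_ss (hc : Ctx hF H g N) : g.IsSemisimple :=
  Cfsg.Agent.Lib.Helper40.Symp.isSemisimple_of_pow_eq_one hc.ne hc.pow

/-- an invariant subspace without fixed vectors is killed by `Φ_r(g)` when `g ^ r = 1`. -/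
theorem irr_killed {r : ℕ} (hc : Ctx hF H g r) (hr : r.Prime) {M : Submodule F V} (hMi : Inv g M)
    (hMfix : ∀ v ∈ M, g v = v → v = 0) : ∀ v ∈ M, aeval g (cyclotomic r F) v = 0 := by
  intro v hv
  haveI : Fact r.Prime := ⟨hr⟩
  apply hMfix _ (hMi.aeval (cyclotomic r F) v hv)
  have h1 : aeval g ((X - 1 : F[X]) * cyclotomic r F) v = 0 := by
    rw [mul_comm, Polynomial.cyclotomic_prime_mul_X_sub_one F r]
    simp [hc.pow]
  rw [map_mul, Module.End.mul_apply] at h1
  have h2 : aeval g (X - 1 : F[X]) = g - 1 := by simp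
  rw [h2, LinearMap.sub_apply, Module.End.one_apply, sub_eq_zero] at h1
  exact h1

theorem irr_bOf (i : ℕ) : i / Nat.gcd i 2 = bOf i := by
  unfold bOf
  split_ifs with h
  · obtain ⟨k, rfl⟩ := h
    have : Nat.gcd (k + k) 2 = 2 := by
      have : k + k = 2 * k := by ring
      rw [this]; simp
    rw [this]
  · have hodd : Nat.gcd i 2 = 1 := by
      have := Nat.not_even_iff_odd.mp h
      exact (Nat.coprime_comm.mp (Nat.coprime_two_left.mpr this))
    rw [hodd, Nat.div_one]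

/-- the irreducible factors of `Φ_r` over `F`, `|F| = q²`, have degree `bOf (ord_r q)`. -/
theorem irr_allIrrDeg (hF' : Fintype.card F = q ^ 2) {r : ℕ} (hr : r.Prime) (hrF : (r : F) ≠ 0) :
    AllIrrDeg (cyclotomic r F) (bOf (orderOf (q : ZMod r))) := by
  haveI : Fact r.Prime := ⟨hr⟩
  obtain ⟨p, hp⟩ := CharP.exists F
  haveI := hp
  haveI : Fact p.Prime := ⟨CharP.char_is_prime F p⟩
  have hrp : r ≠ p := by
    rintro rfl
    exact hrF (CharP.cast_eq_zero F r)
  have h := allIrrDeg_cyclotomic (F := F) (p := p) (r := r) hrp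
  have e : orderOf ((Fintype.card F : ℕ) : ZMod r) = bOf (orderOf (q : ZMod r)) := by
    rw [hF', Nat.cast_pow, orderOf_pow' _ (by norm_num : (2 : ℕ) ≠ 0), irr_bOf]
  rwa [e] at h

/-- a non-injective polynomial in `g` on an invariant subspace has an irreducible factor with a kernel. -/
theorem irr_exists_factor {Z : Submodule F V} (hZi : Inv g Z) :
    ∀ (n : ℕ) (A : F[X]), A.natDegree = n → A ≠ 0 → ∀ v ∈ Z, v ≠ 0 → aeval g A v = 0 →
      ∃ P : F[X], Irreducible P ∧ P ∣ A ∧ ∃ w ∈ Z, w ≠ 0 ∧ aeval g P w = 0 := by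
  intro n
  induction n using Nat.strong_induction_on with
  | _ n ih =>
    intro A hAn hA0 v hvZ hv0 hAv
    by_cases hu : IsUnit A
    · exfalso
      obtain ⟨c, hc, rfl⟩ := Polynomial.isUnit_iff.mp hu
      rw [aeval_C, Module.algebraMap_end_apply] at hAv
      rcases smul_eq_zero.mp hAv with h | h
      · exact hc.ne_zero h
      · exact hv0 h
    obtain ⟨P, hP, B, rfl⟩ := WfDvdMonoid.exists_irreducible_factor hu hA0
    have hB0 : B ≠ 0 := right_ne_zero_of_mul hA0
    by_cases hw : aeval g B v = 0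
    · have hdeg : B.natDegree < n := by
        rw [← hAn, Polynomial.natDegree_mul hP.ne_zero hB0]
        have := hP.natDegree_pos
        omega
      obtain ⟨P', hP', hP'B, w, hwZ, hw0, hPw⟩ := ih _ hdeg B rfl hB0 v hvZ hv0 hw
      exact ⟨P', hP', hP'B.trans (Dvd.intro_left P rfl), w, hwZ, hw0, hPw⟩
    · refine ⟨P, hP, Dvd.intro B rfl, aeval g B v, hZi.aeval B v hvZ, hw, ?_⟩
      rw [← Module.End.mul_apply, ← map_mul]
      exact hAv

/-- TU-IRR. -/
theorem exists_minimal {r : ℕ} (hc : Ctx hF H g r) (hr : r.Prime) {M : Submodule F V} (hMi : Inv g M)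
    (hM0 : M ≠ ⊥) (hMfix : ∀ v ∈ M, g v = v → v = 0) :
    ∃ Y : Submodule F V, Y ≤ M ∧ Inv g Y ∧ Y ≠ ⊥ ∧
      (∀ Y' : Submodule F V, Y' ≤ Y → Inv g Y' → Y' = ⊥ ∨ Y' = Y) ∧
      finrank F ↥Y = bOf (orderOf (q : ZMod r)) ∧
      ∃ P : F[X], Irreducible P ∧ P ∣ cyclotomic r F ∧ ∀ v ∈ Y, aeval g P v = 0 := by
  have hss := irr_ss hc
  have hne : cyclotomic r F ≠ 0 := Polynomial.cyclotomic_ne_zero r F
  have hall := irr_allIrrDeg hF hr hc.ne
  have hkill := irr_killed hc hr hMi hMfix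
  obtain ⟨hdpos, Z, hZM, hZi, hZd⟩ := exists_inv_finrank_eq g hne hall hMi hkill hM0
  have hZ0 : Z ≠ ⊥ := by
    intro h
    rw [h, finrank_bot] at hZd
    omega
  have hZkill : ∀ v ∈ Z, aeval g (cyclotomic r F) v = 0 := fun v hv => hkill v (hZM hv)
  have hmin : ∀ Y' : Submodule F V, Y' ≤ Z → Inv g Y' → Y' = ⊥ ∨ Y' = Z := by
    intro Y' hY'Z hY'i
    by_cases h0 : Y' = ⊥
    · exact Or.inl h0
    right
    have hdvd := dvd_finrank_of_inv hss hne hall _ Y' rfl hY'i (fun v hv => hZkill v (hY'Z hv))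
    have hle : finrank F ↥Y' ≤ finrank F ↥Z := Submodule.finrank_mono hY'Z
    have hpos : 0 < finrank F ↥Y' := by
      rw [Nat.pos_iff_ne_zero]
      intro h
      exact h0 (Submodule.finrank_eq_zero.mp h)
    have hge : finrank F ↥Z ≤ finrank F ↥Y' := by
      rw [hZd]
      exact Nat.le_of_dvd hpos hdvd
    exact Submodule.eq_of_le_of_finrank_le hY'Z hge
  refine ⟨Z, hZM, hZi, hZ0, hmin, hZd, ?_⟩
  obtain ⟨v, hvZ, hv0⟩ := (Submodule.ne_bot_iff Z).mp hZ0
  obtain ⟨P, hP, hPdvd, w, hwZ, hw0, hPw⟩ :=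
    irr_exists_factor hZi _ (cyclotomic r F) rfl hne v hvZ hv0 (hZkill v hvZ)
  refine ⟨P, hP, hPdvd, ?_⟩
  have hYi : Inv g (Z ⊓ LinearMap.ker (aeval g P)) := hZi.inf (inv_ker_aeval g P)
  rcases hmin _ inf_le_left hYi with h | h
  · exfalso
    have : w ∈ Z ⊓ LinearMap.ker (aeval g P) := ⟨hwZ, LinearMap.mem_ker.mpr hPw⟩
    rw [h] at this
    exact hw0 ((Submodule.mem_bot F).mp this)
  · intro v hv
    have : v ∈ Z ⊓ LinearMap.ker (aeval g P) := by rw [h]; exact hv
    exact LinearMap.mem_ker.mp this.2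

/-- TU-DVD. -/
theorem dvd_finrank_moved {r : ℕ} (hc : Ctx hF H g r) (hr : r.Prime) {M : Submodule F V} (hMi : Inv g M)
    (hMfix : ∀ v ∈ M, g v = v → v = 0) : bOf (orderOf (q : ZMod r)) ∣ finrank F ↥M :=
  dvd_finrank_of_inv (irr_ss hc) (Polynomial.cyclotomic_ne_zero r F)
    (irr_allIrrDeg hF hr hc.ne) _ M rfl hMi (irr_killed hc hr hMi hMfix)

end abs

end Cfsg.Agent.Lib.Helper14.Tu
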