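import Mathlib
import Cfsg.Agent.Lib.Helper16.PSLDefs
import Cfsg.Agent.Lib.Helper3.CharOps
import Cfsg.Agent.Lib.Helper25.CharBound

/-!
# PSL hive (S4472, owner helper16): leaf PSL-X2 `exists_pi_char`, in hypothesis form (helper76)

`x2_of_irr` derives the statement of `exists_pi_char` (arbitrary character `χ`) from the statement of
`exists_pi_char_irr` (irreducible `ξ`) given as a hypothesis; the final `exists_pi_char` is the one-liner
`x2_of_irr Q (fun ξ hξ => exists_pi_char_irr Q hcop hξ) hχ` (file `PSLX2b.lean`, once X1 is on main).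
-/

set_option autoImplicit false
set_option linter.unusedSectionVars false
set_option linter.unusedVariables false
set_option linter.style.haveILetI false

namespace Cfsg.Agent.Lib.Helper16.PSL

open Cfsg

universe u

theorem x2_of_irr {L : Type u} [Group L] [Finite L] (Q : Subgroup L)
    (hX1 : ∀ ξ : L → ℂ, IsIrrCharacter L ξ →
      ∃ X : L → ℂ, IsCharacter L X ∧ PowInv (Nat.card Q) X ∧
        (∃ a b : ℕ, X 1 = (a : ℂ) ∧ ξ 1 = (b : ℂ) ∧ a ≤ b) ∧
        ∀ q ∈ Q, X q = X 1 → ξ q = ξ 1)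
    {χ : L → ℂ} (hχ : IsCharacter L χ) :
    ∃ X : L → ℂ, IsCharacter L X ∧ PowInv (Nat.card Q) X ∧
      (∃ a b : ℕ, X 1 = (a : ℂ) ∧ χ 1 = (b : ℂ) ∧ a ≤ b) ∧
      ∀ q ∈ Q, X q = X 1 → χ q = χ 1 := by
  classical
  haveI : Fintype L := Fintype.ofFinite L
  haveI : Fintype (IrrCharacter L) := Fintype.ofFinite _
  obtain ⟨m, hm, hsum⟩ := Cfsg.Agent.Lib.Helper3.IsCharacter.exists_mult hχ
  choose Xf hXc hXp hXd hXk using fun ψ : IrrCharacter L => hX1 ψ.1 ψ.2
  choose af bf haf hbf hab using hXd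
  set S : Finset (IrrCharacter L) := Finset.univ.filter (fun ψ => m ψ ≠ 0) with hS
  have hχval : ∀ g : L, χ g = ∑ ψ : IrrCharacter L, (m ψ : ℂ) * (ψ : L → ℂ) g := by
    intro g
    conv_lhs => rw [hsum]
    simp [Finset.sum_apply]
  refine ⟨∑ ψ ∈ S, Xf ψ, Cfsg.Agent.Lib.Helper3.IsCharacter.sum S _ (fun ψ _ => hXc ψ), ?_, ?_, ?_⟩
  · intro g k hk hk1
    simp only [Finset.sum_apply]
    exact Finset.sum_congr rfl (fun ψ _ => hXp ψ g k hk hk1)
  · refine ⟨∑ ψ ∈ S, af ψ, ∑ ψ : IrrCharacter L, m ψ * bf ψ, ?_, ?_, ?_⟩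
    · simp only [Finset.sum_apply]
      push_cast
      exact Finset.sum_congr rfl (fun ψ _ => haf ψ)
    · rw [hχval 1]
      push_cast
      exact Finset.sum_congr rfl (fun ψ _ => by rw [hbf ψ])
    · calc ∑ ψ ∈ S, af ψ ≤ ∑ ψ ∈ S, m ψ * bf ψ := by
            apply Finset.sum_le_sum
            intro ψ hψ
            have hm0 : m ψ ≠ 0 := (Finset.mem_filter.mp hψ).2
            calc af ψ ≤ bf ψ := hab ψ
              _ = 1 * bf ψ := (one_mul _).symm
              _ ≤ m ψ * bf ψ := Nat.mul_le_mul_right _ (Nat.one_le_iff_ne_zero.mpr hm0)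
        _ ≤ ∑ ψ : IrrCharacter L, m ψ * bf ψ :=
            Finset.sum_le_sum_of_subset (Finset.filter_subset _ _)
  · intro q hq hXq
    simp only [Finset.sum_apply] at hXq
    have hre : ∑ ψ ∈ S, (Xf ψ q).re = ∑ ψ ∈ S, (Xf ψ 1).re := by
      rw [← Complex.re_sum, ← Complex.re_sum, hXq]
    have hle : ∀ ψ ∈ S, (Xf ψ q).re ≤ (Xf ψ 1).re := fun ψ _ =>
      (Cfsg.Agent.Lib.Helper25.char_re_le (hXc ψ) q).1
    have heq := (Finset.sum_eq_sum_iff_of_le hle).mp hre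
    have hterm : ∀ ψ ∈ S, Xf ψ q = Xf ψ 1 := fun ψ hψ =>
      (Cfsg.Agent.Lib.Helper25.char_re_le (hXc ψ) q).2 (heq ψ hψ)
    rw [hχval q, hχval 1]
    apply Finset.sum_congr rfl
    intro ψ _
    by_cases h0 : m ψ = 0
    · simp [h0]
    · have hψS : ψ ∈ S := Finset.mem_filter.mpr ⟨Finset.mem_univ _, h0⟩
      rw [hXk ψ q hq (hterm ψ hψS)]

end Cfsg.Agent.Lib.Helper16.PSL
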