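import Mathlib
import Cfsg.Agent.Lib.Helper56.FrobApply
import Cfsg.Agent.Lib.Helper2.PGroup
import Cfsg.Agent.Lib.Helper24.Coprime

/-!
# The `Q / C_Q(D)` part of B&G Theorem 15.2, abstractly

A Frobenius group `D ⋊ K` acting coprimely on a `q`-group `Q` such that every non-identity element
of `K` has the same centralizer `K*` of order `q` in `Q`, and `D` does not centralize `Q`.  Then
`|K|` is prime, `Q₀ = C_Q(D)` is normal in `Q`, `|Q| = |Q₀| q ^ |K|`, `Q / Q₀` is elementary abelian
and there is no `D K`-invariant subgroup strictly between `Q₀` and `Q`.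
-/

set_option autoImplicit false
set_option linter.unusedSectionVars false
set_option linter.unusedVariables false
set_option linter.style.haveILetI false

universe u

namespace Cfsg.Agent.Lib.Helper76.BG152

open Subgroup
open scoped commutatorElement

variable {X : Type u} [Group X] [Finite X]

theorem h76_conj_mem {A H : Subgroup X} (h : A ≤ normalizer (H : Set X)) {a : X} (ha : a ∈ A)
    {x : X} (hx : x ∈ H) : a * x * a⁻¹ ∈ H :=
  ((Subgroup.mem_normalizer_iff.1 (h ha)) x).1 hx

theorem h76_le_normalizer_of_conj_mem {A H : Subgroup X}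
    (h : ∀ a ∈ A, ∀ x ∈ H, a * x * a⁻¹ ∈ H) : A ≤ normalizer (H : Set X) := by
  intro a ha
  rw [Subgroup.mem_normalizer_iff]
  intro x
  refine ⟨h a ha x, fun hx => ?_⟩
  have := h a⁻¹ (A.inv_mem ha) _ hx
  simpa [mul_assoc] using this

theorem h76_centralizer_sup (A B : Subgroup X) :
    centralizer ((A ⊔ B : Subgroup X) : Set X)
      = centralizer (A : Set X) ⊓ centralizer (B : Set X) := by
  apply le_antisymm
  · refine le_inf (centralizer_le ?_) (centralizer_le ?_)
    · exact_mod_cast (le_sup_left : A ≤ A ⊔ B)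
    · exact_mod_cast (le_sup_right : B ≤ A ⊔ B)
  · intro x hx
    have hA : A ≤ centralizer ({x} : Set X) := by
      intro a ha
      rw [mem_centralizer_iff]
      intro h hh
      rw [Set.mem_singleton_iff] at hh
      subst hh
      exact (hx.1 a ha).symm
    have hB : B ≤ centralizer ({x} : Set X) := by
      intro a ha
      rw [mem_centralizer_iff]
      intro h hh
      rw [Set.mem_singleton_iff] at hh
      subst hh
      exact (hx.2 a ha).symm
    rw [mem_centralizer_iff]
    intro y hy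
    have := (sup_le hA hB) hy
    rw [mem_centralizer_iff] at this
    exact (this x rfl).symm

/-- `A` normalizes `D` ⇒ `A` normalizes `C(D)`. -/
theorem h76_norm_centralizer {A D : Subgroup X} (h : A ≤ normalizer (D : Set X)) :
    A ≤ normalizer ((centralizer (D : Set X) : Subgroup X) : Set X) := by
  apply h76_le_normalizer_of_conj_mem
  intro a ha x hx
  rw [mem_centralizer_iff]
  intro d hd
  have hd' : a⁻¹ * d * a⁻¹⁻¹ ∈ D := h76_conj_mem h (A.inv_mem ha) hd
  have hc := hx _ hd'
  -- hc : a⁻¹ * d * a⁻¹⁻¹ * x = x * (a⁻¹ * d * a⁻¹⁻¹)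
  have : d = a * (a⁻¹ * d * a⁻¹⁻¹) * a⁻¹ := by group
  calc d * (a * x * a⁻¹) = a * ((a⁻¹ * d * a⁻¹⁻¹) * x) * a⁻¹ := by group
    _ = a * (x * (a⁻¹ * d * a⁻¹⁻¹)) * a⁻¹ := by rw [hc]
    _ = a * x * a⁻¹ * d := by group

theorem h76_norm_inf {A H₁ H₂ : Subgroup X} (h1 : A ≤ normalizer (H₁ : Set X))
    (h2 : A ≤ normalizer (H₂ : Set X)) : A ≤ normalizer ((H₁ ⊓ H₂ : Subgroup X) : Set X) := by
  apply h76_le_normalizer_of_conj_mem
  intro a ha x hx
  exact ⟨h76_conj_mem h1 ha hx.1, h76_conj_mem h2 ha hx.2⟩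

theorem h76_norm_sup {A H₁ H₂ : Subgroup X} (h1 : A ≤ normalizer (H₁ : Set X))
    (h2 : A ≤ normalizer (H₂ : Set X)) : A ≤ normalizer ((H₁ ⊔ H₂ : Subgroup X) : Set X) := by
  apply h76_le_normalizer_of_conj_mem
  intro a ha x hx
  have hle : H₁ ⊔ H₂ ≤ (H₁ ⊔ H₂).comap (MulAut.conj a).toMonoidHom := by
    refine sup_le ?_ ?_
    · intro y hy
      rw [mem_comap]
      exact (le_sup_left : H₁ ≤ H₁ ⊔ H₂) (by simpa using h76_conj_mem h1 ha hy)
    · intro y hy
      rw [mem_comap]
      exact (le_sup_right : H₂ ≤ H₁ ⊔ H₂) (by simpa using h76_conj_mem h2 ha hy)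
  have := hle hx
  rw [mem_comap] at this
  simpa using this

/-- The Frobenius formula for a `D K`-invariant subgroup `H` of the `q`-group `Q`. -/
theorem h76_formula {q : ℕ} [hq : Fact q.Prime] (Q D K H : Subgroup X) (hQ : IsPGroup q Q)
    (hK1 : K ≠ ⊥) (hKD : K ≤ normalizer (D : Set X))
    (hfpf : ∀ k ∈ K, k ≠ 1 → D ⊓ centralizer ({k} : Set X) = ⊥)
    (hcop : (Nat.card ↥(D ⊔ K)).Coprime q)
    (hHQ : H ≤ Q) (hDH : D ≤ normalizer (H : Set X)) (hKH : K ≤ normalizer (H : Set X)) :
    Nat.card ↥(H ⊓ centralizer (D : Set X) ⊓ centralizer (K : Set X)) ^ Nat.card K * Nat.card H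
      = Nat.card ↥(H ⊓ centralizer (K : Set X)) ^ Nat.card K
        * Nat.card ↥(H ⊓ centralizer (D : Set X)) := by
  have hHp : IsPGroup q H := hQ.to_le hHQ
  haveI : Group.IsNilpotent H := hHp.isNilpotent
  have hsolv : Group.IsSolvable H := inferInstance
  obtain ⟨n, hn⟩ := hHp.exists_card_eq
  have hcop' : Nat.Coprime (Nat.card H) (Nat.card ↥(D ⊔ K)) := by
    rw [hn]
    exact Nat.Coprime.pow_left n hcop.symm
  have := Cfsg.Agent.Lib.Helper56.FrobApply.frobenius_formula D K H hK1
    (fun e he u hu => h76_conj_mem hKD he hu)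
    (fun e he he1 u hu hc => by
      have hmem : u ∈ D ⊓ centralizer ({e} : Set X) := by
        refine Subgroup.mem_inf.2 ⟨hu, ?_⟩
        rw [mem_centralizer_iff]
        intro h hh
        rw [Set.mem_singleton_iff] at hh
        subst hh
        exact hc
      rw [hfpf e he he1] at hmem
      exact (Subgroup.mem_bot).1 hmem)
    (fun x hx h hh => h76_conj_mem (sup_le hDH hKH) hx hh) hsolv hcop'
  rw [h76_centralizer_sup, ← inf_assoc] at this
  exact this

theorem h76_card_dvd_prime {q : ℕ} (hq : q.Prime) {A B : Subgroup X} (hAB : A ≤ B)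
    (hB : Nat.card B = q) : Nat.card A = 1 ∨ Nat.card A = q := by
  have := Subgroup.card_dvd_of_le hAB
  rw [hB] at this
  exact (Nat.dvd_prime hq).1 this

theorem frob_section {q : ℕ} [hq : Fact q.Prime] (Q D K : Subgroup X) (hQ : IsPGroup q Q)
    (hK1 : K ≠ ⊥)
    (hKD : K ≤ normalizer (D : Set X))
    (hfpf : ∀ k ∈ K, k ≠ 1 → D ⊓ centralizer ({k} : Set X) = ⊥)
    (hDQ : D ≤ normalizer (Q : Set X)) (hKQ : K ≤ normalizer (Q : Set X))
    (hcop : (Nat.card ↥(D ⊔ K)).Coprime q)
    (hpr : ∀ k ∈ K, k ≠ 1 →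
      Q ⊓ centralizer ({k} : Set X) = Q ⊓ centralizer (K : Set X))
    (hKs : Nat.card ↥(Q ⊓ centralizer (K : Set X)) = q)
    (hDnc : ¬ D ≤ centralizer (Q : Set X)) :
    (Nat.card K).Prime ∧
    Q ⊓ centralizer (D : Set X) < Q ∧
    Nat.card Q = Nat.card ↥(Q ⊓ centralizer (D : Set X)) * q ^ Nat.card K ∧
    (∀ a ∈ Q, ∀ b ∈ Q, a ^ q ∈ Q ⊓ centralizer (D : Set X) ∧
      a * b * a⁻¹ * b⁻¹ ∈ Q ⊓ centralizer (D : Set X)) ∧
    Q ≤ normalizer ((Q ⊓ centralizer (D : Set X) : Subgroup X) : Set X) ∧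
    (Q ⊓ centralizer (K : Set X)) ⊓ centralizer (D : Set X) = ⊥ ∧
    ∀ N : Subgroup X, Q ⊓ centralizer (D : Set X) < N → N < Q →
      D ≤ normalizer (N : Set X) → K ≤ normalizer (N : Set X) → False := by
  have hq2 : 2 ≤ q := hq.out.two_le
  have hqpos : 0 < q := hq.out.pos
  have hp1 : 0 < Nat.card K := Nat.card_pos
  -- (F2) `K* ∩ C(D) = 1`
  have hform := h76_formula Q D K Q hQ hK1 hKD hfpf hcop le_rfl hDQ hKQ
  rw [hKs] at hform
  have hT : (Q ⊓ centralizer (K : Set X)) ⊓ centralizer (D : Set X) = ⊥ := by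
    rcases h76_card_dvd_prime hq.out
      (inf_le_left : (Q ⊓ centralizer (K : Set X)) ⊓ centralizer (D : Set X) ≤ _) hKs with h1 | h1
    · exact Subgroup.card_eq_one.1 h1
    · exfalso
      rw [inf_right_comm] at h1
      rw [h1] at hform
      have hcard : Nat.card Q = Nat.card ↥(Q ⊓ centralizer (D : Set X)) :=
        Nat.eq_of_mul_eq_mul_left (pow_pos hqpos _) hform
      have heq : Q ⊓ centralizer (D : Set X) = Q :=
        Subgroup.eq_of_le_of_card_ge inf_le_left hcard.le
      apply hDnc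
      rw [le_centralizer_iff]
      rw [← heq]
      exact inf_le_right
  have hT' : Nat.card ↥(Q ⊓ centralizer (D : Set X) ⊓ centralizer (K : Set X)) = 1 := by
    rw [inf_right_comm, hT]
    exact Subgroup.card_eq_one.2 rfl
  -- (F3)
  have hcardQ : Nat.card Q = Nat.card ↥(Q ⊓ centralizer (D : Set X)) * q ^ Nat.card K := by
    rw [hT', one_pow, one_mul] at hform
    rw [hform, mul_comm]
  have hQ0pos : 0 < Nat.card ↥(Q ⊓ centralizer (D : Set X)) := Nat.card_pos
  -- (F4)
  have hlt : Q ⊓ centralizer (D : Set X) < Q := by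
    refine lt_of_le_of_ne inf_le_left ?_
    intro heq
    have h1 : Nat.card ↥(Q ⊓ centralizer (D : Set X)) = Nat.card Q := by rw [heq]
    rw [h1] at hcardQ
    have h2 : q ^ Nat.card K = 1 := by
      have hQpos : 0 < Nat.card Q := Nat.card_pos
      exact Nat.eq_of_mul_eq_mul_left hQpos (by rw [← hcardQ, mul_one])
    have h3 : 1 < q ^ Nat.card K := Nat.one_lt_pow hp1.ne' (by omega)
    omega
  -- (F5) dichotomy
  have hdich : ∀ H : Subgroup X, H ≤ Q → D ≤ normalizer (H : Set X) →
      K ≤ normalizer (H : Set X) →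
      H ≤ Q ⊓ centralizer (D : Set X) ∨
        Nat.card H = q ^ Nat.card K * Nat.card ↥(H ⊓ centralizer (D : Set X)) := by
    intro H hHQ hDH hKH
    have hf := h76_formula Q D K H hQ hK1 hKD hfpf hcop hHQ hDH hKH
    have hTH : Nat.card ↥(H ⊓ centralizer (D : Set X) ⊓ centralizer (K : Set X)) = 1 := by
      rw [Subgroup.card_eq_one, eq_bot_iff, ← hT, inf_right_comm]
      exact inf_le_inf_right _ (inf_le_inf_right _ hHQ)
    rw [hTH, one_pow, one_mul] at hf
    rcases h76_card_dvd_prime hq.out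
      (inf_le_inf_right _ hHQ : H ⊓ centralizer (K : Set X) ≤ Q ⊓ centralizer (K : Set X)) hKs
      with h1 | h1
    · left
      rw [h1, one_pow, one_mul] at hf
      have heq : H ⊓ centralizer (D : Set X) = H :=
        Subgroup.eq_of_le_of_card_ge inf_le_left hf.le
      refine le_inf hHQ ?_
      rw [← heq]
      exact inf_le_right
    · right
      rw [h1] at hf
      exact hf
  -- (F6)
  have hmin : ∀ N : Subgroup X, Q ⊓ centralizer (D : Set X) ≤ N → N ≤ Q →
      D ≤ normalizer (N : Set X) → K ≤ normalizer (N : Set X) →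
      N ≤ Q ⊓ centralizer (D : Set X) ∨ N = Q := by
    intro N hQ0N hNQ hDN hKN
    rcases hdich N hNQ hDN hKN with h | h
    · exact Or.inl h
    · right
      have heq : N ⊓ centralizer (D : Set X) = Q ⊓ centralizer (D : Set X) :=
        le_antisymm (inf_le_inf_right _ hNQ) (le_inf hQ0N inf_le_right)
      rw [heq] at h
      refine Subgroup.eq_of_le_of_card_ge hNQ ?_
      rw [h, hcardQ, mul_comm]
  -- (F7) `|K|` prime
  have hprime : (Nat.card K).Prime := by
    have hne1 : Nat.card K ≠ 1 := fun h => hK1 (Subgroup.card_eq_one.1 h)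
    obtain ⟨r, hr, hrdvd⟩ := Nat.exists_prime_and_dvd hne1
    haveI : Fact r.Prime := ⟨hr⟩
    obtain ⟨k, hk⟩ := exists_prime_orderOf_dvd_card' (G := K) r hrdvd
    have hk1 : (k : X) ≠ 1 := by
      intro h
      have : k = 1 := Subtype.ext h
      rw [this, orderOf_one] at hk
      exact hr.one_lt.ne hk
    set K' : Subgroup X := zpowers (k : X) with hK'def
    have hK'K : K' ≤ K := by
      rw [hK'def, zpowers_le]
      exact k.2
    have hK'1 : K' ≠ ⊥ := by
      intro h
      rw [hK'def, zpowers_eq_bot] at h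
      exact hk1 h
    have hK'card : Nat.card K' = r := by
      rw [hK'def, Nat.card_zpowers, Subgroup.orderOf_coe, hk]
    have hcop'' : (Nat.card ↥(D ⊔ K')).Coprime q :=
      Nat.Coprime.coprime_dvd_left (Subgroup.card_dvd_of_le (sup_le_sup_left hK'K D)) hcop
    have hf := h76_formula Q D K' Q hQ hK'1 (hK'K.trans hKD)
      (fun x hx hx1 => hfpf x (hK'K hx) hx1) hcop'' le_rfl hDQ (hK'K.trans hKQ)
    have hKs' : Q ⊓ centralizer (K' : Set X) = Q ⊓ centralizer (K : Set X) := by
      apply le_antisymm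
      · rw [← hpr k k.2 hk1]
        refine inf_le_inf_left _ (centralizer_le ?_)
        intro y hy
        rw [Set.mem_singleton_iff] at hy
        subst hy
        exact mem_zpowers _
      · refine inf_le_inf_left _ (centralizer_le ?_)
        exact_mod_cast hK'K
    have hT'' : Nat.card ↥(Q ⊓ centralizer (D : Set X) ⊓ centralizer (K' : Set X)) = 1 := by
      rw [inf_right_comm, hKs', hT]
      exact Subgroup.card_eq_one.2 rfl
    rw [hT'', one_pow, one_mul, hKs', hKs, hK'card] at hf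
    -- hf : |Q| = q ^ r * |Q0|
    rw [hcardQ, mul_comm] at hf
    have h2 : q ^ Nat.card K = q ^ r := Nat.eq_of_mul_eq_mul_right hQ0pos hf
    have h3 : Nat.card K = r := Nat.pow_right_injective hq2 h2
    rw [h3]
    exact hr
  -- (F8) Frattini
  have hQ0D : D ≤ normalizer ((Q ⊓ centralizer (D : Set X) : Subgroup X) : Set X) :=
    h76_norm_inf hDQ (h76_norm_centralizer le_normalizer)
  have hQ0K : K ≤ normalizer ((Q ⊓ centralizer (D : Set X) : Subgroup X) : Set X) :=
    h76_norm_inf hKQ (h76_norm_centralizer hKD)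
  have hPhi : (frattini ↥Q).map Q.subtype ≤ Q ⊓ centralizer (D : Set X) := by
    have hPhiQ : (frattini ↥Q).map Q.subtype ≤ Q := map_subtype_le _
    have hnorm := Cfsg.Agent.Lib.Helper24.normalizer_le_normalizer_map_of_characteristic Q
      (frattini ↥Q)
    rcases hmin (Q ⊓ centralizer (D : Set X) ⊔ (frattini ↥Q).map Q.subtype) le_sup_left
      (sup_le inf_le_left hPhiQ) (h76_norm_sup hQ0D (hDQ.trans hnorm))
      (h76_norm_sup hQ0K (hKQ.trans hnorm)) with h | h
    · exact le_sup_right.trans h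
    · exfalso
      have h1 : (Q ⊓ centralizer (D : Set X)).subgroupOf Q ⊔ frattini ↥Q = ⊤ := by
        have h2 : ((frattini ↥Q).map Q.subtype).subgroupOf Q = frattini ↥Q :=
          comap_map_eq_self_of_injective Q.subtype_injective _
        rw [← h2, ← subgroupOf_sup inf_le_left hPhiQ, h]
        exact subgroupOf_self Q
      have h3 := frattini_nongenerating h1
      rw [subgroupOf_eq_top] at h3
      exact (not_le_of_gt hlt) h3
  -- (F9)
  have hpowcomm : ∀ a ∈ Q, ∀ b ∈ Q, a ^ q ∈ Q ⊓ centralizer (D : Set X) ∧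
      a * b * a⁻¹ * b⁻¹ ∈ Q ⊓ centralizer (D : Set X) := by
    intro a ha b hb
    constructor
    · apply hPhi
      rw [mem_map]
      exact ⟨(⟨a, ha⟩ : Q) ^ q, Cfsg.Agent.Lib.Helper2.pow_mem_frattini hQ _, by simp⟩
    · apply hPhi
      rw [mem_map]
      refine ⟨⁅(⟨a, ha⟩ : Q), (⟨b, hb⟩ : Q)⁆, ?_, by simp [commutatorElement_def]⟩
      apply Cfsg.Agent.Lib.Helper2.commutator_le_frattini hQ
      rw [commutator_def]
      exact commutator_mem_commutator (mem_top _) (mem_top _)
  refine ⟨hprime, hlt, hcardQ, hpowcomm, ?_, hT, ?_⟩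
  · apply h76_le_normalizer_of_conj_mem
    intro x hx h hh
    have h1 := (hpowcomm x hx h hh.1).2
    have : x * h * x⁻¹ = (x * h * x⁻¹ * h⁻¹) * h := by group
    rw [this]
    exact mul_mem h1 hh
  · intro N hN1 hN2 hDN hKN
    rcases hmin N hN1.le hN2.le hDN hKN with h | h
    · exact (not_le_of_gt hN1) h
    · exact hN2.ne h

end Cfsg.Agent.Lib.Helper76.BG152
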