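import Mathlib
import Cfsg.Agent.Lib.Helper76.BG152Q
import Cfsg.Agent.Lib.Helper76.BGSigU4
import Cfsg.Agent.Lib.Helper76.BGSigU2
import Cfsg.Agent.Lib.Helper24.InvCompl
import Cfsg.Agent.Lib.Helper49.RankOneCyclic
import Cfsg.Agent.Lib.Helper32.BG95B
import Cfsg.Agent.Lib.Helper35.HallFusion
import Cfsg.Agent.Lib.Helper23.TransCore

/-!
# B&G 15.9 / S1363, S1435: generic group theoretic helpers

`tPart U t`: the `t`-primary part of an abelian subgroup `U`.
-/

set_option autoImplicit false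
set_option linter.unusedSectionVars false
set_option linter.unusedVariables false
set_option linter.style.haveILetI false

namespace Cfsg.Agent.Lib.Helper76.BG159

open Subgroup Cfsg
open Cfsg.Agent.Lib.Helper76.BG152

variable {G : Type*} [Group G]

theorem comm_of_mem {U : Subgroup G} (hU : IsMulCommutative U) {a b : G} (ha : a ∈ U)
    (hb : b ∈ U) : a * b = b * a := by
  have := hU.is_comm.comm ⟨a, ha⟩ ⟨b, hb⟩
  exact congrArg Subtype.val this

/-- the `t`-primary part of (an abelian) subgroup `U`. -/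
def tPart (U : Subgroup G) (t : ℕ) : Subgroup G :=
  Subgroup.closure {x | x ∈ U ∧ ∃ n : ℕ, x ^ t ^ n = 1}

theorem tPart_le (U : Subgroup G) (t : ℕ) : tPart U t ≤ U :=
  (Subgroup.closure_le _).2 (fun x hx => hx.1)

theorem mem_tPart {U : Subgroup G} (hU : IsMulCommutative U) {t : ℕ} {x : G} :
    x ∈ tPart U t ↔ x ∈ U ∧ ∃ n : ℕ, x ^ t ^ n = 1 := by
  constructor
  · intro hx
    refine ⟨tPart_le U t hx, ?_⟩
    unfold tPart at hx
    induction hx using Subgroup.closure_induction with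
    | mem y hy => exact hy.2
    | one => exact ⟨0, one_pow _⟩
    | mul a b ha hb iha ihb =>
      obtain ⟨n, hn⟩ := iha
      obtain ⟨m, hm⟩ := ihb
      have haU : a ∈ U := tPart_le U t ha
      have hbU : b ∈ U := tPart_le U t hb
      have hc : Commute a b := comm_of_mem hU haU hbU
      refine ⟨n + m, ?_⟩
      rw [hc.mul_pow, pow_add, pow_mul, hn, one_pow, mul_comm (t ^ n), pow_mul, hm, one_pow,
        mul_one]
    | inv a ha iha =>
      obtain ⟨n, hn⟩ := iha
      exact ⟨n, by rw [inv_pow, hn, inv_one]⟩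
  · intro hx
    exact Subgroup.subset_closure hx

theorem isPGroup_tPart {U : Subgroup G} (hU : IsMulCommutative U) (t : ℕ) :
    IsPGroup t (tPart U t) := by
  rintro ⟨x, hx⟩
  obtain ⟨n, hn⟩ := ((mem_tPart hU).1 hx).2
  exact ⟨n, Subtype.ext (by simpa using hn)⟩

theorem le_tPart_of_isPGroup {U : Subgroup G} (hU : IsMulCommutative U) {t : ℕ} {Q : Subgroup G}
    (hQU : Q ≤ U) (hQ : IsPGroup t Q) : Q ≤ tPart U t := by
  intro x hx
  obtain ⟨n, hn⟩ := hQ ⟨x, hx⟩
  refine (mem_tPart hU).2 ⟨hQU hx, n, ?_⟩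
  have := congrArg Subtype.val hn
  simpa using this

theorem tPart_ne_bot [Finite G] {U : Subgroup G} (hU : IsMulCommutative U) {t : ℕ} (ht : t.Prime)
    (htU : t ∣ Nat.card U) : tPart U t ≠ ⊥ := by
  haveI : Fact t.Prime := ⟨ht⟩
  obtain ⟨x, hx⟩ := exists_prime_orderOf_dvd_card' (G := U) t htU
  intro h
  have hx1 : (x : G) ∈ tPart U t := by
    refine (mem_tPart hU).2 ⟨x.2, 1, ?_⟩
    have : x ^ t = 1 := by rw [← hx]; exact pow_orderOf_eq_one x
    rw [pow_one]
    have := congrArg Subtype.val this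
    simpa using this
  rw [h, Subgroup.mem_bot] at hx1
  have : x = 1 := Subtype.ext hx1
  rw [this, orderOf_one] at hx
  exact ht.one_lt.ne hx

/-- an element of order `t` in the `t`-part. -/
theorem exists_orderOf_eq_tPart [Finite G] {U : Subgroup G} (hU : IsMulCommutative U) {t : ℕ}
    (ht : t.Prime) (htU : t ∣ Nat.card U) : ∃ x ∈ tPart U t, x ≠ 1 ∧ x ^ t = 1 := by
  haveI : Fact t.Prime := ⟨ht⟩
  obtain ⟨x, hx⟩ := exists_prime_orderOf_dvd_card' (G := U) t htU
  have hxt : (x : G) ^ t = 1 := by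
    have : x ^ t = 1 := by rw [← hx]; exact pow_orderOf_eq_one x
    have := congrArg Subtype.val this
    simpa using this
  refine ⟨x, (mem_tPart hU).2 ⟨x.2, 1, by rw [pow_one]; exact hxt⟩, ?_, hxt⟩
  intro h
  have : x = 1 := Subtype.ext h
  rw [this, orderOf_one] at hx
  exact ht.one_lt.ne hx

theorem norm_tPart [Finite G] {U K : Subgroup G} (hU : IsMulCommutative U) (hK : K ≤ normalizer (U : Set G))
    (t : ℕ) : K ≤ normalizer ((tPart U t : Subgroup G) : Set G) := by
  apply h76_le_normalizer_of_conj_mem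
  intro k hk x hx
  obtain ⟨hxU, n, hn⟩ := (mem_tPart hU).1 hx
  refine (mem_tPart hU).2 ⟨h76_conj_mem hK hk hxU, n, ?_⟩
  rw [conj_pow, hn, mul_one, mul_inv_cancel]

theorem le_centralizer_of_comm {U T : Subgroup G} (hU : IsMulCommutative U) (hT : T ≤ U) :
    U ≤ centralizer (T : Set G) := by
  intro u hu
  rw [mem_centralizer_iff]
  intro x hx
  exact comm_of_mem hU (hT hx) hu

/-- a `t`-subgroup of a group of order prime to `t` is trivial. -/
theorem eq_bot_of_isPGroup_of_not_dvd [Finite G] {t : ℕ} (ht : t.Prime) {T X : Subgroup G}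
    (hTX : T ≤ X) (hT : IsPGroup t T) (hX : ¬ t ∣ Nat.card X) : T = ⊥ := by
  haveI : Fact t.Prime := ⟨ht⟩
  obtain ⟨n, hn⟩ := IsPGroup.iff_card.1 hT
  have hd : Nat.card T ∣ Nat.card X := Subgroup.card_dvd_of_le hTX
  rcases Nat.eq_zero_or_pos n with h0 | hpos
  · rw [h0, pow_zero] at hn
    exact Subgroup.card_eq_one.1 hn
  · exfalso
    apply hX
    refine dvd_trans ?_ hd
    rw [hn]
    exact dvd_pow_self t hpos.ne'

/-- odd `p`: a `p`-subgroup of a subgroup of `p`-rank at most one is cyclic. -/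
theorem isCyclic_of_pRankLE_one [Finite G] {p : ℕ} [Fact p.Prime] (hp2 : p ≠ 2) {H Q : Subgroup G}
    (hQH : Q ≤ H) (hQ : IsPGroup p Q) (h : PRankLE p 1 H) : IsCyclic Q := by
  have h1 : PRankLE p 1 Q := Cfsg.Agent.Lib.Helper76.BGSigU.pRankLE_of_le hQH h
  apply Cfsg.Agent.Lib.Helper49.isCyclic_of_isPGroup_rankLEOne hp2 hQ
  intro A hA hexp
  have := h1 A hA hexp
  simpa using this

/-- in a cyclic `t`-group two subgroups of the same order coincide. -/
theorem eq_of_card_eq_of_isCyclic [Finite G] {t : ℕ} [Fact t.Prime] {C X Y : Subgroup G}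
    (hC : IsPGroup t C) (hcyc : IsCyclic C) (hX : X ≤ C) (hY : Y ≤ C)
    (h : Nat.card X = Nat.card Y) : X = Y :=
  le_antisymm (Cfsg.Agent.Lib.Helper32.BG95.le_of_card_le_of_isCyclic hC hcyc hX hY h.le)
    (Cfsg.Agent.Lib.Helper32.BG95.le_of_card_le_of_isCyclic hC hcyc hY hX h.ge)

theorem exists_ne_one_of_ne_bot {K : Subgroup G} (hK : K ≠ ⊥) : ∃ k ∈ K, k ≠ 1 := by
  obtain ⟨⟨k, hk⟩, hk1⟩ := (Subgroup.ne_bot_iff_exists_ne_one).1 hK
  exact ⟨k, hk, fun h => hk1 (Subtype.ext h)⟩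

/-- a subgroup of prime order is generated by any of its nonidentity elements -/
theorem le_zpowers_of_card_prime [Finite G] {K : Subgroup G} (hK : (Nat.card K).Prime) {k : G}
    (hk : k ∈ K) (hk1 : k ≠ 1) : K ≤ zpowers k := by
  have h1 : zpowers k ≤ K := (zpowers_le).2 hk
  have h2 : Nat.card (zpowers k) ∣ Nat.card K := Subgroup.card_dvd_of_le h1
  rcases (Nat.dvd_prime hK).1 h2 with h3 | h3
  · exfalso
    have := Subgroup.card_eq_one.1 h3
    rw [Subgroup.zpowers_eq_bot] at this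
    exact hk1 this
  · exact (Subgroup.eq_of_le_of_card_ge h1 h3.ge).ge

theorem conj_mem_map {g x : G} {A : Subgroup G} :
    x ∈ A.map (MulAut.conj g).toMonoidHom ↔ g⁻¹ * x * g ∈ A := by
  constructor
  · rintro ⟨a, ha, rfl⟩
    simpa [mul_assoc] using ha
  · intro h
    exact ⟨g⁻¹ * x * g, h, by simp [mul_assoc]⟩

end Cfsg.Agent.Lib.Helper76.BG159
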