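import Mathlib
import Cfsg.Agent.Lib.Helper76.TuIRR

/-!
# Tu hive (S5953, owner helper14): leaf TU-DEC `exists_moved` (helper76)
-/

set_option autoImplicit false
set_option linter.unusedSectionVars false
set_option linter.unusedVariables false
set_option linter.style.haveILetI false

namespace Cfsg.Agent.Lib.Helper14.Tu

open Cfsg.Agent.Lib.Helper40.Herm Cfsg.Agent.Lib.Helper2.BG Polynomial Module

section abs
variable {F : Type*} [Field F] [Fintype F] {q : ℕ} {hF : Fintype.card F = q ^ 2}
  {V : Type*} [AddCommGroup V] [Module F V] [FiniteDimensional F V]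
  {H : V →ₗ[F] V →ₛₗ[tauHom hF] F} {g : Module.End F V} {N : ℕ}

/-- on a fixed vector, `P(g)` acts as the scalar `P(1)`. -/
theorem dec_aeval_fixed {v : V} (hv : g v = v) (P : F[X]) : aeval g P v = P.eval 1 • v := by
  by_cases h0 : v = 0
  · subst h0; simp
  · exact Module.End.aeval_apply_of_hasEigenvector
      ⟨Module.End.mem_eigenspace_iff.mpr (by simpa using hv), h0⟩

theorem dec_mem_ker_sub_one {v : V} : v ∈ LinearMap.ker (g - 1) ↔ g v = v := by
  rw [LinearMap.mem_ker, LinearMap.sub_apply, Module.End.one_apply, sub_eq_zero]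

/-- TU-DEC. -/
theorem exists_moved {r : ℕ} (hc : Ctx hF H g r) (hr : r.Prime) {W : Submodule F V} (hWi : Inv g W) :
    ∃ M : Submodule F V, M ≤ W ∧ Inv g M ∧ (∀ v ∈ M, g v = v → v = 0) ∧
      Disjoint (W ⊓ LinearMap.ker (g - 1)) M ∧ (W ⊓ LinearMap.ker (g - 1)) ⊔ M = W ∧
      (∀ u ∈ LinearMap.ker (g - 1), ∀ v ∈ M, H u v = 0) := by
  haveI : Fact r.Prime := ⟨hr⟩
  set Φ : F[X] := cyclotomic r F with hΦ
  have hfix : ∀ v ∈ W ⊓ LinearMap.ker (aeval g Φ), g v = v → v = 0 := by
    intro v hv hgv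
    have h1 : aeval g Φ v = 0 := LinearMap.mem_ker.mp hv.2
    rw [dec_aeval_fixed hgv, hΦ, Polynomial.eval_one_cyclotomic_prime] at h1
    rcases smul_eq_zero.mp h1 with h | h
    · exact absurd h hc.ne
    · exact h
  obtain ⟨A, B, hAB⟩ := isCoprime_X_sub_one_cyclotomic (F := F) (r := r) hc.ne
  have hprod : (X - 1 : F[X]) * Φ = X ^ r - 1 := by
    rw [mul_comm, hΦ, Polynomial.cyclotomic_prime_mul_X_sub_one F r]
  have hzero : aeval g (X ^ r - 1 : F[X]) = 0 := by simp [hc.pow]
  have hX1 : aeval g (X - 1 : F[X]) = g - 1 := by simp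
  -- decomposition of any vector
  have hdecomp : ∀ w : V, w = aeval g (B * Φ) w + aeval g (A * (X - 1)) w := by
    intro w
    have : aeval g (A * (X - 1) + B * Φ) w = w := by rw [hAB]; simp
    rw [map_add, LinearMap.add_apply] at this
    rw [add_comm]; exact this.symm
  have ht1 : ∀ w : V, aeval g Φ (aeval g (A * (X - 1)) w) = 0 := by
    intro w
    rw [← Module.End.mul_apply, ← map_mul]
    have : Φ * (A * (X - 1)) = A * (X ^ r - 1) := by rw [← hprod]; ring
    rw [this, map_mul, hzero, mul_zero, LinearMap.zero_apply]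
  have ht2 : ∀ w : V, (g - 1) (aeval g (B * Φ) w) = 0 := by
    intro w
    rw [← hX1, ← Module.End.mul_apply, ← map_mul]
    have : (X - 1) * (B * Φ) = B * (X ^ r - 1) := by rw [← hprod]; ring
    rw [this, map_mul, hzero, mul_zero, LinearMap.zero_apply]
  refine ⟨W ⊓ LinearMap.ker (aeval g Φ), inf_le_left, hWi.inf (inv_ker_aeval g Φ), hfix, ?_, ?_, ?_⟩
  · rw [Submodule.disjoint_def]
    intro x hx1 hx2
    exact hfix x hx2 (dec_mem_ker_sub_one.mp hx1.2)
  · apply le_antisymm
    · exact sup_le inf_le_left inf_le_left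
    · intro w hw
      rw [hdecomp w]
      apply Submodule.add_mem_sup
      · exact ⟨hWi.aeval _ w hw, LinearMap.mem_ker.mpr (ht2 w)⟩
      · exact ⟨hWi.aeval _ w hw, LinearMap.mem_ker.mpr (ht1 w)⟩
  · intro u hu v hv
    have hgu : g u = u := dec_mem_ker_sub_one.mp hu
    have hv0 : aeval g (B * Φ) v = 0 := by
      rw [map_mul, Module.End.mul_apply, LinearMap.mem_ker.mp hv.2, map_zero]
    have hv1 : v = (g - 1) (aeval g A v) := by
      have h := hdecomp v
      rw [hv0, zero_add, mul_comm, map_mul, hX1, Module.End.mul_apply] at h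
      exact h
    rw [hv1, LinearMap.sub_apply, Module.End.one_apply, map_sub]
    have : H u (g (aeval g A v)) = H u (aeval g A v) := by
      conv_lhs => rw [← hgu]
      exact hc.inv u (aeval g A v)
    rw [this, sub_self]

end abs

end Cfsg.Agent.Lib.Helper14.Tu
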