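import Cfsg.Agent.Lib.Helper76.BG159C

/-!
# B&G 15.9 / S1363, S1435: `r ∈ σ(H)` and `U ≤ H_σ`
-/

set_option autoImplicit false
set_option linter.unusedSectionVars false
set_option linter.unusedVariables false
set_option linter.style.haveILetI false

namespace Cfsg.Agent.Lib.Helper76.BG159

open Subgroup Cfsg
open Cfsg.Agent.Lib.Helper76.BG152
open Cfsg.Agent.Lib.Helper76.BGSigU Cfsg.Agent.Lib.Helper76.BGCentNorm

universe u

variable {G : Type u} [Group G] [Finite G]

variable {M K U Ms H : Subgroup G}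

/-- primes of `|U|` outside `σ(H)` have rank one in `H`. -/
theorem rank_one (hG : IsMinSimpleOddOrder G) (c : Ctx M K U Ms) (h : HSide K U H) {t : ℕ}
    (ht : t.Prime) (htU : t ∣ Nat.card U) (htσ : t ∉ sigma H) : PRankLE t 1 H := by
  have hr2 : PRankLE t 2 H :=
    Cfsg.Agent.Lib.Helper19.BG117.pRankLE_two_of_not_sigma hG h.hH ht htσ
  by_contra h1
  exact not_tau2 hG c h ht htU ⟨ht, htσ, hr2, h1⟩

/-- **(S)** `r ∈ σ(H)` when `N_G(O_r(U)) ≤ H`. -/
theorem r_mem_sigma (hG : IsMinSimpleOddOrder G) (c : Ctx M K U Ms) (h : HSide K U H) {r : ℕ}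
    (hr : r.Prime) (hrU : r ∣ Nat.card U)
    (hNR : normalizer ((tPart U r : Subgroup G) : Set G) ≤ H) : r ∈ sigma H := by
  by_contra hrσ
  haveI : Fact r.Prime := ⟨hr⟩
  have hUc := c.U_comm hG
  have hr1 := rank_one hG c h hr hrU hrσ
  have hRH : tPart U r ≤ H := (tPart_le U r).trans h.hUH
  obtain ⟨Q, hRQ, hQH, hQp, hQi⟩ :=
    Cfsg.Agent.Lib.Helper33.exists_sylow_ge hRH (isPGroup_tPart hUc r)
  have hr2 : r ≠ 2 := odd_prime_ne_two hG hrU
  have hQc : IsCyclic Q := isCyclic_of_pRankLE_one hr2 hQH hQp hr1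
  have hNQ : normalizer ((Q : Subgroup G) : Set G) ≤ H := by
    refine le_trans ?_ hNR
    apply h76_le_normalizer_of_conj_mem
    intro g hg x hx
    have hmap : (tPart U r).map (MulAut.conj g).toMonoidHom = tPart U r := by
      apply eq_of_card_eq_of_isCyclic hQp hQc ?_ hRQ ?_
      · rintro _ ⟨y, hy, rfl⟩
        exact ((mem_normalizer_iff.1 hg) y).1 (hRQ hy)
      · exact Subgroup.card_map_of_injective (MulEquiv.injective _)
    rw [← hmap]
    exact ⟨x, hx, rfl⟩
  apply hrσ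
  rw [Cfsg.Agent.Lib.Helper32.BG12.mem_sigma_iff']
  exact ⟨hrU.trans (Subgroup.card_dvd_of_le h.hUH), Q, hQH, hQp, hQi, hNQ⟩

/-- **(T)** `U ≤ H_σ`. -/
theorem U_le_sigmaCore (hG : IsMinSimpleOddOrder G) (c : Ctx M K U Ms) (h : HSide K U H) {r : ℕ}
    (hr : r.Prime) (hrU : r ∣ Nat.card U)
    (hNR : normalizer ((tPart U r : Subgroup G) : Set G) ≤ H) : U ≤ sigmaCore H := by
  haveI : Fact r.Prime := ⟨hr⟩
  have hUc := c.U_comm hG
  have hσH := sigHall hG h.hH
  have hrσ := r_mem_sigma hG c h hr hrU hNR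
  have hRW : tPart U r ≤ sigmaCore H :=
    le_sigmaCore_of_isPGroup hσH hrσ (isPGroup_tPart hUc r) ((tPart_le U r).trans h.hUH)
  obtain ⟨y₀, hy₀R, hy₀1, -⟩ := exists_orderOf_eq_tPart hUc hr hrU
  have hall : ∀ t : ℕ, t.Prime → t ∣ Nat.card U → t ∈ sigma H := by
    intro t ht htU
    by_contra htσ
    haveI : Fact t.Prime := ⟨ht⟩
    have hr1 := rank_one hG c h ht htU htσ
    have ht2 : t ≠ 2 := odd_prime_ne_two hG htU
    obtain ⟨x₀, hx₀T, hx₀1, hx₀t⟩ := exists_orderOf_eq_tPart hUc ht htU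
    have hx₀U : x₀ ∈ U := tPart_le U t hx₀T
    have hrank : Cfsg.Agent.Lib.Helper49.RankLEOne t ↥H := by
      intro A hA hexp
      have := hr1 A hA hexp
      simpa using this
    have hmem : t ∈ kappa H := by
      refine ⟨ht, htU.trans (Subgroup.card_dvd_of_le h.hUH), htσ, fun P => ⟨?_, ?_⟩⟩
      · exact Cfsg.Agent.Lib.Helper49.isCyclic_of_isPGroup_rankLEOne ht2 P.2
          (Cfsg.Agent.Lib.Helper49.rankLEOne_subgroup hrank (P : Subgroup H))
      · set x' : H := ⟨x₀, h.hUH hx₀U⟩ with hx'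
        have hx'p : IsPGroup t (zpowers x') := by
          apply IsPGroup.of_card (n := 1)
          rw [Nat.card_zpowers, pow_one]
          apply orderOf_eq_prime
          · apply Subtype.ext
            simpa using hx₀t
          · intro h0
            apply hx₀1
            exact congrArg Subtype.val h0
        obtain ⟨P', hP'⟩ := hx'p.exists_le_sylow
        obtain ⟨g, hg⟩ := MulAction.exists_smul_eq H P' P
        have hxP : g * x' * g⁻¹ ∈ (P : Subgroup H) := by
          rw [← hg, Sylow.coe_subgroup_smul]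
          exact Subgroup.smul_mem_pointwise_smul x' (MulAut.conj g) _ (hP' (mem_zpowers x'))
        refine ⟨g * x' * g⁻¹, hxP, ?_, (g : G) * y₀ * (g : G)⁻¹, conjW g.2 (hRW hy₀R), ?_, ?_⟩
        · intro h0
          apply hx₀1
          have h1 : x' = 1 := by
            have : x' = g⁻¹ * (g * x' * g⁻¹) * g := by group
            rw [this, h0]; group
          exact congrArg Subtype.val h1
        · intro h0
          apply hy₀1
          have : y₀ = (g : G)⁻¹ * ((g : G) * y₀ * (g : G)⁻¹) * (g : G) := by group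
          rw [this, h0]; group
        · have hc : x₀ * y₀ = y₀ * x₀ := comm_of_mem hUc hx₀U (tPart_le U r hy₀R)
          have : ((g * x' * g⁻¹ : H) : G) = (g : G) * x₀ * (g : G)⁻¹ := by
            simp [hx']
          rw [this]
          calc (g : G) * x₀ * (g : G)⁻¹ * ((g : G) * y₀ * (g : G)⁻¹)
              = (g : G) * (x₀ * y₀) * (g : G)⁻¹ := by group
            _ = (g : G) * (y₀ * x₀) * (g : G)⁻¹ := by rw [hc]
            _ = (g : G) * y₀ * (g : G)⁻¹ * ((g : G) * x₀ * (g : G)⁻¹) := by group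
    rw [h.hκ] at hmem
    exact hmem
  apply Cfsg.Agent.Lib.Helper68.BG1215.le_of_coprime_relIndex hσH.1 (le_normalizer_sigmaCore' H)
    h.hUH
  apply Nat.coprime_of_dvd
  intro q hq hq1 hq2
  exact hσH.2.2 q hq (hall q hq hq1) hq2

/-- for abelian `U` the Sylow `r`-subgroup is the `r`-part. -/
theorem sylow_map_eq_tPart {U : Subgroup G} (hU : IsMulCommutative U) {r : ℕ} [Fact r.Prime]
    (R : Sylow r U) : (R : Subgroup U).map U.subtype = tPart U r := by
  apply le_antisymm
  · apply le_tPart_of_isPGroup hU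
    · rintro _ ⟨u, _, rfl⟩; exact u.2
    · exact R.2.map _
  · intro x hx
    have hxU : x ∈ U := tPart_le U r hx
    have hp : IsPGroup r ((tPart U r).subgroupOf U) := (isPGroup_tPart hU r).comap_subtype
    obtain ⟨Q, hQ⟩ := hp.exists_le_sylow
    obtain ⟨g, hg⟩ := MulAction.exists_smul_eq U R Q
    have hxQ : (⟨x, hxU⟩ : U) ∈ (Q : Subgroup U) := hQ (Subgroup.mem_subgroupOf.2 hx)
    rw [← hg, Sylow.coe_subgroup_smul, Subgroup.mem_pointwise_smul_iff_inv_smul_mem] at hxQ
    have h1 : (MulAut.conj g)⁻¹ • (⟨x, hxU⟩ : U) = ⟨x, hxU⟩ := by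
      change (MulAut.conj g)⁻¹ (⟨x, hxU⟩ : U) = ⟨x, hxU⟩
      rw [← map_inv, MulAut.conj_apply]
      apply Subtype.ext
      have := comm_of_mem hU (U.inv_mem g.2) hxU
      simp only [Subgroup.coe_mul, Subgroup.coe_inv, inv_inv]
      rw [this]; group
    rw [h1] at hxQ
    exact ⟨⟨x, hxU⟩, hxQ, rfl⟩

end Cfsg.Agent.Lib.Helper76.BG159
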