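import Cfsg.Agent.Lib.Helper76.BG159D
import Cfsg.Agent.Lib.Helper18.BNBLemma
import Cfsg.Agent.Lib.Helper56.BG1363w
import Cfsg.Agent.S1369
import Cfsg.Agent.S1378
import Cfsg.Agent.S1432

/-!
# B&G 15.9 / S1363, S1435: the setting, clauses 1-4
-/

set_option autoImplicit false
set_option linter.unusedSectionVars false
set_option linter.unusedVariables false
set_option linter.style.haveILetI false

namespace Cfsg.Agent.Lib.Helper76.BG159

open Subgroup Cfsg
open Cfsg.Agent.Lib.Helper76.BG152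
open Cfsg.Agent.Lib.Helper76.BGSigU Cfsg.Agent.Lib.Helper76.BGCentNorm

universe u

variable {G : Type u} [Group G] [Finite G]

variable {M K U Ms H : Subgroup G}

theorem U_le_H (hG : IsMinSimpleOddOrder G) (c : Ctx M K U Ms) {r : ℕ}
    (hNR : normalizer ((tPart U r : Subgroup G) : Set G) ≤ H) : U ≤ H :=
  ((le_centralizer_of_comm (c.U_comm hG) (tPart_le U r)).trans
    (Subgroup.centralizer_le_normalizer _)).trans hNR

theorem K_le_H (hG : IsMinSimpleOddOrder G) (c : Ctx M K U Ms) {r : ℕ}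
    (hNR : normalizer ((tPart U r : Subgroup G) : Set G) ≤ H) : K ≤ H :=
  (norm_tPart (c.U_comm hG) c.hKU.normal r).trans hNR

theorem tPart_sylow (hG : IsMinSimpleOddOrder G) (c : Ctx M K U Ms) {r : ℕ} (hr : r.Prime) :
    ¬ r ∣ (tPart U r).relIndex U := by
  haveI : Fact r.Prime := ⟨hr⟩
  have hUc := c.U_comm hG
  obtain ⟨R', hRR', hR'U, hR'p, hR'i⟩ :=
    Cfsg.Agent.Lib.Helper33.exists_sylow_ge (tPart_le U r) (isPGroup_tPart hUc r)
  have : R' = tPart U r := le_antisymm (le_tPart_of_isPGroup hUc hR'U hR'p) hRR'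
  rwa [this] at hR'i

theorem not_conj_M (hG : IsMinSimpleOddOrder G) (c : Ctx M K U Ms) {r : ℕ}
    (hr : r.Prime) (hrU : r ∣ Nat.card U)
    (hNR : normalizer ((tPart U r : Subgroup G) : Set G) ≤ H) :
    ∀ g : G, H ≠ M.map (MulAut.conj g).toMonoidHom := by
  intro g heq
  haveI : Fact r.Prime := ⟨hr⟩
  have hUc := c.U_comm hG
  have hUH := U_le_H hG c hNR
  have hRU : tPart U r ≤ U := tPart_le U r
  have hRp : IsPGroup r (tPart U r) := isPGroup_tPart hUc r
  have hRiM : ¬ r ∣ (tPart U r).relIndex M := by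
    rw [← Subgroup.relIndex_mul_relIndex (tPart U r) U M hRU c.hKU.compl.1]
    intro hd
    rcases (Nat.Prime.dvd_mul hr).1 hd with h1 | h1
    · exact tPart_sylow hG c hr h1
    · exact c.not_dvd_relIndex_U hG hr hrU h1
  have hRH : tPart U r ≤ H := hRU.trans hUH
  have hcard : Nat.card H = Nat.card M := by
    rw [heq]; exact Subgroup.card_map_of_injective (MulEquiv.injective _)
  have hRiH : ¬ r ∣ (tPart U r).relIndex H := by
    have h1 := card_mul_relIndex hRH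
    have h2 := card_mul_relIndex (hRU.trans c.hKU.compl.1)
    have : (tPart U r).relIndex H = (tPart U r).relIndex M :=
      Nat.eq_of_mul_eq_mul_left Nat.card_pos (h1.trans (hcard.trans h2.symm))
    rwa [this]
  have hrσH : r ∈ sigma H :=
    Cfsg.Agent.Lib.Helper32.BG12.mem_sigma_iff'.2
      ⟨hrU.trans (Subgroup.card_dvd_of_le hUH), tPart U r, hRH, hRp, hRiH, hNR⟩
  have h3 : r ∈ sigma (Cfsg.Agent.Lib.Helper33.cj g M) := by
    rw [Cfsg.Agent.Lib.Helper33.cj_def, ← heq]; exact hrσH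
  exact c.not_sigma hG hr hrU (Cfsg.Agent.Lib.Helper32.BG12.mem_sigma_of_mem_sigma_cj h3)

theorem not_conj_Ms (hG : IsMinSimpleOddOrder G) (c : Ctx M K U Ms) {r : ℕ}
    (hr : r.Prime) (hrU : r ∣ Nat.card U)
    (hNR : normalizer ((tPart U r : Subgroup G) : Set G) ≤ H) :
    ∀ g : G, H ≠ Ms.map (MulAut.conj g).toMonoidHom := by
  intro g heq
  have hUc := c.U_comm hG
  have hUH := U_le_H hG c hNR
  have hKH := K_le_H hG c hNR
  have hp := c.prime hG
  haveI : Fact (Nat.card K).Prime := ⟨hp⟩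
  have hKp : IsPGroup (Nat.card K) K := IsPGroup.of_card (n := 1) (by rw [pow_one])
  have hKg : K.map (MulAut.conj g⁻¹).toMonoidHom ≤ Ms := by
    rintro _ ⟨k, hk, rfl⟩
    have h1 : k ∈ Ms.map (MulAut.conj g).toMonoidHom := heq ▸ hKH hk
    rw [conj_mem_map] at h1
    simpa using h1
  obtain ⟨m, hm, x, hx, hgm⟩ :=
    (Cfsg.Agent.S1404.result hG Ms c.hMs (Nat.card K) (c.p_sigma_Ms hG) K hKp c.hK1 c.K_le_Ms).1
      g⁻¹ hKg
  have hgi : g⁻¹ ∈ Ms := by rw [hgm]; exact Ms.mul_mem hm (c.cent_K_le hG hx)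
  have hgMs : g ∈ Ms := by simpa using Ms.inv_mem hgi
  have hHMs : H ≤ Ms := by
    rw [heq]
    intro y hy
    rw [conj_mem_map] at hy
    have : y = g * (g⁻¹ * y * g) * g⁻¹ := by group
    rw [this]
    exact Ms.mul_mem (Ms.mul_mem hgMs hy) hgi
  have hT : tPart U r ≤ M ⊓ Ms :=
    le_inf ((tPart_le U r).trans c.hKU.compl.1) ((tPart_le U r).trans (hUH.trans hHMs))
  exact tPart_ne_bot hUc hr hrU
    (eq_bot_of_isPGroup_of_not_dvd hr hT (isPGroup_tPart hUc r) (c.not_dvd_inf hG hr hrU))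

theorem kappa_empty (hG : IsMinSimpleOddOrder G) (c : Ctx M K U Ms) (hH : IsCoatom H) {r : ℕ}
    (hr : r.Prime) (hrU : r ∣ Nat.card U)
    (hNR : normalizer ((tPart U r : Subgroup G) : Set G) ≤ H) : kappa H = ∅ := by
  by_contra hne
  have hne' : (kappa H).Nonempty := Set.nonempty_iff_ne_empty.2 hne
  obtain ⟨g, hg | hg⟩ :=
    (Cfsg.Agent.S1369.result hG M c.hM K U c.hKU c.hK1 Ms c.hMs c.hKst c.hKstH).2 H hH hne'
  · exact not_conj_M hG c hr hrU hNR g hg
  · exact not_conj_Ms hG c hr hrU hNR g hg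

theorem p_not_sigma (hG : IsMinSimpleOddOrder G) (c : Ctx M K U Ms) (hH : IsCoatom H) {r : ℕ}
    (hr : r.Prime) (hrU : r ∣ Nat.card U)
    (hNR : normalizer ((tPart U r : Subgroup G) : Set G) ≤ H) : Nat.card K ∉ sigma H := by
  intro hpσ
  obtain ⟨g, hg⟩ := (Cfsg.Agent.S1378.result hG).2 Ms H c.hMs hH ⟨_, c.p_sigma_Ms hG, hpσ⟩
  exact not_conj_Ms hG c hr hrU hNR g hg

theorem sigma_disj (hG : IsMinSimpleOddOrder G) (c : Ctx M K U Ms) (hH : IsCoatom H) {r : ℕ}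
    (hr : r.Prime) (hrU : r ∣ Nat.card U)
    (hNR : normalizer ((tPart U r : Subgroup G) : Set G) ≤ H) :
    ∀ q : ℕ, q ∈ sigma H → q ∉ sigma M := by
  intro q hqH hqM
  obtain ⟨g, hg⟩ := (Cfsg.Agent.S1378.result hG).2 M H c.hM hH ⟨_, hqM, hqH⟩
  exact not_conj_M hG c hr hrU hNR g hg

theorem sigma_disj_Ms (hG : IsMinSimpleOddOrder G) (c : Ctx M K U Ms) (hH : IsCoatom H) {r : ℕ}
    (hr : r.Prime) (hrU : r ∣ Nat.card U)
    (hNR : normalizer ((tPart U r : Subgroup G) : Set G) ≤ H) :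
    ∀ q : ℕ, q ∈ sigma H → q ∉ sigma Ms := by
  intro q hqH hqM
  obtain ⟨g, hg⟩ := (Cfsg.Agent.S1378.result hG).2 Ms H c.hMs hH ⟨_, hqM, hqH⟩
  exact not_conj_Ms hG c hr hrU hNR g hg

theorem H_ne_Ms (hG : IsMinSimpleOddOrder G) (c : Ctx M K U Ms) {r : ℕ}
    (hr : r.Prime) (hrU : r ∣ Nat.card U)
    (hNR : normalizer ((tPart U r : Subgroup G) : Set G) ≤ H) : H ≠ Ms := by
  intro h
  apply not_conj_Ms hG c hr hrU hNR 1
  rw [h]
  ext y
  rw [conj_mem_map]
  simp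

theorem H_ne_M (hG : IsMinSimpleOddOrder G) (c : Ctx M K U Ms) {r : ℕ}
    (hr : r.Prime) (hrU : r ∣ Nat.card U)
    (hNR : normalizer ((tPart U r : Subgroup G) : Set G) ≤ H) : H ≠ M := by
  intro h
  apply not_conj_M hG c hr hrU hNR 1
  rw [h]
  ext y
  rw [conj_mem_map]
  simp

/-- `C_{H_σ}(K) = 1` (S1432 for `(H, x, k)` and the uniqueness of `M*` over `C_G(K)`). -/
theorem centK (hG : IsMinSimpleOddOrder G) (c : Ctx M K U Ms) (hH : IsCoatom H) {r : ℕ}
    (hr : r.Prime) (hrU : r ∣ Nat.card U)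
    (hNR : normalizer ((tPart U r : Subgroup G) : Set G) ≤ H) :
    sigmaCore H ⊓ centralizer (K : Set G) = ⊥ := by
  rw [eq_bot_iff]
  intro x hx
  rw [Subgroup.mem_bot]
  by_contra hx1
  have hp := c.prime hG
  have hKH := K_le_H hG c hNR
  obtain ⟨k, hk, hk1⟩ := exists_ne_one_of_ne_bot c.hK1
  have hkx : k * x = x * k := (mem_centralizer_iff.1 hx.2) k hk
  have hkmem : k ∈ H ⊓ centralizer ({x} : Set G) := by
    refine Subgroup.mem_inf.2 ⟨hKH hk, ?_⟩
    rw [mem_centralizer_iff]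
    intro z hz
    rw [Set.mem_singleton_iff] at hz
    rw [hz]; exact hkx.symm
  have hok : orderOf k = Nat.card K := by
    have h1 : orderOf k ∣ Nat.card K := Subgroup.orderOf_dvd_natCard K hk
    rcases (Nat.dvd_prime hp).1 h1 with h2 | h2
    · exact absurd (orderOf_eq_one_iff.1 h2) hk1
    · exact h2
  have hpσ := p_not_sigma hG c hH hr hrU hNR
  have hσ' : ∀ q : ℕ, q.Prime → q ∣ orderOf k → q ∉ sigma H := by
    intro q hq hqd
    rw [hok] at hqd
    have : q = Nat.card K := (Nat.prime_dvd_prime_iff_eq hq hp).1 hqd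
    rw [this]; exact hpσ
  have hκ := kappa_empty hG c hH hr hrU hNR
  rcases Cfsg.Agent.S1432.result hG H hH x hx.1 hx1 k hkmem hk1 hσ' with ⟨h1, -⟩ | ⟨-, -, -, huniq⟩
  · have := h1 (Nat.card K) hp (by rw [hok])
    rw [hκ] at this
    exact this
  · have hle : centralizer ({k} : Set G) ≤ Ms := by
      intro z hz
      apply c.cent_K_le hG
      rw [mem_centralizer_iff]
      intro k' hk'
      have hk'' := le_zpowers_of_card_prime hp hk hk1 hk'
      obtain ⟨j, rfl⟩ := Subgroup.mem_zpowers_iff.1 hk''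
      have h0 : Commute k z := (mem_centralizer_iff.1 hz) k rfl
      exact (h0.zpow_left j).eq
    exact H_ne_Ms hG c hr hrU hNR (huniq Ms c.hMs hle).symm

/-- the H-side data from the S1435 hypotheses. -/
theorem hside (hG : IsMinSimpleOddOrder G) (c : Ctx M K U Ms) (hH : IsCoatom H) {r : ℕ}
    (hr : r.Prime) (hrU : r ∣ Nat.card U)
    (hNR : normalizer ((tPart U r : Subgroup G) : Set G) ≤ H) : HSide K U H :=
  ⟨hH, U_le_H hG c hNR, K_le_H hG c hNR, kappa_empty hG c hH hr hrU hNR,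
    p_not_sigma hG c hH hr hrU hNR, centK hG c hH hr hrU hNR⟩

/-- `H_σ` is nilpotent (S1429). -/
theorem nilH (hG : IsMinSimpleOddOrder G) (c : Ctx M K U Ms) (h : HSide K U H) :
    Group.IsNilpotent (sigmaCore H) := by
  have hp := c.prime hG
  haveI : Fact (Nat.card K).Prime := ⟨hp⟩
  have hpH : Nat.card K ∣ Nat.card H := Subgroup.card_dvd_of_le h.hKH
  have hpκ : Nat.card K ∉ kappa H := by rw [h.hκ]; exact Set.notMem_empty _
  obtain ⟨S⟩ : Nonempty (Sylow (Nat.card K) H) := inferInstance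
  have hP1 : ¬ (∀ q : ℕ, q.Prime → q ∣ Nat.card H → q ∉ sigma H → q ∈ kappa H) :=
    fun h' => hpκ (h' _ hp hpH h.hpσ)
  have hnot : Nat.card K ∉ sigma H ∪ kappa H := fun h' => h'.elim h.hpσ hpκ
  exact (Cfsg.Agent.S1429.result hG H h.hH hP1 (Nat.card K) hpH hnot S).2.2

/-- `M_σ ∩ H = 1`. -/
theorem W_inf_H (hG : IsMinSimpleOddOrder G) (c : Ctx M K U Ms) (h : HSide K U H)
    (hdisj : ∀ q : ℕ, q ∈ sigma H → q ∉ sigma M) (hUW : U ≤ sigmaCore H) :
    sigmaCore M ⊓ H = ⊥ := by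
  have hσM := sigHall hG c.hM
  have hσH := sigHall hG h.hH
  have hWW : sigmaCore M ⊓ sigmaCore H = ⊥ := by
    apply disjoint_iff.mp
    apply Subgroup.disjoint_of_coprime_natCard
    apply Nat.coprime_of_dvd
    intro q hq hq1 hq2
    exact hdisj q (hσH.2.1 q hq hq2) (hσM.2.1 q hq hq1)
  rw [eq_bot_iff, ← c.cent_U hG]
  intro w hw
  refine Subgroup.mem_inf.2 ⟨hw.1, ?_⟩
  rw [mem_centralizer_iff]
  intro u hu
  have huM : u ∈ M := c.hKU.compl.1 hu
  have h1 : w * (u * w⁻¹ * u⁻¹) ∈ sigmaCore M :=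
    (sigmaCore M).mul_mem hw.1 (conjW huM ((sigmaCore M).inv_mem hw.1))
  have h2 : (w * u * w⁻¹) * u⁻¹ ∈ sigmaCore H :=
    (sigmaCore H).mul_mem (conjW hw.2 (hUW hu)) ((sigmaCore H).inv_mem (hUW hu))
  have h3 : w * u * w⁻¹ * u⁻¹ ∈ sigmaCore M ⊓ sigmaCore H := by
    refine Subgroup.mem_inf.2 ⟨?_, h2⟩
    have : w * u * w⁻¹ * u⁻¹ = w * (u * w⁻¹ * u⁻¹) := by group
    rw [this]; exact h1
  rw [hWW, Subgroup.mem_bot] at h3
  have : w * u = (w * u * w⁻¹ * u⁻¹) * (u * w) := by group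
  rw [this, h3, one_mul]

/-- **clause 3**: `M ∩ H = U K`. -/
theorem inf_eq_UK (hG : IsMinSimpleOddOrder G) (c : Ctx M K U Ms) (h : HSide K U H)
    (hdisj : ∀ q : ℕ, q ∈ sigma H → q ∉ sigma M) (hUW : U ≤ sigmaCore H) :
    M ⊓ H = U ⊔ K := by
  have hσM := sigHall hG c.hM
  have hcompl := isComplIn_UK hσM c.hKU
  apply le_antisymm
  · intro m hm
    obtain ⟨e, he, w, hw, rfl⟩ := hcompl.2.2.2 m hm.1
    have heH : e ∈ H := (sup_le h.hUH h.hKH) he
    have hwH : w ∈ H := by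
      have : w = e⁻¹ * (e * w) := by group
      rw [this]; exact H.mul_mem (H.inv_mem heH) hm.2
    have hw1 : w ∈ sigmaCore M ⊓ H := Subgroup.mem_inf.2 ⟨hw, hwH⟩
    rw [W_inf_H hG c h hdisj hUW, Subgroup.mem_bot] at hw1
    rw [hw1, mul_one]; exact he
  · exact le_inf (sup_le c.hKU.compl.1 c.hKU.hall.1) (sup_le h.hUH h.hKH)

/-- **clause 4**: `N_H(U) ≰ M`. -/
theorem not_normalizer_le (hG : IsMinSimpleOddOrder G) (c : Ctx M K U Ms) (h : HSide K U H)
    (hdisj : ∀ q : ℕ, q ∈ sigma H → q ∉ sigma M) (hUW : U ≤ sigmaCore H) (hHM : H ≠ M) :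
    ¬ H ⊓ normalizer (U : Set G) ≤ M := by
  intro hle
  have hp := c.prime hG
  have hσH := sigHall hG h.hH
  have hWH : sigmaCore H ≤ H := hσH.1
  -- `N_{H_σ}(U) ≤ U`
  have hNU : sigmaCore H ⊓ normalizer (U : Set G) ≤ U := by
    intro x hx
    have hxM : x ∈ M := hle (Subgroup.mem_inf.2 ⟨hWH hx.1, hx.2⟩)
    have hxUK : x ∈ U ⊔ K := by
      rw [← inf_eq_UK hG c h hdisj hUW]; exact Subgroup.mem_inf.2 ⟨hxM, hWH hx.1⟩
    obtain ⟨u, hu, k, hk, rfl⟩ :=
      Cfsg.Agent.Lib.Helper18.mem_sup_of_le_normalizer U K c.hKU.normal x hxUK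
    have hkW : k ∈ sigmaCore H := by
      have : k = u⁻¹ * (u * k) := by group
      rw [this]; exact (sigmaCore H).mul_mem ((sigmaCore H).inv_mem (hUW hu)) hx.1
    have hk1 : k = 1 := by
      by_contra hk1
      have h1 : K ≤ sigmaCore H :=
        (le_zpowers_of_card_prime hp hk hk1).trans ((zpowers_le).2 hkW)
      exact h.hpσ (Cfsg.Agent.Lib.Helper47.BG11.mem_sigma_of_dvd_card_le h1 hp dvd_rfl)
    rw [hk1, mul_one]; exact hu
  -- normalizers grow in the nilpotent group `H_σ`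
  haveI := nilH hG c h
  have hUtop : U.subgroupOf (sigmaCore H) = ⊤ := by
    by_contra hne
    have hlt : U.subgroupOf (sigmaCore H) < ⊤ := lt_top_iff_ne_top.2 hne
    have hgrow := normalizerCondition_of_isNilpotent (G := ↥(sigmaCore H)) _ hlt
    obtain ⟨y, hyN, hyU⟩ := Set.exists_of_ssubset hgrow
    apply hyU
    have hyNG : (y : G) ∈ normalizer (U : Set G) := by
      rw [mem_normalizer_iff]
      intro z
      have hy := (mem_normalizer_iff.1 hyN)
      constructor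
      · intro hz
        have := (hy ⟨z, hUW hz⟩).1 (Subgroup.mem_subgroupOf.2 hz)
        exact Subgroup.mem_subgroupOf.1 this
      · intro hz
        have hzW : z ∈ sigmaCore H := by
          have : z = (y : G)⁻¹ * ((y : G) * z * (y : G)⁻¹) * (y : G) := by group
          rw [this]
          exact (sigmaCore H).mul_mem ((sigmaCore H).mul_mem ((sigmaCore H).inv_mem y.2) (hUW hz))
            y.2
        have := (hy ⟨z, hzW⟩).2 (Subgroup.mem_subgroupOf.2 hz)
        exact Subgroup.mem_subgroupOf.1 this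
    exact Subgroup.mem_subgroupOf.2 (hNU (Subgroup.mem_inf.2 ⟨y.2, hyNG⟩))
  have hWU : sigmaCore H ≤ U := by
    intro x hx
    have : (⟨x, hx⟩ : sigmaCore H) ∈ U.subgroupOf (sigmaCore H) := by rw [hUtop]; trivial
    exact Subgroup.mem_subgroupOf.1 this
  have hUeq : U = sigmaCore H := le_antisymm hUW hWU
  have hHle : H ≤ M := by
    intro x hx
    apply hle
    refine Subgroup.mem_inf.2 ⟨hx, ?_⟩
    rw [hUeq]
    exact le_normalizer_sigmaCore' H hx
  rcases eq_or_lt_of_le hHle with h1 | h1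
  · exact hHM h1
  · exact c.hM.1 (h.hH.2 M h1)

/-- clauses 1-4 of S1435. -/
theorem clauses (hG : IsMinSimpleOddOrder G) (c : Ctx M K U Ms) (hH : IsCoatom H) {r : ℕ}
    (hr : r.Prime) (hrU : r ∣ Nat.card U)
    (hNR : normalizer ((tPart U r : Subgroup G) : Set G) ≤ H) :
    kappa H = ∅ ∧ U ≤ sigmaCore H ∧ M ⊓ H = U ⊔ K ∧ ¬ H ⊓ normalizer (U : Set G) ≤ M := by
  have h := hside hG c hH hr hrU hNR
  have hdisj := sigma_disj hG c hH hr hrU hNR
  have hUW := U_le_sigmaCore hG c h hr hrU hNR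
  exact ⟨h.hκ, hUW, inf_eq_UK hG c h hdisj hUW,
    not_normalizer_le hG c h hdisj hUW (H_ne_M hG c hr hrU hNR)⟩

/-- clauses 1-4 of S1435, with the binders of S1435. -/
theorem clauses' (hG : IsMinSimpleOddOrder G)
    (M : Subgroup G) (hM : IsCoatom M) (K U : Subgroup G) (hKU : IsSigmaDecomposition M K U)
    (hK1 : K ≠ ⊥) (hU1 : U ≠ ⊥) (Mstar : Subgroup G) (hMstar : IsCoatom Mstar)
    (hKst : K = sigmaCore Mstar ⊓
      centralizer ((sigmaCore M ⊓ centralizer (K : Set G) : Subgroup G) : Set G))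
    (hKstH : IsPiHallOf (kappa Mstar) (sigmaCore M ⊓ centralizer (K : Set G)) Mstar)
    (r : ℕ) [Fact r.Prime] (hr : r ∣ Nat.card U) (R : Sylow r U) (H : Subgroup G)
    (hH : IsCoatom H)
    (hNR : normalizer (((R : Subgroup U).map U.subtype : Subgroup G) : Set G) ≤ H) :
    kappa H = ∅ ∧ U ≤ sigmaCore H ∧ M ⊓ H = U ⊔ K ∧ ¬ H ⊓ normalizer (U : Set G) ≤ M := by
  have c : Ctx M K U Mstar := ⟨hM, hKU, hK1, hU1, hMstar, hKst, hKstH⟩
  rw [sylow_map_eq_tPart (c.U_comm hG) R] at hNR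
  exact clauses hG c hH Fact.out hr hNR

theorem clause4 (hG : IsMinSimpleOddOrder G) : Cfsg.Agent.Lib.Helper56.BG1363w.Clause4 G :=
  fun M hM K U hKU hK1 hU1 Mstar hMs hKst hKstH r _ hr R H hH hNR =>
    (clauses' hG M hM K U hKU hK1 hU1 Mstar hMs hKst hKstH r hr R H hH hNR).2.2.2

end Cfsg.Agent.Lib.Helper76.BG159
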