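import Mathlib

/-!
Two abstract lemmas requested by helper28 (for S1699):
* `maximal_of_suborbits`: a subgroup is maximal if no union of suborbits (containing the base
  point) has size dividing the index;
* `chain_bound`: two-step stabiliser chain bound.
-/

set_option linter.style.haveILetI false
set_option linter.unusedSectionVars false

namespace Cfsg.Agent.Lib.Helper76.SubOrbit

theorem chain_bound {G : Type*} [Group G] (H : Subgroup G) [Finite H] {X : Type*} [MulAction G X]
    (x1 x2 : X) (s1 : ℕ) (hs1 : (MulAction.orbit H x1).ncard = s1)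
    (L : List G) (hL1 : ∀ g ∈ L, g ∈ H) (hL2 : ∀ g ∈ L, g • x1 = x1)
    (hL3 : (L.map (fun g => g • x2)).Nodup) :
    s1 * L.length ≤ Nat.card H ∧
    (Nat.card H ≤ s1 * L.length → ∀ g ∈ H, g • x1 = x1 → g • x2 = x2 → g = 1) := by
  classical
  set T : Subgroup H := MulAction.stabilizer H x1 with hT
  have h1 : Nat.card T * s1 = Nat.card H := by
    rw [← hs1, ← MulAction.index_stabilizer]
    exact Subgroup.card_mul_index T
  set T2 : Subgroup T := MulAction.stabilizer T x2 with hT2
  have h2 : Nat.card T2 * (MulAction.orbit T x2).ncard = Nat.card T := by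
    rw [← MulAction.index_stabilizer]
    exact Subgroup.card_mul_index T2
  have hfin : (MulAction.orbit T x2).Finite := Set.finite_range _
  have h3 : L.length ≤ (MulAction.orbit T x2).ncard := by
    have : (L.map (fun g => g • x2)).toFinset.card = L.length := by
      rw [List.toFinset_card_of_nodup hL3, List.length_map]
    rw [← this, ← Set.ncard_coe_finset]
    apply Set.ncard_le_ncard _ hfin
    intro y hy
    simp only [Finset.mem_coe, List.mem_toFinset, List.mem_map] at hy
    obtain ⟨g, hg, rfl⟩ := hy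
    exact ⟨⟨⟨g, hL1 g hg⟩, hL2 g hg⟩, rfl⟩
  have hHpos : 0 < Nat.card H := Nat.card_pos
  have hT2pos : 0 < Nat.card T2 := Nat.card_pos
  have hkey : Nat.card H = s1 * (MulAction.orbit T x2).ncard * Nat.card T2 := by
    rw [← h1, ← h2]; ring
  have hs1pos : 0 < s1 := by
    rcases Nat.eq_zero_or_pos s1 with h | h
    · rw [h] at hkey; simp at hkey; omega
    · exact h
  have hnpos : 0 < (MulAction.orbit T x2).ncard := by
    rcases Nat.eq_zero_or_pos (MulAction.orbit T x2).ncard with h | h
    · rw [h] at hkey; simp at hkey; omega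
    · exact h
  refine ⟨?_, ?_⟩
  · calc s1 * L.length ≤ s1 * (MulAction.orbit T x2).ncard := Nat.mul_le_mul_left _ h3
      _ = s1 * (MulAction.orbit T x2).ncard * 1 := (Nat.mul_one _).symm
      _ ≤ s1 * (MulAction.orbit T x2).ncard * Nat.card T2 := Nat.mul_le_mul_left _ hT2pos
      _ = Nat.card H := hkey.symm
  · intro hle g hg hg1 hg2
    have hle2 : s1 * (MulAction.orbit T x2).ncard * Nat.card T2
        ≤ s1 * (MulAction.orbit T x2).ncard * 1 := by
      rw [← hkey, Nat.mul_one]
      exact hle.trans (Nat.mul_le_mul_left _ h3)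
    have hc : Nat.card T2 ≤ 1 :=
      Nat.le_of_mul_le_mul_left hle2 (Nat.mul_pos hs1pos hnpos)
    have hsub : Subsingleton T2 := by
      haveI : Finite T2 := inferInstance
      exact (Finite.card_le_one_iff_subsingleton).mp hc
    have hmem : (⟨⟨g, hg⟩, hg1⟩ : T) ∈ T2 := hg2
    have := Subsingleton.elim (⟨⟨⟨g, hg⟩, hg1⟩, hmem⟩ : T2) 1
    have h4 := congrArg (fun t : T2 => ((t : T) : H)) this
    exact congrArg Subtype.val h4

theorem maximal_of_suborbits {G : Type*} [Group G] (H : Subgroup G) [Finite (G ⧸ H)]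
    (m : ℕ) (lab : G ⧸ H → ℕ) (hlab : ∀ x, lab x < m)
    (hinv : ∀ (h : H) (x : G ⧸ H), lab (h • x) = lab x)
    (htrans : ∀ x y : G ⧸ H, lab x = lab y → ∃ h : H, h • x = y)
    (sz : ℕ → ℕ) (hsz : ∀ j, j < m → {x : G ⧸ H | lab x = j}.ncard = sz j)
    (hbase : lab ((1 : G) : G ⧸ H) = 0) (hsz0 : sz 0 = 1)
    (harith : ∀ J : Finset ℕ, J ⊆ Finset.range m → 0 ∈ J → (∑ j ∈ J, sz j) ∣ H.index →
        J = {0} ∨ J = Finset.range m)
    (K : Subgroup G) (hHK : H ≤ K) : K = H ∨ K = ⊤ := by
  classical
  haveI : Fintype (G ⧸ H) := Fintype.ofFinite _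
  set x0 : G ⧸ H := ((1 : G) : G ⧸ H) with hx0
  set A : Set (G ⧸ H) := MulAction.orbit K x0 with hA
  have hstab : MulAction.stabilizer K x0 = H.subgroupOf K := by
    ext k
    rw [MulAction.mem_stabilizer_iff, Subgroup.mem_subgroupOf]
    change ((k : G) • x0 = x0) ↔ _
    rw [← MulAction.mem_stabilizer_iff, MulAction.stabilizer_quotient]
  have hAcard : A.ncard = H.relIndex K := by
    rw [hA, ← MulAction.index_stabilizer, hstab]
    rfl
  have hdvd : A.ncard ∣ H.index := by
    rw [hAcard, ← Subgroup.relIndex_mul_index hHK]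
    exact Dvd.intro _ rfl
  have hx0A : x0 ∈ A := MulAction.mem_orbit_self _
  -- the set of labels met by A
  set J : Finset ℕ := (Finset.range m).filter (fun j => ∃ x ∈ A, lab x = j) with hJ
  have hJsub : J ⊆ Finset.range m := Finset.filter_subset _ _
  have h0m : 0 < m := by have := hlab x0; omega
  have h0J : 0 ∈ J := by
    rw [hJ, Finset.mem_filter]
    exact ⟨Finset.mem_range.mpr h0m, x0, hx0A, hbase⟩
  have hAeq : A = {x | lab x ∈ J} := by
    ext x
    constructor
    · intro hx
      change lab x ∈ J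
      rw [hJ, Finset.mem_filter]
      exact ⟨Finset.mem_range.mpr (hlab x), x, hx, rfl⟩
    · intro hx
      change lab x ∈ J at hx
      rw [hJ, Finset.mem_filter] at hx
      obtain ⟨_, y, hy, hyx⟩ := hx
      obtain ⟨h, hh⟩ := htrans y x hyx
      obtain ⟨k, rfl⟩ := hy
      rw [← hh]
      refine ⟨(⟨(h : G), hHK h.2⟩ : K) * k, ?_⟩
      change ((⟨(h : G), hHK h.2⟩ : K) * k) • x0 = h • (k • x0)
      rw [mul_smul]
      rfl
  have hsum : A.ncard = ∑ j ∈ J, sz j := by
    have e1 : A.ncard = (Finset.univ.filter (fun x : G ⧸ H => lab x ∈ J)).card := by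
      rw [hAeq, ← Set.ncard_coe_finset]
      congr 1
      ext x
      simp
    have e2 : (Finset.univ.filter (fun x : G ⧸ H => lab x ∈ J)).card
        = ∑ b ∈ J, ((Finset.univ.filter (fun x : G ⧸ H => lab x ∈ J)).filter
            (fun a => lab a = b)).card :=
      Finset.card_eq_sum_card_fiberwise (f := lab) (t := J)
        (fun x hx => (Finset.mem_filter.mp (Finset.mem_coe.mp hx)).2)
    rw [e1, e2]
    apply Finset.sum_congr rfl
    intro j hj
    rw [← hsz j (Finset.mem_range.mp (hJsub hj)), ← Set.ncard_coe_finset]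
    congr 1
    ext x
    simp only [Finset.coe_filter, Finset.mem_filter, Finset.mem_univ, true_and, Set.mem_ofPred_eq]
    constructor
    · rintro ⟨_, h⟩; exact h
    · intro h; exact ⟨h ▸ hj, h⟩
  have hidx : H.index ≠ 0 := by
    rw [Subgroup.index]
    exact Nat.card_pos.ne'
  rcases harith J hJsub h0J (hsum ▸ hdvd) with hJ0 | hJm
  · left
    have : A.ncard = 1 := by
      rw [hsum, hJ0, Finset.sum_singleton, hsz0]
    rw [hAcard] at this
    exact le_antisymm (Subgroup.relIndex_eq_one.mp this) hHK
  · right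
    have hAuniv : A = Set.univ := by
      rw [hAeq, hJm]
      ext x
      simp [hlab x]
    have : A.ncard = H.index := by
      rw [hAuniv, Set.ncard_univ, Subgroup.index]
    rw [hAcard] at this
    have h5 := Subgroup.relIndex_mul_index hHK
    rw [this] at h5
    have : K.index = 1 := by
      have : H.index * K.index = H.index * 1 := by rw [h5, Nat.mul_one]
      exact Nat.eq_of_mul_eq_mul_left (Nat.pos_of_ne_zero hidx) this
    exact Subgroup.index_eq_one.mp this

end Cfsg.Agent.Lib.Helper76.SubOrbit
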