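import Mathlib
import Cfsg.Prelude.Def_ClassicalGeometry
import Cfsg.Prelude.Def_GeometricClasses
import Cfsg.Agent.Lib.Helper81.OnDefs

/-! # ON-BASIC (helper81's S5989 hive "On"): the six basic facts on `SameType` -/

set_option autoImplicit false
set_option linter.unusedSectionVars false

namespace Cfsg.Agent.Lib.Helper81.On

open Polynomial Module
open Cfsg.Agent.Lib.Helper2.BG Cfsg.Agent.Lib.Helper99 Cfsg.Agent.Lib.Helper48.Ti

section abstract

variable {F V : Type*} [Field F] [AddCommGroup V] [Module F V] [FiniteDimensional F V]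
variable {B : V →ₗ[F] V →ₗ[F] F}

/-- ON-BASIC (1) -/
theorem SameType.refl (W : Submodule F V) : SameType B W W :=
  ⟨LinearEquiv.refl F W, fun _ _ => rfl⟩

/-- ON-BASIC (2) -/
theorem SameType.symm {W W' : Submodule F V} (h : SameType B W W') : SameType B W' W := by
  obtain ⟨e, he⟩ := h
  refine ⟨e.symm, fun u v => ?_⟩
  have := he (e.symm u) (e.symm v)
  rw [e.apply_symm_apply, e.apply_symm_apply] at this
  exact this.symm

/-- ON-BASIC (3) -/
theorem SameType.trans {W W' W'' : Submodule F V} (h : SameType B W W') (h' : SameType B W' W'') :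
    SameType B W W'' := by
  obtain ⟨e, he⟩ := h
  obtain ⟨e', he'⟩ := h'
  refine ⟨e.trans e', fun u v => ?_⟩
  rw [LinearEquiv.trans_apply, LinearEquiv.trans_apply, he', he]

/-- ON-BASIC (4) -/
theorem SameType.finrank_eq {W W' : Submodule F V} (h : SameType B W W') :
    finrank F W = finrank F W' := by
  obtain ⟨e, -⟩ := h
  exact e.finrank_eq

/-- ON-BASIC (5): nondegeneracy is an isometry invariant -/
theorem SameType.nd {W W' : Submodule F V} (h : SameType B W W') (hW : Nd B W) : Nd B W' := by
  obtain ⟨e, he⟩ := h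
  intro u hu hu0
  have h1 : ((e.symm ⟨u, hu⟩ : W) : V) = 0 := by
    apply hW _ (e.symm ⟨u, hu⟩).2
    intro v hv
    have := he (e.symm ⟨u, hu⟩) ⟨v, hv⟩
    rw [e.apply_symm_apply] at this
    rw [← this]
    exact hu0 _ (e ⟨v, hv⟩).2
  have h2 : e.symm ⟨u, hu⟩ = 0 := Subtype.ext h1
  have h3 : (⟨u, hu⟩ : W') = 0 := by
    rw [← e.apply_symm_apply ⟨u, hu⟩, h2, map_zero]
  exact congrArg Subtype.val h3

/-- ON-BASIC (6): the image of a subspace under a bijective isometry has the same type -/
theorem sameType_map {f : Module.End F V} (hf : Isom B f) (hinj : Function.Injective f)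
    (W : Submodule F V) : SameType B W (W.map f) := by
  refine ⟨Submodule.equivMapOfInjective f hinj W, fun u v => ?_⟩
  rw [Submodule.coe_equivMapOfInjective_apply, Submodule.coe_equivMapOfInjective_apply]
  exact hf u v

end abstract

end Cfsg.Agent.Lib.Helper81.On
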