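import Cfsg.Agent.Lib.Helper76.BG159A
import Cfsg.Agent.Lib.Helper47.BG147P
import Cfsg.Agent.Lib.Helper19.BG14B
import Cfsg.Agent.Lib.Helper56.BG143
import Cfsg.Agent.S1350
import Cfsg.Agent.S1351
import Cfsg.Agent.S1352
import Cfsg.Agent.S1353
import Cfsg.Agent.S1361
import Cfsg.Agent.S1367
import Cfsg.Agent.S1368
import Cfsg.Agent.S1404
import Cfsg.Agent.S1425
import Cfsg.Agent.S1429
import Cfsg.Agent.S1430

/-!
# B&G 15.9 / S1363, S1435: the pair `(M, M*)` with `U ≠ 1`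
-/

set_option autoImplicit false
set_option linter.unusedSectionVars false
set_option linter.unusedVariables false
set_option linter.style.haveILetI false

namespace Cfsg.Agent.Lib.Helper76.BG159

open Subgroup Cfsg
open Cfsg.Agent.Lib.Helper76.BG152
open Cfsg.Agent.Lib.Helper76.BGSigU

universe u

variable {G : Type u} [Group G] [Finite G]

/-- the data of S1435 on the side of `M` and its partner `M*`. -/
structure Ctx (M K U Ms : Subgroup G) : Prop where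
  hM : IsCoatom M
  hKU : IsSigmaDecomposition M K U
  hK1 : K ≠ ⊥
  hU1 : U ≠ ⊥
  hMs : IsCoatom Ms
  hKst : K = sigmaCore Ms ⊓
    centralizer ((sigmaCore M ⊓ centralizer (K : Set G) : Subgroup G) : Set G)
  hKstH : IsPiHallOf (kappa Ms) (sigmaCore M ⊓ centralizer (K : Set G)) Ms

theorem sigHall (hG : IsMinSimpleOddOrder G) {L : Subgroup G} (hL : IsCoatom L) :
    IsPiHallOf (sigma L) (sigmaCore L) L := (Cfsg.Agent.S1350.result hG L hL).1

theorem conjW {L : Subgroup G} {m s : G} (hm : m ∈ L) (hs : s ∈ sigmaCore L) :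
    m * s * m⁻¹ ∈ sigmaCore L :=
  Cfsg.Agent.Lib.Helper56.BG143.conj_mem_sigmaCore hm hs

theorem conjW' {L : Subgroup G} {m s : G} (hm : m ∈ L) (hs : s ∈ sigmaCore L) :
    m⁻¹ * s * m ∈ sigmaCore L := by
  have := conjW (L.inv_mem hm) hs
  simpa using this

namespace Ctx

variable {M K U Ms : Subgroup G}

theorem reg (hG : IsMinSimpleOddOrder G) (c : Ctx M K U Ms) :
    ∀ k ∈ K, k ≠ 1 → U ⊓ centralizer ({k} : Set G) = ⊥ :=
  Cfsg.Agent.S1353.result hG M c.hM K U c.hKU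

theorem sp (hG : IsMinSimpleOddOrder G) (c : Ctx M K U Ms) :
    ∀ k ∈ K, k ≠ 1 → sigmaCore M ⊓ centralizer ({k} : Set G) =
      sigmaCore M ⊓ centralizer (K : Set G) :=
  (Cfsg.Agent.S1430.result hG M c.hM K c.hKU.hall c.hK1).1

theorem prime (hG : IsMinSimpleOddOrder G) (c : Ctx M K U Ms) : (Nat.card K).Prime :=
  (Cfsg.Agent.Lib.Helper47.BG147P.card_prime_of_U_ne_bot hG c.hM c.hKU c.hK1 c.hU1
    (c.reg hG) (c.sp hG)).1

theorem nilW (hG : IsMinSimpleOddOrder G) (c : Ctx M K U Ms) :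
    Group.IsNilpotent (sigmaCore M) :=
  (Cfsg.Agent.Lib.Helper47.BG147P.card_prime_of_U_ne_bot hG c.hM c.hKU c.hK1 c.hU1
    (c.reg hG) (c.sp hG)).2.2

theorem U_comm (hG : IsMinSimpleOddOrder G) (c : Ctx M K U Ms) : IsMulCommutative U := by
  obtain ⟨-, ⟨U₀, hU₀c, hU₀H, hKU₀, -⟩, -⟩ :=
    Cfsg.Agent.S1430.result hG M c.hM K c.hKU.hall c.hK1
  have hσ := sigHall hG c.hM
  have hSn : M ≤ normalizer ((sigmaCore M : Subgroup G) : Set G) := le_normalizer_sigmaCore' M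
  obtain ⟨-, hN⟩ := Cfsg.Agent.Lib.Helper19.BG14.decomp_exists c.hKU.hall hσ hSn hU₀H hKU₀
  have hdisj : ∀ p, p ∈ kappa M → p ∉ sigma M := fun p hp => hp.2.2.1
  have heq : U ⊔ sigmaCore M = U₀ ⊔ sigmaCore M :=
    Cfsg.Agent.Lib.Helper19.BG14.decomp_unique hdisj c.hKU.hall hσ hSn hU₀H hN c.hKU.compl
  have hU₀M : U₀ ≤ M := hU₀H.1
  have hU₀n : U₀ ≤ normalizer ((sigmaCore M : Subgroup G) : Set G) := hU₀M.trans hSn
  have key : ∀ a ∈ U, ∀ b ∈ U, a * b = b * a := by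
    intro a ha b hb
    have ha' : a ∈ U₀ ⊔ sigmaCore M := heq ▸ (le_sup_left : U ≤ U ⊔ sigmaCore M) ha
    have hb' : b ∈ U₀ ⊔ sigmaCore M := heq ▸ (le_sup_left : U ≤ U ⊔ sigmaCore M) hb
    obtain ⟨u₁, hu₁, w₁, hw₁, rfl⟩ :=
      Cfsg.Agent.Lib.Helper24.exists_mul_of_mem_sup_of_le_normalizer U₀ _ hU₀n a ha'
    obtain ⟨u₂, hu₂, w₂, hw₂, rfl⟩ :=
      Cfsg.Agent.Lib.Helper24.exists_mul_of_mem_sup_of_le_normalizer U₀ _ hU₀n b hb'
    have hc : u₁ * u₂ = u₂ * u₁ := comm_of_mem hU₀c hu₁ hu₂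
    have e1 : u₁ * w₁ * (u₂ * w₂) = u₁ * u₂ * (u₂⁻¹ * w₁ * u₂ * w₂) := by group
    have e2 : u₂ * w₂ * (u₁ * w₁) = u₁ * u₂ * (u₁⁻¹ * w₂ * u₁ * w₁) := by
      rw [hc]; group
    have hW1 : u₂⁻¹ * w₁ * u₂ * w₂ ∈ sigmaCore M :=
      (sigmaCore M).mul_mem (conjW' (hU₀M hu₂) hw₁) hw₂
    have hW2 : u₁⁻¹ * w₂ * u₁ * w₁ ∈ sigmaCore M :=
      (sigmaCore M).mul_mem (conjW' (hU₀M hu₁) hw₂) hw₁
    have hmemW : (u₁ * w₁ * (u₂ * w₂))⁻¹ * (u₂ * w₂ * (u₁ * w₁)) ∈ sigmaCore M := by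
      rw [e1, e2]
      have : (u₁ * u₂ * (u₂⁻¹ * w₁ * u₂ * w₂))⁻¹ * (u₁ * u₂ * (u₁⁻¹ * w₂ * u₁ * w₁)) =
          (u₂⁻¹ * w₁ * u₂ * w₂)⁻¹ * (u₁⁻¹ * w₂ * u₁ * w₁) := by group
      rw [this]
      exact (sigmaCore M).mul_mem ((sigmaCore M).inv_mem hW1) hW2
    have hmemU : (u₁ * w₁ * (u₂ * w₂))⁻¹ * (u₂ * w₂ * (u₁ * w₁)) ∈ U :=
      U.mul_mem (U.inv_mem (U.mul_mem ha hb)) (U.mul_mem hb ha)
    have h1 : (u₁ * w₁ * (u₂ * w₂))⁻¹ * (u₂ * w₂ * (u₁ * w₁)) ∈ U ⊓ sigmaCore M :=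
      ⟨hmemU, hmemW⟩
    rw [U_inf_sigmaCore c.hKU, Subgroup.mem_bot] at h1
    exact (inv_mul_eq_one.1 h1)
  exact ⟨⟨fun a b => Subtype.ext (key a.1 a.2 b.1 b.2)⟩⟩

theorem K_le (c : Ctx M K U Ms) : K ≤ sigmaCore Ms := c.hKst.le.trans inf_le_left

theorem K_le_Ms (c : Ctx M K U Ms) : K ≤ Ms :=
  c.K_le.trans (Cfsg.Agent.Lib.Helper56.BG143.sigmaCore_le' Ms)

theorem p_sigma_Ms (hG : IsMinSimpleOddOrder G) (c : Ctx M K U Ms) : Nat.card K ∈ sigma Ms :=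
  Cfsg.Agent.Lib.Helper47.BG11.mem_sigma_of_dvd_card_le c.K_le (c.prime hG) dvd_rfl

theorem cent_K_le (hG : IsMinSimpleOddOrder G) (c : Ctx M K U Ms) :
    centralizer (K : Set G) ≤ Ms :=
  ((Cfsg.Agent.S1367.result hG M c.hM K U c.hKU c.hK1 Ms c.hMs c.hKst c.hKstH).2 K le_rfl
    (c.prime hG)).1

theorem inf_eq (hG : IsMinSimpleOddOrder G) (c : Ctx M K U Ms) :
    M ⊓ Ms = K ⊔ (sigmaCore M ⊓ centralizer (K : Set G)) :=
  (Cfsg.Agent.S1368.result hG M c.hM K U c.hKU c.hK1 Ms c.hMs c.hKst c.hKstH).1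

theorem not_sigma (hG : IsMinSimpleOddOrder G) (c : Ctx M K U Ms) {t : ℕ} (ht : t.Prime)
    (htU : t ∣ Nat.card U) : t ∉ sigma M := by
  haveI : Fact t.Prime := ⟨ht⟩
  obtain ⟨x, hx, hx1, hxt⟩ := exists_orderOf_eq_tPart (c.U_comm hG) ht htU
  exact not_sigma_of_mem_U (sigHall hG c.hM) c.hKU (tPart_le U t hx) hx1 hxt

theorem not_kappa (c : Ctx M K U Ms) {t : ℕ} (ht : t.Prime)
    (htU : t ∣ Nat.card U) : t ∉ kappa M := not_kappa_of_dvd_card_U c.hKU ht htU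

theorem not_dvd_K (c : Ctx M K U Ms) {t : ℕ} (ht : t.Prime)
    (htU : t ∣ Nat.card U) : ¬ t ∣ Nat.card K := fun h =>
  c.not_kappa ht htU (c.hKU.hall.2.1 t ht h)

theorem not_dvd_W (hG : IsMinSimpleOddOrder G) (c : Ctx M K U Ms) {t : ℕ} (ht : t.Prime)
    (htU : t ∣ Nat.card U) : ¬ t ∣ Nat.card (sigmaCore M) := fun h =>
  c.not_sigma hG ht htU ((sigHall hG c.hM).2.1 t ht h)

theorem K_norm_Ks (c : Ctx M K U Ms) :
    K ≤ normalizer ((sigmaCore M ⊓ centralizer (K : Set G) : Subgroup G) : Set G) := by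
  apply h76_le_normalizer_of_conj_mem
  intro k hk x hx
  have h1 : k * x = x * k := (mem_centralizer_iff.1 hx.2) k hk
  have : k * x * k⁻¹ = x := by rw [h1]; group
  rw [this]; exact hx

theorem not_dvd_inf (hG : IsMinSimpleOddOrder G) (c : Ctx M K U Ms) {t : ℕ} (ht : t.Prime)
    (htU : t ∣ Nat.card U) : ¬ t ∣ Nat.card (M ⊓ Ms : Subgroup G) := by
  rw [c.inf_eq hG]
  intro h
  have h1 := Cfsg.Agent.Lib.Helper23.card_sup_dvd_of_le_normalizer K _ c.K_norm_Ks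
  rcases (Nat.Prime.dvd_mul ht).1 (h.trans h1) with h2 | h2
  · exact c.not_dvd_K ht htU h2
  · exact c.not_sigma hG ht htU
      (Cfsg.Agent.Lib.Helper47.BG11.mem_sigma_of_dvd_card_le inf_le_left ht h2)

theorem not_dvd_relIndex_U (hG : IsMinSimpleOddOrder G) (c : Ctx M K U Ms) {t : ℕ} (ht : t.Prime)
    (htU : t ∣ Nat.card U) : ¬ t ∣ U.relIndex M := by
  have h1 := Cfsg.Agent.Lib.Helper23.card_isComplIn c.hKU.compl
  have h2 := card_mul_relIndex c.hKU.compl.1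
  have h3 : U.relIndex M = Nat.card (K ⊔ sigmaCore M : Subgroup G) := by
    have hpos : 0 < Nat.card U := Nat.card_pos
    exact Nat.eq_of_mul_eq_mul_left hpos (h2.trans h1.symm)
  rw [h3]
  intro h
  have hKn : K ≤ normalizer ((sigmaCore M : Subgroup G) : Set G) :=
    c.hKU.hall.1.trans (le_normalizer_sigmaCore' M)
  have h4 := Cfsg.Agent.Lib.Helper23.card_sup_dvd_of_le_normalizer K _ hKn
  rcases (Nat.Prime.dvd_mul ht).1 (h.trans h4) with h5 | h5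
  · exact c.not_dvd_K ht htU h5
  · exact c.not_dvd_W hG ht htU h5

/-- `C_{M_σ}(U) = 1` (`M` is not of type `𝒫₁`, S1429). -/
theorem cent_U (hG : IsMinSimpleOddOrder G) (c : Ctx M K U Ms) :
    sigmaCore M ⊓ centralizer (U : Set G) = ⊥ := by
  have hcard : Nat.card U ≠ 1 := fun h => c.hU1 (Subgroup.card_eq_one.1 h)
  obtain ⟨r, hr, hrU⟩ := Nat.exists_prime_and_dvd hcard
  haveI : Fact r.Prime := ⟨hr⟩
  have hrM : r ∣ Nat.card M := hrU.trans (Subgroup.card_dvd_of_le c.hKU.compl.1)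
  have hrσ := c.not_sigma hG hr hrU
  have hrκ := c.not_kappa hr hrU
  obtain ⟨S⟩ : Nonempty (Sylow r M) := inferInstance
  have hP1 : ¬ (∀ q : ℕ, q.Prime → q ∣ Nat.card M → q ∉ sigma M → q ∈ kappa M) :=
    fun h => hrκ (h r hr hrM hrσ)
  have hnot : r ∉ sigma M ∪ kappa M := fun h => h.elim hrσ hrκ
  obtain ⟨-, h2, -⟩ := Cfsg.Agent.S1429.result hG M c.hM hP1 r hrM hnot S
  set Ω : Subgroup G :=
    Subgroup.closure {x : G | x ∈ (S : Subgroup M).map M.subtype ∧ x ^ r = 1} with hΩ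
  have hΩS : Ω ≤ (S : Subgroup M).map M.subtype := (Subgroup.closure_le _).2 (fun x hx => hx.1)
  have hSM : (S : Subgroup M).map M.subtype ≤ M := by
    rintro _ ⟨m, _, rfl⟩; exact m.2
  have hΩp : IsPGroup r Ω := (S.2.map M.subtype).to_le hΩS
  obtain ⟨m, hmM, hm⟩ := exists_conj_le_of_not_dvd c.hKU.compl.1
    (c.not_dvd_relIndex_U hG hr hrU) hΩp (hΩS.trans hSM)
  rw [eq_bot_iff]
  intro w hw
  rw [Subgroup.mem_bot]
  have hw' : m * w * m⁻¹ ∈ sigmaCore M ⊓ centralizer (Ω : Set G) := by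
    refine Subgroup.mem_inf.2 ⟨conjW hmM hw.1, ?_⟩
    rw [mem_centralizer_iff]
    intro a ha
    have h3 : (m⁻¹ * a * m) * w = w * (m⁻¹ * a * m) := (mem_centralizer_iff.1 hw.2) _ (hm a ha)
    calc a * (m * w * m⁻¹) = m * ((m⁻¹ * a * m) * w) * m⁻¹ := by group
      _ = m * (w * (m⁻¹ * a * m)) * m⁻¹ := by rw [h3]
      _ = m * w * m⁻¹ * a := by group
  rw [h2, Subgroup.mem_bot] at hw'
  have : w = m⁻¹ * (m * w * m⁻¹) * m := by group
  rw [this, hw']; group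

/-- the σ-decomposition of the partner `M*`. -/
theorem exists_Us (hG : IsMinSimpleOddOrder G) (c : Ctx M K U Ms) :
    ∃ Us : Subgroup G, IsSigmaDecomposition Ms (sigmaCore M ⊓ centralizer (K : Set G)) Us := by
  have hcyc : IsCyclic ↥(sigmaCore M ⊓ centralizer (K : Set G)) :=
    (Cfsg.Agent.S1351.result hG Ms c.hMs).2 _ c.hKstH
  exact (Cfsg.Agent.S1352.result hG Ms c.hMs _ hcyc c.hKstH).1

/-- primes of `U` are not in `σ(M*)`. -/
theorem not_sigma_Ms (hG : IsMinSimpleOddOrder G) (c : Ctx M K U Ms) {t : ℕ} (ht : t.Prime)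
    (htU : t ∣ Nat.card U) : t ∉ sigma Ms := by
  intro htσ
  haveI : Fact t.Prime := ⟨ht⟩
  have hUc := c.U_comm hG
  have hp := c.prime hG
  haveI : Fact (Nat.card K).Prime := ⟨hp⟩
  set T := tPart U t with hT
  have hT1 : T ≠ ⊥ := tPart_ne_bot hUc ht htU
  have hKT : K ≤ normalizer ((T : Subgroup G) : Set G) := norm_tPart hUc c.hKU.normal t
  -- `Y = T K`
  have hY1 : T ⊔ K ≠ ⊥ := fun h => hT1 (le_bot_iff.1 (h ▸ le_sup_left))
  have hYσ : ∀ q : ℕ, q.Prime → q ∣ Nat.card (T ⊔ K : Subgroup G) → q ∈ sigma Ms := by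
    intro q hq hqd
    have h1 : Nat.card (T ⊔ K : Subgroup G) ∣ Nat.card K * Nat.card T := by
      rw [sup_comm]
      exact Cfsg.Agent.Lib.Helper23.card_sup_dvd_of_le_normalizer K T hKT
    rcases (Nat.Prime.dvd_mul hq).1 (hqd.trans h1) with h2 | h2
    · have : q = Nat.card K := (Nat.prime_dvd_prime_iff_eq hq hp).1 h2
      rw [this]; exact c.p_sigma_Ms hG
    · obtain ⟨n, hn⟩ := IsPGroup.iff_card.1 (isPGroup_tPart hUc t)
      rw [hn] at h2
      have : q = t := (Nat.prime_dvd_prime_iff_eq hq ht).1 (hq.dvd_of_dvd_pow h2)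
      rw [this]; exact htσ
  obtain ⟨g, hg⟩ := Cfsg.Agent.S1425.result hG Ms c.hMs (T ⊔ K) hY1 hYσ
  have hKp : IsPGroup (Nat.card K) K := IsPGroup.of_card (n := 1) (by rw [pow_one])
  have hKg : K.map (MulAut.conj g).toMonoidHom ≤ Ms := by
    refine le_trans (Subgroup.map_mono le_sup_right) (hg.trans ?_)
    exact Cfsg.Agent.Lib.Helper56.BG143.sigmaCore_le' Ms
  obtain ⟨m, hm, x, hx, hgm⟩ :=
    (Cfsg.Agent.S1404.result hG Ms c.hMs (Nat.card K) (c.p_sigma_Ms hG) K hKp c.hK1 c.K_le_Ms).1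
      g hKg
  have hgMs : g ∈ Ms := by
    rw [hgm]; exact Ms.mul_mem hm (c.cent_K_le hG hx)
  -- `T ≤ M*`
  have hTMs : T ≤ Ms := by
    intro y hy
    have h1 : g * y * g⁻¹ ∈ Ms := by
      apply Cfsg.Agent.Lib.Helper56.BG143.sigmaCore_le' Ms
      apply hg
      exact ⟨y, (le_sup_left : T ≤ T ⊔ K) hy, by simp⟩
    have : y = g⁻¹ * (g * y * g⁻¹) * g := by group
    rw [this]
    exact Ms.mul_mem (Ms.mul_mem (Ms.inv_mem hgMs) h1) hgMs
  have hTM : T ≤ M := (tPart_le U t).trans c.hKU.compl.1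
  exact hT1 (eq_bot_of_isPGroup_of_not_dvd ht (le_inf hTM hTMs) (isPGroup_tPart hUc t)
    (c.not_dvd_inf hG ht htU))

/-- **FACT Y.** A nonidentity `t`-element (`t ∣ |U|`) centralizing `K` has its centralizer
inside `M*`. -/
theorem factY (hG : IsMinSimpleOddOrder G) (c : Ctx M K U Ms) {t : ℕ} (ht : t.Prime)
    (htU : t ∣ Nat.card U) {y : G} (hy1 : y ≠ 1) (hyt : ∃ n : ℕ, y ^ t ^ n = 1)
    (hyK : ∀ k ∈ K, k * y = y * k) : centralizer ({y} : Set G) ≤ Ms := by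
  haveI : Fact t.Prime := ⟨ht⟩
  obtain ⟨Us, hUs⟩ := c.exists_Us hG
  have hσs := sigHall hG c.hMs
  have hyMs : y ∈ Ms := by
    apply c.cent_K_le hG
    rw [mem_centralizer_iff]
    intro k hk
    exact hyK k hk
  -- `t ∤ [M* : U*]`
  have hnd : ¬ t ∣ Us.relIndex Ms := by
    have h1 := Cfsg.Agent.Lib.Helper23.card_isComplIn hUs.compl
    have h2 := card_mul_relIndex hUs.compl.1
    have h3 : Us.relIndex Ms =
        Nat.card ((sigmaCore M ⊓ centralizer (K : Set G)) ⊔ sigmaCore Ms : Subgroup G) := by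
      have hpos : 0 < Nat.card Us := Nat.card_pos
      exact Nat.eq_of_mul_eq_mul_left hpos (h2.trans h1.symm)
    rw [h3]
    intro h
    have hKn : (sigmaCore M ⊓ centralizer (K : Set G)) ≤
        normalizer ((sigmaCore Ms : Subgroup G) : Set G) :=
      hUs.hall.1.trans (le_normalizer_sigmaCore' Ms)
    have h4 := Cfsg.Agent.Lib.Helper23.card_sup_dvd_of_le_normalizer _ _ hKn
    rcases (Nat.Prime.dvd_mul ht).1 (h.trans h4) with h5 | h5
    · exact c.not_sigma hG ht htU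
        (Cfsg.Agent.Lib.Helper47.BG11.mem_sigma_of_dvd_card_le inf_le_left ht h5)
    · exact c.not_sigma_Ms hG ht htU (hσs.2.1 t ht h5)
  have hQ : IsPGroup t (zpowers y) := by
    rintro ⟨_, ⟨j, rfl⟩⟩
    obtain ⟨n, hn⟩ := hyt
    refine ⟨n, Subtype.ext ?_⟩
    change (y ^ j) ^ t ^ n = 1
    rw [← zpow_natCast, ← zpow_mul, mul_comm, zpow_mul, zpow_natCast, hn, one_zpow]
  obtain ⟨m, hmMs, hm⟩ := exists_conj_le_of_not_dvd hUs.compl.1 hnd hQ ((zpowers_le).2 hyMs)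
  set y' := m⁻¹ * y * m with hy'
  have hy'U : y' ∈ Us := hm y (mem_zpowers y)
  have hy'1 : y' ≠ 1 := by
    intro h
    apply hy1
    have : y = m * y' * m⁻¹ := by rw [hy']; group
    rw [this, h]; group
  have hX1 : zpowers y' ≠ ⊥ := by
    intro h
    rw [Subgroup.zpowers_eq_bot] at h
    exact hy'1 h
  obtain ⟨k, hk, hk1⟩ := exists_ne_one_of_ne_bot c.hK1
  have hXc : sigmaCore Ms ⊓ centralizer ((zpowers y' : Subgroup G) : Set G) ≠ ⊥ := by
    intro h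
    have hmem : m⁻¹ * k * m ∈ sigmaCore Ms ⊓ centralizer ((zpowers y' : Subgroup G) : Set G) := by
      refine Subgroup.mem_inf.2 ⟨conjW' hmMs (c.K_le hk), ?_⟩
      rw [mem_centralizer_iff]
      intro z hz
      obtain ⟨j, rfl⟩ := Subgroup.mem_zpowers_iff.1 hz
      have h0 : Commute (m⁻¹ * k * m) y' := by
        change m⁻¹ * k * m * y' = y' * (m⁻¹ * k * m)
        rw [hy']
        calc m⁻¹ * k * m * (m⁻¹ * y * m) = m⁻¹ * (k * y) * m := by group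
          _ = m⁻¹ * (y * k) * m := by rw [hyK k hk]
          _ = m⁻¹ * y * m * (m⁻¹ * k * m) := by group
      exact ((h0.zpow_right j).eq).symm
    rw [h, Subgroup.mem_bot] at hmem
    apply hk1
    have : k = m * (m⁻¹ * k * m) * m⁻¹ := by group
    rw [this, hmem]; group
  have hcent := (Cfsg.Agent.S1361.result hG Ms c.hMs _ Us hUs (zpowers y')
    ((zpowers_le).2 hy'U) hX1 hXc).1
  intro z hz
  have hzy : z * y = y * z := ((mem_centralizer_iff.1 hz) y rfl).symm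
  have h1 : m⁻¹ * z * m ∈ centralizer ((zpowers y' : Subgroup G) : Set G) := by
    rw [mem_centralizer_iff]
    intro w hw
    obtain ⟨j, rfl⟩ := Subgroup.mem_zpowers_iff.1 hw
    have h0 : Commute (m⁻¹ * z * m) y' := by
      change m⁻¹ * z * m * y' = y' * (m⁻¹ * z * m)
      rw [hy']
      calc m⁻¹ * z * m * (m⁻¹ * y * m) = m⁻¹ * (z * y) * m := by group
        _ = m⁻¹ * (y * z) * m := by rw [hzy]
        _ = m⁻¹ * y * m * (m⁻¹ * z * m) := by group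
    exact ((h0.zpow_right j).eq).symm
  have h2 := hcent h1
  have : z = m * (m⁻¹ * z * m) * m⁻¹ := by group
  rw [this]
  exact Ms.mul_mem (Ms.mul_mem hmMs h2) (Ms.inv_mem hmMs)

end Ctx

end Cfsg.Agent.Lib.Helper76.BG159
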