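import Mathlib
import Cfsg.Prelude.Def_ClassicalGeometry
import Cfsg.Prelude.Def_GeometricClasses
import Cfsg.Agent.Lib.Helper39.EqDefs
import Cfsg.Agent.Lib.Helper76.QeT2

/-! # EQ-T2 (helper39's generic even-dimensional orthogonal layer): `plusQ_fpf`, characteristic free.
A restatement of `Cfsg.Agent.Lib.Helper65.Qe.t2q_plusQ_fpf` (`Lib/Helper76/QeT2.lean`) in the `Eq` vocabulary
(the two vocabularies unfold to the same propositions). -/

set_option autoImplicit false
set_option linter.unusedSectionVars false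

namespace Cfsg.Agent.Lib.Helper39.Eq

open Module
open Cfsg.Agent.Lib.Helper2.BG Cfsg.Agent.Lib.Helper99 Cfsg.Agent.Lib.Helper48.Ti
open Cfsg.Agent.Lib.Helper5.Hy

section abstract

variable {F V : Type*} [Field F] [Fintype F] [AddCommGroup V] [Module F V] [FiniteDimensional F V]
variable {Q : QuadraticForm F V}

/-- EQ-T2 -/
theorem plusQ_fpf {f : Module.End F V} (hf : IsoQ Q f) (r : ℕ) [Fact r.Prime] (hr2 : r ≠ 2)
    (hrq : ¬ r ∣ Fintype.card F) (hfr : f ^ r = 1) {N : Submodule F V} (hNi : Inv f N)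
    (hN : NdQ Q N) (hfix : N ⊓ Fix f = ⊥) :
    PlusQ Q N ↔ ((Fintype.card F : ℕ) : ZMod r) ^ (finrank F N / 2) = 1 :=
  Cfsg.Agent.Lib.Helper65.Qe.t2q_plusQ_fpf (Q := Q) (f := f) hf r hr2 hrq hfr hNi hN hfix

end abstract

end Cfsg.Agent.Lib.Helper39.Eq
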