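import Mathlib
import Cfsg.Prelude.Def_EvenType
import Cfsg.Prelude.Def_LieTypeChar

/-! # Rk hive (helper76, S1788): transfer of `PRankAtLeast` along an isomorphism, small arithmetic -/

set_option autoImplicit false

namespace Cfsg.Agent.Lib.Helper76.Rk

open Cfsg

/-- RK-ISO: transfer along an isomorphism. -/
theorem prank_of_mulEquiv {X Y : Type*} [Group X] [Group Y] (e : X ≃* Y) {p k : ℕ}
    (h : PRankAtLeast p k Y) : PRankAtLeast p k X := by
  obtain ⟨A, hA, hexp, hcard⟩ := h
  refine ⟨A.comap e.toMonoidHom, ?_, ?_, ?_⟩
  · constructor
    constructor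
    rintro ⟨a, ha⟩ ⟨b, hb⟩
    apply Subtype.ext
    show a * b = b * a
    have ha' : e a ∈ A := ha
    have hb' : e b ∈ A := hb
    have := hA.is_comm.comm ⟨e a, ha'⟩ ⟨e b, hb'⟩
    have h2 : e a * e b = e b * e a := congrArg Subtype.val this
    apply e.injective
    rw [map_mul, map_mul, h2]
  · intro a ha
    have ha' : e a ∈ A := ha
    apply e.injective
    rw [map_pow, hexp _ ha', map_one]
  · have : Nat.card (A.comap e.toMonoidHom) = Nat.card A := by
      apply Nat.card_congr
      exact
        { toFun := fun a => ⟨e a.1, a.2⟩
          invFun := fun b => ⟨e.symm b.1, by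
            show e (e.symm b.1) ∈ A
            rw [e.apply_symm_apply]
            exact b.2⟩
          left_inv := fun a => by
            apply Subtype.ext
            simp
          right_inv := fun b => by
            apply Subtype.ext
            simp }
    rw [this]
    exact hcard

/-- a finite field of characteristic 2 has `2 ^ a` elements, `a ≥ 1` -/
theorem rk_card_two_pow (F : Type) [Field F] [Fintype F] [CharP F 2] :
    ∃ a : ℕ, 1 ≤ a ∧ Fintype.card F = 2 ^ a := by
  obtain ⟨n, _, hn⟩ := FiniteField.card F 2
  exact ⟨n, n.pos, hn⟩

theorem rk_two_pow_ge {a : ℕ} (ha : 3 ≤ a) : 8 ≤ 2 ^ a := by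
  calc 8 = 2 ^ 3 := by norm_num
    _ ≤ 2 ^ a := Nat.pow_le_pow_right (by norm_num) ha

/-- the standard way to produce `PRankAtLeast 2 k`: an injective map `φ` from a finite type of size `≥ 2^k` into
pairwise commuting elements of order dividing 2 whose range is closed under multiplication. -/
theorem prank_of_closure {X : Type*} [Group X] (S : Set X) (k : ℕ)
    (hcomm : ∀ a ∈ S, ∀ b ∈ S, a * b = b * a) (hsq : ∀ a ∈ S, a ^ 2 = 1)
    (hcard : 2 ^ k ≤ Nat.card (Subgroup.closure S)) : PRankAtLeast 2 k X := by
  refine ⟨Subgroup.closure S, ?_, ?_, hcard⟩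
  · constructor
    constructor
    rintro ⟨a, ha⟩ ⟨b, hb⟩
    apply Subtype.ext
    show a * b = b * a
    have hle : Subgroup.closure S ≤ Subgroup.centralizer (Subgroup.closure S : Set X) := by
      rw [Subgroup.closure_le]
      intro s hs
      rw [SetLike.mem_coe, Subgroup.mem_centralizer_iff]
      intro g hg
      have hle2 : Subgroup.closure S ≤ Subgroup.centralizer ({s} : Set X) := by
        rw [Subgroup.closure_le]
        intro s' hs'
        rw [SetLike.mem_coe, Subgroup.mem_centralizer_iff]
        intro y hy
        rw [Set.mem_singleton_iff] at hy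
        subst hy
        exact hcomm _ hs _ hs'
      have := Subgroup.mem_centralizer_iff.mp (hle2 hg) s (Set.mem_singleton s)
      exact this.symm
    have := Subgroup.mem_centralizer_iff.mp (hle hb) a ha
    exact this
  · intro a ha
    induction ha using Subgroup.closure_induction with
    | mem x hx => exact hsq x hx
    | one => simp
    | mul x y hx hy ihx ihy =>
      have hxy : x * y = y * x := by
        have hle : Subgroup.closure S ≤ Subgroup.centralizer (Subgroup.closure S : Set X) := by
          rw [Subgroup.closure_le]
          intro s hs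
          rw [SetLike.mem_coe, Subgroup.mem_centralizer_iff]
          intro g hg
          have hle2 : Subgroup.closure S ≤ Subgroup.centralizer ({s} : Set X) := by
            rw [Subgroup.closure_le]
            intro s' hs'
            rw [SetLike.mem_coe, Subgroup.mem_centralizer_iff]
            intro y hy
            rw [Set.mem_singleton_iff] at hy
            subst hy
            exact hcomm _ hs _ hs'
          have := Subgroup.mem_centralizer_iff.mp (hle2 hg) s (Set.mem_singleton s)
          exact this.symm
        exact Subgroup.mem_centralizer_iff.mp (hle hy) x hx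
      rw [(Commute.mul_pow (show Commute x y from hxy) 2), ihx, ihy, one_mul]
    | inv x hx ih => rw [inv_pow, ih, inv_one]

end Cfsg.Agent.Lib.Helper76.Rk
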