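import Mathlib
import Cfsg.Prelude.Def_ClassicalGeometry
import Cfsg.Prelude.Def_GeometricClasses
import Cfsg.Agent.Lib.Helper81.OnDefs
import Cfsg.Agent.Lib.Helper76.OnBASIC

/-! # ON-CONG (helper81's S5989 hive "On"): the fixed point congruence for the action of `⟨f⟩` on
the family of nondegenerate subspaces isometric to `W₀` -/

set_option autoImplicit false
set_option linter.unusedSectionVars false
set_option linter.style.haveILetI false

namespace Cfsg.Agent.Lib.Helper81.On

open Polynomial Module
open Cfsg.Agent.Lib.Helper2.BG Cfsg.Agent.Lib.Helper99 Cfsg.Agent.Lib.Helper48.Ti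

section abstract

variable {F V : Type*} [Field F] [AddCommGroup V] [Module F V] [FiniteDimensional F V]
variable {B : V →ₗ[F] V →ₗ[F] F}

theorem cong_injective {f : Module.End F V} {r : ℕ} (hr : 0 < r) (hfr : f ^ r = 1) :
    Function.Injective f := by
  have h : Function.LeftInverse (f ^ (r - 1)) f := by
    intro v
    rw [← Module.End.mul_apply, ← pow_succ, Nat.sub_add_cancel hr, hfr]
    rfl
  exact h.injective

theorem cong_map_eq_iff {f : Module.End F V} (hinj : Function.Injective f) (W : Submodule F V) :
    W.map f = W ↔ Inv f W := by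
  constructor
  · intro h v hv
    rw [← h]
    exact Submodule.mem_map_of_mem hv
  · intro h
    have hle : W.map f ≤ W := by
      rintro _ ⟨v, hv, rfl⟩
      exact h v hv
    exact Submodule.eq_of_le_of_finrank_eq hle
      (Submodule.equivMapOfInjective f hinj W).finrank_eq.symm

theorem cong_end_eq_one {α : Type*} (g : α → α) (n : ℕ) (h : ∀ a, g^[n] a = a) :
    ((show Function.End α from g) ^ n) = 1 := by
  have : ((show Function.End α from g) ^ n) = (show Function.End α from g^[n]) := rfl
  rw [this]
  exact funext h

section semisimple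

variable [Fintype F] {p : ℕ} [Fact p.Prime] [CharP F p] {r : ℕ} [Fact r.Prime]

/-- ON-CONG -/
theorem card_modEq_fixed {f : Module.End F V} (hf : Isom B f) (hfr : f ^ r = 1)
    (W₀ : Submodule F V) :
    Nat.card {W : Submodule F V // Nd B W ∧ SameType B W W₀} ≡
      Nat.card {W : Submodule F V // (Nd B W ∧ SameType B W W₀) ∧ Inv f W} [MOD r] := by
  classical
  have hr : r.Prime := Fact.out
  have hinj : Function.Injective f := cong_injective hr.pos hfr
  have hfinV : Finite V := Module.finite_of_finite F
  have : Finite (Submodule F V) := Finite.of_injective (fun W => (W : Set V))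
    SetLike.coe_injective
  haveI : Fintype {W : Submodule F V // Nd B W ∧ SameType B W W₀} := Fintype.ofFinite _
  let g : {W : Submodule F V // Nd B W ∧ SameType B W W₀} →
      {W : Submodule F V // Nd B W ∧ SameType B W W₀} :=
    fun W => ⟨W.1.map f, (sameType_map hf hinj W.1).nd W.2.1,
      (sameType_map hf hinj W.1).symm.trans W.2.2⟩
  have hiter : ∀ (k : ℕ) (W : {W : Submodule F V // Nd B W ∧ SameType B W W₀}),
      ((g^[k]) W).1 = W.1.map (f ^ k) := by
    intro k
    induction k with
    | zero => intro W; simp [Module.End.one_eq_id]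
    | succ k ih =>
      intro W
      rw [Function.iterate_succ_apply']
      show ((g^[k]) W).1.map f = _
      rw [ih, pow_succ', Module.End.mul_eq_comp, Submodule.map_comp]
  let φ : Function.End {W : Submodule F V // Nd B W ∧ SameType B W W₀} := g
  have hφ : φ ^ r ^ 1 = 1 := by
    rw [pow_one]
    apply cong_end_eq_one
    intro W
    apply Subtype.ext
    rw [hiter, hfr, Module.End.one_eq_id, Submodule.map_id]
  have key := Equiv.Perm.card_fixedPoints_modEq (p := r) (n := 1) hφ
  rw [Nat.card_eq_fintype_card]
  refine key.trans ?_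
  rw [← Nat.card_eq_fintype_card]
  refine (congrArg (· % r) (Nat.card_congr ?_) : _)
  refine
    { toFun := fun W => ⟨W.1.1, W.1.2, ?_⟩
      invFun := fun W => ⟨⟨W.1, W.2.1⟩, ?_⟩
      left_inv := fun W => rfl
      right_inv := fun W => rfl }
  · have h : g W.1 = W.1 := W.2
    have h' : (g W.1).1 = W.1.1 := congrArg Subtype.val h
    exact (cong_map_eq_iff hinj _).1 h'
  · show g ⟨W.1, W.2.1⟩ = ⟨W.1, W.2.1⟩
    apply Subtype.ext
    exact (cong_map_eq_iff hinj _).2 W.2.2

end semisimple

end abstract

end Cfsg.Agent.Lib.Helper81.On
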