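import Mathlib
import Cfsg.Agent.S4448
import Cfsg.Agent.Lib.Helper75.CliffordCorr
import Cfsg.Agent.Lib.Helper24.SZCompl

/-!
# Relative character theory: induction, restriction and the Clifford correspondence between
subgroups of a fixed ambient group
-/

set_option autoImplicit false
set_option linter.style.haveILetI false
set_option linter.unusedSectionVars false

namespace Cfsg.Agent.Lib.Helper76.Rel

open Subgroup Cfsg Cfsg.Agent.Lib.Helper3 Cfsg.Agent.Lib.Helper75 Cfsg.Agent.Lib.Helper25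
open Cfsg.Agent.S4447 Cfsg.Agent.S4448
open scoped ComplexConjugate

universe u

variable {Γ : Type u} [Group Γ]

/-- Induction from `A` to `B`, for subgroups `A ≤ B` of the ambient group. -/
noncomputable def indSub {A B : Subgroup Γ} [Fintype B] (h : A ≤ B) (ψ : A → ℂ) : B → ℂ :=
  indFun (A.subgroupOf B) (fun x => ψ (subgroupOfEquivOfLe h x))

theorem isCharacter_indSub {A B : Subgroup Γ} [Fintype B] (h : A ≤ B) {ψ : A → ℂ}
    (hψ : IsCharacter A ψ) : IsCharacter B (indSub h ψ) := by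
  unfold indSub
  apply isCharacter_indFun
  exact IsCharacter.comp_hom (subgroupOfEquivOfLe h).toMonoidHom hψ

/-- Frobenius reciprocity in relative form. -/
theorem frob {A B : Subgroup Γ} [Fintype A] [Fintype B] (h : A ≤ B) (ψ : A → ℂ) (χ : B → ℂ)
    (hχ : IsClassFunction B χ) :
    classInner χ (indSub h ψ) = classInner (fun a : A => χ ⟨a, h a.2⟩) ψ := by
  classical
  haveI : Fintype (A.subgroupOf B) := Fintype.ofFinite _
  unfold indSub
  rw [frobenius_reciprocity' (A.subgroupOf B) _ χ hχ]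
  have := classInner_comp_mulEquiv (subgroupOfEquivOfLe h) (fun a : A => χ ⟨a, h a.2⟩) ψ
  rw [← this]
  rfl

theorem frob' {A B : Subgroup Γ} [Fintype A] [Fintype B] (h : A ≤ B) (ψ : A → ℂ) (χ : B → ℂ)
    (hχ : IsClassFunction B χ) :
    classInner (indSub h ψ) χ = classInner ψ (fun a : A => χ ⟨a, h a.2⟩) := by
  rw [Cfsg.Agent.Lib.Helper3.classInner_conj_symm, frob h ψ χ hχ,
    ← Cfsg.Agent.Lib.Helper3.classInner_conj_symm]

theorem indSub_apply_one {A B : Subgroup Γ} [Fintype B] (h : A ≤ B) (ψ : A → ℂ) :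
    indSub h ψ 1 = (A.relIndex B : ℂ) * ψ 1 := by
  unfold indSub
  rw [Cfsg.Agent.Lib.Helper75.indFun_apply_one]
  rfl

theorem classInner_ne_zero_symm {H : Type*} [Group H] [Fintype H] {φ ψ : H → ℂ}
    (h : classInner φ ψ ≠ 0) : classInner ψ φ ≠ 0 := by
  intro h0
  apply h
  rw [Cfsg.Agent.Lib.Helper3.classInner_conj_symm, h0, map_zero]

section Cliff

variable (K Q T : Subgroup Γ) (θ : Q → ℂ)

/-- The data of the Clifford correspondence: `Q ⊴ K`, `θ ∈ Irr(Q)` and `T` the stabiliser of `θ`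
in `K`. -/
structure CliffSetup : Prop where
  hQK : Q ≤ K
  hKQ : K ≤ normalizer (Q : Set Γ)
  hθ : IsIrrCharacter Q θ
  hT : ∀ g : Γ, g ∈ T ↔ g ∈ K ∧ act Q g θ = θ

variable {K Q T θ}

theorem CliffSetup.hTK (S : CliffSetup K Q T θ) : T ≤ K := fun g hg => ((S.hT g).1 hg).1

theorem CliffSetup.hQT (S : CliffSetup K Q T θ) : Q ≤ T := fun g hg =>
  (S.hT g).2 ⟨S.hQK hg, act_of_mem Q hg
    (IsCharacter.isClassFunction (IsIrrCharacter.isCharacter S.hθ))⟩

theorem CliffSetup.hTQ (S : CliffSetup K Q T θ) : T ≤ normalizer (Q : Set Γ) :=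
  S.hTK.trans S.hKQ

theorem CliffSetup.act_eq (S : CliffSetup K Q T θ) {g : Γ} (hg : g ∈ T) : act Q g θ = θ :=
  ((S.hT g).1 hg).2

/-- the inertia condition in the form used by the ambient Clifford correspondence -/
theorem CliffSetup.hT' (S : CliffSetup K Q T θ)
    [hN : (Q.subgroupOf K).Normal] (g : K) :
    g ∈ T.subgroupOf K ↔ ∀ h : Q.subgroupOf K,
      resSub Q K θ ⟨g * h * g⁻¹, hN.conj_mem h h.2 g⟩ = resSub Q K θ h := by
  rw [mem_subgroupOf, S.hT]
  constructor
  · rintro ⟨-, hg⟩ h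
    have h1 := congrFun hg ⟨(h : K), mem_subgroupOf.mp h.2⟩
    rw [act_apply Q (S.hKQ g.2)] at h1
    exact h1
  · intro hg
    refine ⟨g.2, ?_⟩
    funext q
    rw [act_apply Q (S.hKQ g.2)]
    exact hg ⟨⟨q, S.hQK q.2⟩, mem_subgroupOf.mpr q.2⟩

variable [Fintype K] [Fintype Q] [Fintype T]

/-- translation of "lying over" -/
theorem CliffSetup.over_iff (S : CliffSetup K Q T θ) [Fintype (T.subgroupOf K)] (ψ : T → ℂ)
    (hψ : IsClassFunction T ψ) :
    classInner (indFun ((Q.subgroupOf K).subgroupOf (T.subgroupOf K))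
        (resSub (Q.subgroupOf K) (T.subgroupOf K) (resSub Q K θ)))
      (fun x : T.subgroupOf K => ψ (subgroupOfEquivOfLe S.hTK x)) =
    classInner θ (fun q : Q => ψ ⟨q, S.hQT q.2⟩) := by
  classical
  haveI : Fintype ((Q.subgroupOf K).subgroupOf (T.subgroupOf K)) := Fintype.ofFinite _
  have hcf : IsClassFunction (T.subgroupOf K)
      (fun x : T.subgroupOf K => ψ (subgroupOfEquivOfLe S.hTK x)) := by
    intro a b
    have := hψ (subgroupOfEquivOfLe S.hTK a) (subgroupOfEquivOfLe S.hTK b)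
    simp only [map_mul, map_inv]
    exact this
  rw [frobenius_reciprocity _ _ _ hcf]
  have hle : Q.subgroupOf K ≤ T.subgroupOf K := by
    intro x hx
    rw [mem_subgroupOf] at hx ⊢
    exact S.hQT hx
  let e3 : ((Q.subgroupOf K).subgroupOf (T.subgroupOf K)) ≃* Q :=
    (subgroupOfEquivOfLe hle).trans (subgroupOfEquivOfLe S.hQK)
  have := classInner_comp_mulEquiv e3 θ (fun q : Q => ψ ⟨q, S.hQT q.2⟩)
  rw [← this]
  rfl

theorem CliffSetup.irr_comp (S : CliffSetup K Q T θ) {ψ : T → ℂ} (hψ : IsIrrCharacter T ψ) :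
    IsIrrCharacter (T.subgroupOf K) (fun x : T.subgroupOf K => ψ (subgroupOfEquivOfLe S.hTK x)) :=
  IsIrrCharacter.comp_surj (subgroupOfEquivOfLe S.hTK).toMonoidHom
    (subgroupOfEquivOfLe S.hTK).surjective hψ

/-- **Clifford correspondence**: induction from the stabiliser is irreducible on characters over
`θ`, and injective. -/
theorem CliffSetup.ind_irr_inj (S : CliffSetup K Q T θ) {ψ ψ' : T → ℂ}
    (hψ : IsIrrCharacter T ψ) (hψ' : IsIrrCharacter T ψ')
    (hov : classInner (fun q : Q => ψ ⟨q, S.hQT q.2⟩) θ ≠ 0)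
    (hov' : classInner (fun q : Q => ψ' ⟨q, S.hQT q.2⟩) θ ≠ 0) :
    IsIrrCharacter K (indSub S.hTK ψ) ∧ (indSub S.hTK ψ = indSub S.hTK ψ' → ψ = ψ') := by
  classical
  haveI : Fintype (T.subgroupOf K) := Fintype.ofFinite _
  haveI hN : (Q.subgroupOf K).Normal :=
    Cfsg.Agent.Lib.Helper24.normal_subgroupOf_of_le_normalizer S.hKQ
  have hle : Q.subgroupOf K ≤ T.subgroupOf K := by
    intro x hx
    rw [mem_subgroupOf] at hx ⊢
    exact S.hQT hx
  have hcf := IsCharacter.isClassFunction (IsIrrCharacter.isCharacter hψ)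
  have hcf' := IsCharacter.isClassFunction (IsIrrCharacter.isCharacter hψ')
  have h := clifford_corr_induction (Q.subgroupOf K) (T.subgroupOf K) (resSub Q K θ)
    (isIrrCharacter_resSub S.hQK S.hθ) (fun g => S.hT' g) hle _ _ (S.irr_comp hψ) (S.irr_comp hψ')
    (by rw [S.over_iff ψ hcf]; exact classInner_ne_zero_symm hov)
    (by rw [S.over_iff ψ' hcf']; exact classInner_ne_zero_symm hov')
  refine ⟨h.1, fun heq => ?_⟩
  have h2 := h.2 heq
  funext t
  have := congrFun h2 ((subgroupOfEquivOfLe S.hTK).symm t)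
  simpa using this

theorem CliffSetup.ind_irr (S : CliffSetup K Q T θ) {ψ : T → ℂ}
    (hψ : IsIrrCharacter T ψ)
    (hov : classInner (fun q : Q => ψ ⟨q, S.hQT q.2⟩) θ ≠ 0) :
    IsIrrCharacter K (indSub S.hTK ψ) := (S.ind_irr_inj hψ hψ hov hov).1

/-- **Clifford correspondence**: surjectivity. -/
theorem CliffSetup.ind_surj (S : CliffSetup K Q T θ) {χ : K → ℂ} (hχ : IsIrrCharacter K χ)
    (hov : classInner (fun q : Q => χ ⟨q, S.hQK q.2⟩) θ ≠ 0) :
    ∃ ψ : T → ℂ, IsIrrCharacter T ψ ∧ classInner (fun q : Q => ψ ⟨q, S.hQT q.2⟩) θ ≠ 0 ∧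
      indSub S.hTK ψ = χ := by
  classical
  haveI : Fintype (T.subgroupOf K) := Fintype.ofFinite _
  haveI : Fintype (Q.subgroupOf K) := Fintype.ofFinite _
  haveI hN : (Q.subgroupOf K).Normal :=
    Cfsg.Agent.Lib.Helper24.normal_subgroupOf_of_le_normalizer S.hKQ
  have hle : Q.subgroupOf K ≤ T.subgroupOf K := by
    intro x hx
    rw [mem_subgroupOf] at hx ⊢
    exact S.hQT hx
  have hov2 : classInner (fun n : Q.subgroupOf K => χ n) (resSub Q K θ) ≠ 0 := by
    rw [classInner_resSub S.hQK χ θ]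
    exact hov
  obtain ⟨ψ', hψ', hind, hc, -⟩ := clifford_corr_surjective (Q.subgroupOf K) (T.subgroupOf K)
    (resSub Q K θ) (isIrrCharacter_resSub S.hQK S.hθ) (fun g => S.hT' g) hle χ hχ hov2
  let ψ : T → ℂ := fun t => ψ' ((subgroupOfEquivOfLe S.hTK).symm t)
  have hψ : IsIrrCharacter T ψ :=
    IsIrrCharacter.comp_surj (subgroupOfEquivOfLe S.hTK).symm.toMonoidHom
      (subgroupOfEquivOfLe S.hTK).symm.surjective hψ'
  have hψψ' : (fun x : T.subgroupOf K => ψ (subgroupOfEquivOfLe S.hTK x)) = ψ' := by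
    funext x
    simp [ψ]
  refine ⟨ψ, hψ, ?_, ?_⟩
  · have h1 := S.over_iff ψ (IsCharacter.isClassFunction (IsIrrCharacter.isCharacter hψ))
    rw [hψψ'] at h1
    rw [h1] at hc
    exact classInner_ne_zero_symm hc
  · unfold indSub
    rw [hψψ']
    exact hind

end Cliff

end Cfsg.Agent.Lib.Helper76.Rel
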