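import Mathlib
import Cfsg.Agent.Lib.Helper76.RelChar
import Cfsg.Agent.Lib.Helper15.Gallagher

/-!
# Relative Gallagher correspondence over an extendible character
-/

set_option autoImplicit false
set_option linter.style.haveILetI false
set_option linter.unusedSectionVars false

namespace Cfsg.Agent.Lib.Helper76.Rel

open Subgroup Cfsg Cfsg.Agent.Lib.Helper3 Cfsg.Agent.Lib.Helper75 Cfsg.Agent.Lib.Helper25
open Cfsg.Agent.S4447 Cfsg.Agent.S4448 Cfsg.Agent.Lib.Helper15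
open scoped ComplexConjugate

universe u

/-- A character with irreducible restriction to a subgroup is irreducible. -/
theorem isIrr_of_res_irr {G : Type*} [Group G] [Fintype G] (N : Subgroup G) [Fintype N]
    {χ : G → ℂ} (hχ : IsCharacter G χ) (hχN : IsIrrCharacter N (fun n : N => χ n)) :
    IsIrrCharacter G χ := by
  apply isIrrCharacter_of_classInner_self_eq_one hχ
  obtain ⟨d, ρ, rfl⟩ := hχ
  have hirr := resRep_irreducible ρ N hχN
  have h : ∀ g : G, ∑ n : N, ρ.character ((n : G) * g) * conj (ρ.character ((n : G) * g))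
      = Nat.card N := by
    intro g
    rw [← coset_sum_rep ρ N hirr g]
    refine Finset.sum_congr rfl (fun n _ => ?_)
    rw [Cfsg.Agent.Lib.Helper3.character_inv ρ, mul_comm]
  have h1 := sum_coset_avg N (fun g => ρ.character g * conj (ρ.character g))
  simp only [h] at h1
  rw [Finset.sum_const, Finset.card_univ, nsmul_eq_mul] at h1
  have hN0 := card_ne_zero_complex N
  have h2 : ∑ g : G, ρ.character g * conj (ρ.character g) = (Fintype.card G : ℂ) := by
    apply mul_left_cancel₀ hN0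
    rw [← h1]; ring
  unfold classInner
  rw [h2, Nat.card_eq_fintype_card]
  have : (Fintype.card G : ℂ) ≠ 0 := by
    have : 0 < Fintype.card G := Fintype.card_pos
    exact_mod_cast this.ne'
  field_simp

variable {Γ : Type u} [Group Γ]

/-- `φ` is constant on the cosets of `Q` in `T`. -/
def QConst {Q T : Subgroup Γ} (hQT : Q ≤ T) (φ : T → ℂ) : Prop :=
  ∀ (q : Q) (t : T), φ (⟨q, hQT q.2⟩ * t) = φ t

theorem QConst.sub {Q T : Subgroup Γ} {hQT : Q ≤ T} {φ : T → ℂ} (h : QConst hQT φ)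
    (n : Q.subgroupOf T) (g : T) : φ ((n : T) * g) = φ g :=
  h ⟨(n : T), mem_subgroupOf.mp n.2⟩ g

theorem QConst.res {Q D T : Subgroup Γ} {hQT : Q ≤ T} {φ : T → ℂ} (h : QConst hQT φ)
    (hQD : Q ≤ D) (hDT : D ≤ T) : QConst hQD (fun d : D => φ ⟨d, hDT d.2⟩) := by
  intro q d
  exact h q ⟨d, hDT d.2⟩

section Ext

variable (Q T : Subgroup Γ) (θ : Q → ℂ) (θh : T → ℂ)

/-- `θh ∈ Irr(T)` extends `θ ∈ Irr(Q)`, `Q ⊴ T`. -/
structure ExtSetup : Prop where
  hQT : Q ≤ T
  hTQ : T ≤ normalizer (Q : Set Γ)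
  hθ : IsIrrCharacter Q θ
  hθh : IsIrrCharacter T θh
  hres : ∀ q : Q, θh ⟨q, hQT q.2⟩ = θ q

variable {Q T θ θh}

theorem ExtSetup.resN (E : ExtSetup Q T θ θh) :
    (fun n : Q.subgroupOf T => θh n) = resSub Q T θ := by
  funext n
  exact E.hres ⟨(n : T), mem_subgroupOf.mp n.2⟩

theorem ExtSetup.irrN (E : ExtSetup Q T θ θh) :
    IsIrrCharacter (Q.subgroupOf T) (fun n : Q.subgroupOf T => θh n) := by
  rw [E.resN]
  exact isIrrCharacter_resSub E.hQT E.hθ

variable [Fintype T] [Fintype Q]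

theorem ExtSetup.mul_irr (E : ExtSetup Q T θ θh) {φ : T → ℂ} (hφ : IsIrrCharacter T φ)
    (hc : QConst E.hQT φ) : IsIrrCharacter T (φ * θh) := by
  classical
  haveI : Fintype (Q.subgroupOf T) := Fintype.ofFinite _
  exact isIrrCharacter_mul_ext (Q.subgroupOf T) E.hθh E.irrN hφ hc.sub

theorem ExtSetup.mul_inj (E : ExtSetup Q T θ θh) {φ φ' : T → ℂ} (hφ : IsIrrCharacter T φ)
    (hc : QConst E.hQT φ) (hφ' : IsIrrCharacter T φ') (hc' : QConst E.hQT φ')
    (h : φ * θh = φ' * θh) : φ = φ' := by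
  classical
  haveI : Fintype (Q.subgroupOf T) := Fintype.ofFinite _
  exact mul_ext_injective (Q.subgroupOf T) E.hθh E.irrN hφ hc.sub hφ' hc'.sub h

theorem ExtSetup.inner_mul (E : ExtSetup Q T θ θh) {a b : T → ℂ}
    (ha : QConst E.hQT a) (hb : QConst E.hQT b) :
    classInner (a * θh) (b * θh) = classInner a b := by
  classical
  haveI : Fintype (Q.subgroupOf T) := Fintype.ofFinite _
  exact classInner_mul_ext (Q.subgroupOf T) E.hθh E.irrN a b ha.sub hb.sub

theorem ExtSetup.mul_res (E : ExtSetup Q T θ θh) {φ : T → ℂ} (hc : QConst E.hQT φ) :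
    (fun q : Q => (φ * θh) ⟨q, E.hQT q.2⟩) = φ 1 • θ := by
  funext q
  have h1 := hc q 1
  rw [mul_one] at h1
  simp only [Pi.mul_apply, Pi.smul_apply, smul_eq_mul, h1, E.hres]

theorem ExtSetup.mul_over (E : ExtSetup Q T θ θh) {φ : T → ℂ} (hφ : IsIrrCharacter T φ)
    (hc : QConst E.hQT φ) : classInner (fun q : Q => (φ * θh) ⟨q, E.hQT q.2⟩) θ ≠ 0 := by
  rw [E.mul_res hc, Cfsg.Agent.Lib.Helper3.classInner_smul_left, classInner_irr E.hθ E.hθ, if_pos rfl,
    mul_one]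
  exact Cfsg.Agent.Lib.Helper79.irr_one_ne_zero ⟨φ, hφ⟩

theorem ExtSetup.exists_mul (E : ExtSetup Q T θ θh) {ψ : T → ℂ} (hψ : IsIrrCharacter T ψ)
    (hov : classInner (fun q : Q => ψ ⟨q, E.hQT q.2⟩) θ ≠ 0) :
    ∃ φ : T → ℂ, IsIrrCharacter T φ ∧ QConst E.hQT φ ∧ ψ = φ * θh := by
  classical
  haveI : Fintype (Q.subgroupOf T) := Fintype.ofFinite _
  haveI hN : (Q.subgroupOf T).Normal :=
    Cfsg.Agent.Lib.Helper24.normal_subgroupOf_of_le_normalizer E.hTQ
  have hne : classInner (fun n : Q.subgroupOf T => ψ n) (fun n : Q.subgroupOf T => θh n) ≠ 0 := by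
    rw [E.resN, classInner_resSub E.hQT ψ θ]
    exact hov
  obtain ⟨φ, hφ, hφc, hψφ, -⟩ := exists_mul_ext (Q.subgroupOf T) E.hθh E.irrN hψ hne
  refine ⟨φ, hφ, ?_, hψφ⟩
  intro q t
  exact hφc ⟨⟨q, E.hQT q.2⟩, mem_subgroupOf.mpr q.2⟩ t

/-- restriction of the extension to an intermediate subgroup -/
theorem ExtSetup.restrict (E : ExtSetup Q T θ θh) {D : Subgroup Γ} [Fintype D] (hQD : Q ≤ D)
    (hDT : D ≤ T) : ExtSetup Q D θ (fun d : D => θh ⟨d, hDT d.2⟩) := by
  classical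
  haveI : Fintype (Q.subgroupOf D) := Fintype.ofFinite _
  refine ⟨hQD, hDT.trans E.hTQ, E.hθ, ?_, fun q => E.hres q⟩
  apply isIrr_of_res_irr (Q.subgroupOf D)
    (isCharacter_res hDT (IsIrrCharacter.isCharacter E.hθh))
  have : (fun n : Q.subgroupOf D => (fun d : D => θh ⟨d, hDT d.2⟩) n) = resSub Q D θ := by
    funext n
    exact E.hres ⟨(n : D), mem_subgroupOf.mp n.2⟩
  rw [this]
  exact isIrrCharacter_resSub hQD E.hθ

end Ext

end Cfsg.Agent.Lib.Helper76.Rel
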