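import Mathlib
import Cfsg.Agent.Lib.Helper76.RelGal
import Cfsg.Agent.Lib.Helper15.DetChar
import Cfsg.Agent.Lib.Helper3.OddOrder
import Cfsg.Agent.S0867

/-!
# Invariant extensions over a normal Sylow subgroup
-/

set_option autoImplicit false
set_option linter.style.haveILetI false
set_option linter.unusedSectionVars false

namespace Cfsg.Agent.Lib.Helper76.Rel

open Subgroup Cfsg Cfsg.Agent.Lib.Helper3 Cfsg.Agent.Lib.Helper75 Cfsg.Agent.Lib.Helper25
open Cfsg.Agent.S4447 Cfsg.Agent.S4448 Cfsg.Agent.Lib.Helper15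
open scoped ComplexConjugate

universe u

variable {Γ : Type u} [Group Γ] [Finite Γ]

theorem detOrder_comp_equiv {A : Type u} [Group A] [Finite A] (e : A ≃* A) {χ : A → ℂ}
    (hχ : IsCharacter A χ) : detOrder (fun a => χ (e a)) = detOrder χ := by
  unfold detOrder
  have h1 : detChar (fun a => χ (e a)) = fun a => detChar χ (e a) := by
    funext a
    exact detChar_comp hχ e.toMonoidHom a
  rw [h1, orderOf_eq_orderOf_iff]
  intro n
  constructor
  · intro h
    funext a
    have := congrFun h (e.symm a)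
    simpa using this
  · intro h
    funext a
    have := congrFun h (e a)
    simpa using this

theorem detOrder_dvd_card {A : Type u} [Group A] [Finite A] (θ : A → ℂ) :
    detOrder θ ∣ Nat.card A := by
  unfold detOrder
  apply orderOf_dvd_of_pow_eq_one
  funext k
  have hlin := detChar_isLinear θ
  have h1 : ((detChar θ) ^ Nat.card A) k = (detChar θ) k ^ Nat.card A := by simp
  rw [h1, ← linCharHom_apply hlin, ← map_pow, pow_card_eq_one', map_one]
  rfl

/-- An invariant irreducible character of a normal Sylow `p`-subgroup `Q` of `T` has an extension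
to `T` which is invariant under everything that normalises `T`, `Q` and fixes `θ`. -/
theorem exists_inv_ext (p : ℕ) [hp : Fact p.Prime] {Q T : Subgroup Γ} (hQT : Q ≤ T)
    (hTQ : T ≤ normalizer (Q : Set Γ)) (hQp : ∃ a : ℕ, Nat.card Q = p ^ a)
    (hidx : ¬ p ∣ Q.relIndex T) {θ : Q → ℂ} (hθ : IsIrrCharacter Q θ)
    (hinv : ∀ t ∈ T, act Q t θ = θ) :
    ∃ θh : T → ℂ, ExtSetup Q T θ θh ∧ ∀ x : Γ, x ∈ normalizer (T : Set Γ) →
      x ∈ normalizer (Q : Set Γ) → act Q x θ = θ → act T x θh = θh := by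
  classical
  haveI hN : (Q.subgroupOf T).Normal :=
    Cfsg.Agent.Lib.Helper24.normal_subgroupOf_of_le_normalizer hTQ
  haveI : Fintype (Q.subgroupOf T) := Fintype.ofFinite _
  have hϑ := isIrrCharacter_resSub hQT hθ
  have hinv' : ∀ (g : T) (n : Q.subgroupOf T),
      resSub Q T θ ⟨g * n * g⁻¹, hN.conj_mem (n : T) n.2 g⟩ = resSub Q T θ n := by
    intro g n
    have h1 := congrFun (hinv g g.2) ⟨(n : T), mem_subgroupOf.mp n.2⟩
    rw [act_apply Q (hTQ g.2)] at h1
    exact h1
  obtain ⟨d, hd, hdvd, -⟩ := IsIrrCharacter.apply_one_dvd_card hϑ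
  have hcardN : Nat.card (Q.subgroupOf T) = Nat.card Q :=
    Nat.card_congr (subgroupOfEquivOfLe hQT).toEquiv
  obtain ⟨a, ha⟩ := hQp
  have hcopI : (Nat.card (Q.subgroupOf T)).Coprime (Q.subgroupOf T).index := by
    rw [hcardN, ha]
    apply Nat.Coprime.pow_left
    exact (Nat.Prime.coprime_iff_not_dvd hp.out).2 hidx
  have hordN := detOrder_dvd_card (resSub Q T θ)
  have hcop2 : Nat.Coprime (Q.subgroupOf T).index (detOrder (resSub Q T θ) * d) := by
    apply Nat.Coprime.mul_right
    · exact (Nat.Coprime.coprime_dvd_left hordN hcopI).symm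
    · exact (Nat.Coprime.coprime_dvd_left hdvd hcopI).symm
  obtain ⟨χ₀, ⟨hirr, hres, hdet⟩, huniq⟩ :=
    Cfsg.Agent.S0867.result (Q.subgroupOf T) (resSub Q T θ) hϑ hinv' d hd hcop2
  have hdetcop : Nat.Coprime (Q.subgroupOf T).index (detOrder χ₀) := by
    rw [hdet]
    exact (Nat.Coprime.coprime_dvd_left hordN hcopI).symm
  refine ⟨χ₀, ⟨hQT, hTQ, hθ, hirr, ?_⟩, ?_⟩
  · intro q
    exact hres ⟨⟨q, hQT q.2⟩, mem_subgroupOf.mpr q.2⟩
  · intro x hxT hxQ hxθ
    apply huniq _ (act_isIrr T hxT hirr)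
    · intro n
      rw [act_apply T hxT]
      have hmem : cEquiv T x hxT (n : T) ∈ Q.subgroupOf T := by
        rw [mem_subgroupOf, cEquiv_coe]
        exact (mem_normalizer_iff.mp hxQ _).mp (mem_subgroupOf.mp n.2)
      have h1 := hres ⟨cEquiv T x hxT (n : T), hmem⟩
      rw [h1]
      have h2 := congrFun hxθ ⟨(n : T), mem_subgroupOf.mp n.2⟩
      rw [act_apply Q hxQ] at h2
      exact h2
    · rw [act_eq_comp T hxT, detOrder_comp_equiv (cEquiv T x hxT) (IsIrrCharacter.isCharacter hirr)]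
      exact hdetcop

end Cfsg.Agent.Lib.Helper76.Rel
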