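import Mathlib
import Cfsg.Agent.Lib.Helper76.RelGal

/-!
# Multiplicities of induced characters under the Clifford correspondence
-/

set_option autoImplicit false
set_option linter.style.haveILetI false
set_option linter.unusedSectionVars false

namespace Cfsg.Agent.Lib.Helper76.Rel

open Subgroup Cfsg Cfsg.Agent.Lib.Helper3 Cfsg.Agent.Lib.Helper75 Cfsg.Agent.Lib.Helper25
open Cfsg.Agent.S4447 Cfsg.Agent.S4448 Cfsg.Agent.Lib.Helper15
open scoped ComplexConjugate

universe u

variable {Γ : Type u} [Group Γ]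

section Mult

variable {K C Q T D : Subgroup Γ} {θ : Q → ℂ} [Fintype K] [Fintype C] [Fintype Q] [Fintype T]
  [Fintype D]

/-- For `ψ, ψ' ∈ Irr(T | θ)`: `[(ψ^K)_T, ψ'] = [ψ, ψ']`. -/
theorem CliffSetup.res_ind_inner (S : CliffSetup K Q T θ) {ψ ψ' : T → ℂ}
    (hψ : IsIrrCharacter T ψ) (hψ' : IsIrrCharacter T ψ')
    (hov : classInner (fun q : Q => ψ ⟨q, S.hQT q.2⟩) θ ≠ 0)
    (hov' : classInner (fun q : Q => ψ' ⟨q, S.hQT q.2⟩) θ ≠ 0) :
    classInner (fun t : T => indSub S.hTK ψ ⟨t, S.hTK t.2⟩) ψ' = classInner ψ ψ' := by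
  have h1 := S.ind_irr_inj hψ hψ' hov hov'
  have h2 := S.ind_irr hψ' hov'
  rw [← frob S.hTK ψ' (indSub S.hTK ψ)
    (IsCharacter.isClassFunction (IsIrrCharacter.isCharacter h1.1)),
    classInner_irr h1.1 h2, classInner_irr hψ hψ']
  by_cases h : ψ = ψ'
  · subst h
    simp
  · rw [if_neg h, if_neg (fun h' => h (h1.2 h'))]

/-- The basic multiplicity formula: `[(ψ^K)_C, η^C] = [ψ_D, η]`. -/
theorem mult_eq (SK : CliffSetup K Q T θ) (SC : CliffSetup C Q D θ) (hCK : C ≤ K) (hDT : D ≤ T)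
    {ψ : T → ℂ} (hψ : IsIrrCharacter T ψ)
    (hov : classInner (fun q : Q => ψ ⟨q, SK.hQT q.2⟩) θ ≠ 0)
    {η : D → ℂ} (hη : IsIrrCharacter D η)
    (hovη : classInner (fun q : Q => η ⟨q, SC.hQT q.2⟩) θ ≠ 0) :
    classInner (fun c : C => indSub SK.hTK ψ ⟨c, hCK c.2⟩) (indSub SC.hTK η)
      = classInner (fun d : D => ψ ⟨d, hDT d.2⟩) η := by
  classical
  haveI : Fintype (IrrCharacter T) := Fintype.ofFinite _
  have hχ := SK.ind_irr hψ hov
  have hχc := IsIrrCharacter.isCharacter hχ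
  have hχcf := IsCharacter.isClassFunction hχc
  -- step 1
  have hcfC : IsClassFunction C (fun c : C => indSub SK.hTK ψ ⟨c, hCK c.2⟩) :=
    IsCharacter.isClassFunction (isCharacter_res hCK hχc)
  rw [frob SC.hTK η _ hcfC]
  -- step 2
  have hcfT : IsClassFunction T (fun t : T => indSub SK.hTK ψ ⟨t, SK.hTK t.2⟩) :=
    IsCharacter.isClassFunction (isCharacter_res SK.hTK hχc)
  have h2 := frob hDT η _ hcfT
  have h3 := frob hDT η ψ (IsCharacter.isClassFunction (IsIrrCharacter.isCharacter hψ))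
  have hα : IsCharacter T (indSub hDT η) := isCharacter_indSub hDT (IsIrrCharacter.isCharacter hη)
  obtain ⟨m, hm, hsum⟩ := IsCharacter.exists_mult hα
  have key : classInner (fun t : T => indSub SK.hTK ψ ⟨t, SK.hTK t.2⟩) (indSub hDT η)
      = classInner ψ (indSub hDT η) := by
    rw [hsum, Cfsg.Agent.Lib.Helper3.classInner_sum_right,
      Cfsg.Agent.Lib.Helper3.classInner_sum_right]
    refine Finset.sum_congr rfl (fun ψ' _ => ?_)
    rw [Cfsg.Agent.Lib.Helper3.classInner_smul_right, Cfsg.Agent.Lib.Helper3.classInner_smul_right]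
    by_cases h0 : m ψ' = 0
    · rw [h0]; simp
    · congr 1
      apply SK.res_ind_inner hψ ψ'.2 hov
      -- ψ' lies over θ
      have h4 : classInner (indSub hDT η) (ψ' : T → ℂ) ≠ 0 := by
        rw [hm ψ']
        exact_mod_cast h0
      rw [frob' hDT η _ (IsCharacter.isClassFunction (IsIrrCharacter.isCharacter ψ'.2))] at h4
      have h5 := classInner_ne_zero_symm h4
      exact const_trans SC.hQT hDT (IsIrrCharacter.isCharacter ψ'.2) hη SK.hθ h5 hovη
  rw [h2] at key
  rw [h3] at key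
  exact key

end Mult

end Cfsg.Agent.Lib.Helper76.Rel
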