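import Mathlib
import Cfsg.Agent.Lib.Helper76.RelGal
import Cfsg.Agent.Lib.Helper79.Basic
import Cfsg.Agent.Lib.Helper79.RelM2

/-!
# The quotient `N(Q)/Q` and images of subgroups in it
-/

set_option autoImplicit false
set_option linter.style.haveILetI false
set_option linter.unusedSectionVars false

namespace Cfsg.Agent.Lib.Helper76.Rel

open Subgroup Cfsg Cfsg.Agent.Lib.Helper3 Cfsg.Agent.Lib.Helper75 Cfsg.Agent.Lib.Helper25
open scoped ComplexConjugate

universe u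

/-- Deflation along a surjective homomorphism. -/
theorem deflate_surj {A B : Type u} [Group A] [Group B] [Finite A] (f : A →* B)
    (hf : Function.Surjective f) {φ : A → ℂ} (hφ : IsIrrCharacter A φ)
    (hker : ∀ a ∈ f.ker, φ a = φ 1) :
    ∃ β : B → ℂ, IsIrrCharacter B β ∧ ∀ a, β (f a) = φ a := by
  obtain ⟨ψ, hψ, hψe⟩ := Cfsg.Agent.Lib.Helper79.isIrrCharacter_deflate hφ f.ker hker
  let e := QuotientGroup.quotientKerEquivOfSurjective f hf
  refine ⟨fun b => ψ (e.symm b), ?_, ?_⟩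
  · exact Cfsg.Agent.Lib.Helper79.isIrrCharacter_comp_surjective hψ e.symm.toMonoidHom
      e.symm.surjective
  · intro a
    have h1 : e.symm (f a) = (a : A ⧸ f.ker) := by
      rw [MulEquiv.symm_apply_eq]
      rfl
    show ψ (e.symm (f a)) = φ a
    rw [h1, hψe]

section Quot

variable {Γ : Type u} [Group Γ] (Q : Subgroup Γ)

/-- The group `N(Q)/Q`. -/
abbrev Qbar : Type u :=
  ↥(normalizer (Q : Set Γ)) ⧸ Q.subgroupOf (normalizer (Q : Set Γ))

/-- the image of an element of `N(Q)` in `N(Q)/Q` -/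
def pq (g : Γ) (hg : g ∈ normalizer (Q : Set Γ)) : Qbar Q :=
  QuotientGroup.mk' (Q.subgroupOf (normalizer (Q : Set Γ))) ⟨g, hg⟩

theorem pq_mul {g h : Γ} (hg : g ∈ normalizer (Q : Set Γ)) (hh : h ∈ normalizer (Q : Set Γ)) :
    pq Q (g * h) (mul_mem hg hh) = pq Q g hg * pq Q h hh := by
  unfold pq
  rw [← map_mul]
  rfl

theorem pq_inv {g : Γ} (hg : g ∈ normalizer (Q : Set Γ)) :
    pq Q g⁻¹ (inv_mem hg) = (pq Q g hg)⁻¹ := by
  unfold pq
  rw [← map_inv]
  rfl

theorem pq_eq_one_iff {g : Γ} (hg : g ∈ normalizer (Q : Set Γ)) : pq Q g hg = 1 ↔ g ∈ Q := by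
  unfold pq
  rw [QuotientGroup.mk'_apply, QuotientGroup.eq_one_iff, mem_subgroupOf]

theorem pq_congr {g h : Γ} (hg : g ∈ normalizer (Q : Set Γ)) (e : g = h) :
    pq Q g hg = pq Q h (e ▸ hg) := by
  subst e; rfl

theorem pq_surj (x : Qbar Q) : ∃ (g : Γ) (hg : g ∈ normalizer (Q : Set Γ)), pq Q g hg = x := by
  obtain ⟨⟨g, hg⟩, rfl⟩ := QuotientGroup.mk'_surjective _ x
  exact ⟨g, hg, rfl⟩

/-- projection of a subgroup `A ≤ N(Q)` to `N(Q)/Q` -/
def proj {A : Subgroup Γ} (hA : A ≤ normalizer (Q : Set Γ)) : A →* Qbar Q :=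
  (QuotientGroup.mk' (Q.subgroupOf (normalizer (Q : Set Γ)))).comp (Subgroup.inclusion hA)

theorem proj_apply {A : Subgroup Γ} (hA : A ≤ normalizer (Q : Set Γ)) (a : A) :
    proj Q hA a = pq Q a (hA a.2) := rfl

/-- the image of `A` in `N(Q)/Q` -/
def img {A : Subgroup Γ} (hA : A ≤ normalizer (Q : Set Γ)) : Subgroup (Qbar Q) :=
  (proj Q hA).range

theorem mem_img {A : Subgroup Γ} (hA : A ≤ normalizer (Q : Set Γ)) (x : Qbar Q) :
    x ∈ img Q hA ↔ ∃ a : Γ, ∃ ha : a ∈ A, pq Q a (hA ha) = x := by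
  unfold img
  rw [MonoidHom.mem_range]
  constructor
  · rintro ⟨a, rfl⟩
    exact ⟨a, a.2, rfl⟩
  · rintro ⟨a, ha, rfl⟩
    exact ⟨⟨a, ha⟩, rfl⟩

/-- the surjection `A → img A` -/
def projR {A : Subgroup Γ} (hA : A ≤ normalizer (Q : Set Γ)) : A →* img Q hA :=
  (proj Q hA).rangeRestrict

theorem projR_surjective {A : Subgroup Γ} (hA : A ≤ normalizer (Q : Set Γ)) :
    Function.Surjective (projR Q hA) := MonoidHom.rangeRestrict_surjective _

theorem projR_coe {A : Subgroup Γ} (hA : A ≤ normalizer (Q : Set Γ)) (a : A) :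
    ((projR Q hA a : img Q hA) : Qbar Q) = pq Q a (hA a.2) := rfl

theorem projR_ker {A : Subgroup Γ} (hA : A ≤ normalizer (Q : Set Γ)) :
    (projR Q hA).ker = Q.subgroupOf A := by
  ext a
  rw [MonoidHom.mem_ker, mem_subgroupOf, ← pq_eq_one_iff Q (hA a.2), ← projR_coe]
  exact (OneMemClass.coe_eq_one).symm

theorem projR_eq_one_iff {A : Subgroup Γ} (hA : A ≤ normalizer (Q : Set Γ)) (a : A) :
    projR Q hA a = 1 ↔ (a : Γ) ∈ Q := by
  rw [← MonoidHom.mem_ker, projR_ker, mem_subgroupOf]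

theorem card_img [Finite Γ] {A : Subgroup Γ} (hA : A ≤ normalizer (Q : Set Γ)) :
    Nat.card (img Q hA) = Q.relIndex A := by
  have e := QuotientGroup.quotientKerEquivOfSurjective (projR Q hA) (projR_surjective Q hA)
  rw [← Nat.card_congr e.toEquiv, ← Subgroup.index_eq_card, projR_ker]
  rfl

theorem isPGroup_img {p : ℕ} {A : Subgroup Γ} (hA : A ≤ normalizer (Q : Set Γ))
    (h : IsPGroup p A) : IsPGroup p (img Q hA) :=
  h.of_surjective (projR Q hA) (projR_surjective Q hA)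

theorem img_mono {A B : Subgroup Γ} (hB : B ≤ normalizer (Q : Set Γ)) (hAB : A ≤ B) :
    img Q (hAB.trans hB) ≤ img Q hB := by
  intro x hx
  rw [mem_img] at hx ⊢
  obtain ⟨a, ha, rfl⟩ := hx
  exact ⟨a, hAB ha, rfl⟩

end Quot

end Cfsg.Agent.Lib.Helper76.Rel
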