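import Mathlib
import Cfsg.Agent.Lib.Helper76.RelQuot
import Cfsg.Agent.Lib.Helper15.GlaubInd

/-!
# The Glauberman correspondence for a `p`-group acting on `T/Q`, pulled back to `T`
-/

set_option autoImplicit false
set_option linter.style.haveILetI false
set_option linter.unusedSectionVars false

namespace Cfsg.Agent.Lib.Helper76.Rel

open Subgroup Cfsg Cfsg.Agent.Lib.Helper3 Cfsg.Agent.Lib.Helper75 Cfsg.Agent.Lib.Helper25
open Cfsg.Agent.S4447 Cfsg.Agent.S4448 Cfsg.Agent.Lib.Helper15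
open scoped ComplexConjugate

universe u

variable {Γ : Type u} [Group Γ]

/-- The setting: `Q` a normal Sylow `p`-subgroup of `T`, `P` a `p`-group normalising `T` and `Q`,
and `D/Q` the fixed points of `P` on `T/Q`. -/
structure GSetup (p : ℕ) (Q T P D : Subgroup Γ) : Prop where
  hQT : Q ≤ T
  hTQ : T ≤ normalizer (Q : Set Γ)
  hPQ : P ≤ normalizer (Q : Set Γ)
  hPT : P ≤ normalizer (T : Set Γ)
  hP : IsPGroup p P
  hidx : ¬ p ∣ Q.relIndex T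
  hD : ∀ d : Γ, d ∈ D ↔ d ∈ T ∧ ∀ x ∈ P, x * d * x⁻¹ * d⁻¹ ∈ Q

section Basic

variable {p : ℕ} {Q T P D : Subgroup Γ}

theorem GSetup.hDT (G : GSetup p Q T P D) : D ≤ T := fun d hd => ((G.hD d).1 hd).1

theorem GSetup.hQD (G : GSetup p Q T P D) : Q ≤ D := by
  intro q hq
  rw [G.hD]
  refine ⟨G.hQT hq, fun x hx => ?_⟩
  exact Q.mul_mem ((mem_normalizer_iff.mp (G.hPQ hx) q).mp hq) (Q.inv_mem hq)

theorem GSetup.hDQ (G : GSetup p Q T P D) : D ≤ normalizer (Q : Set Γ) := G.hDT.trans G.hTQ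

theorem GSetup.conj_mem (G : GSetup p Q T P D) {x t : Γ} (hx : x ∈ P) (ht : t ∈ T) :
    x * t * x⁻¹ ∈ T := (mem_normalizer_iff.mp (G.hPT hx) t).mp ht

theorem comm_of_comm_eq_one {M : Type*} [Group M] {a b : M} (h : a * b * a⁻¹ * b⁻¹ = 1) :
    a * b = b * a := by
  have : a * b = (a * b * a⁻¹ * b⁻¹) * (b * a) := by group
  rw [this, h, one_mul]

theorem comm_eq_one_of_comm {M : Type*} [Group M] {a b : M} (h : a * b = b * a) :
    a * b * a⁻¹ * b⁻¹ = 1 := by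
  rw [h]; group

theorem pq_comm (Q : Subgroup Γ) {x d : Γ} (hx : x ∈ normalizer (Q : Set Γ))
    (hd : d ∈ normalizer (Q : Set Γ)) :
    pq Q x hx * pq Q d hd * (pq Q x hx)⁻¹ * (pq Q d hd)⁻¹ =
      pq Q (x * d * x⁻¹ * d⁻¹) (mul_mem (mul_mem (mul_mem hx hd) (inv_mem hx)) (inv_mem hd)) := by
  rw [pq_mul Q (mul_mem (mul_mem hx hd) (inv_mem hx)) (inv_mem hd),
    pq_mul Q (mul_mem hx hd) (inv_mem hx), pq_mul Q hx hd, pq_inv, pq_inv]

theorem pq_conj (Q : Subgroup Γ) {x t : Γ} (hx : x ∈ normalizer (Q : Set Γ))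
    (ht : t ∈ normalizer (Q : Set Γ)) (h : x * t * x⁻¹ ∈ normalizer (Q : Set Γ)) :
    pq Q (x * t * x⁻¹) h = pq Q x hx * pq Q t ht * (pq Q x hx)⁻¹ := by
  rw [pq_mul Q (mul_mem hx ht) (inv_mem hx), pq_mul Q hx ht, pq_inv]

theorem GSetup.img_D (G : GSetup p Q T P D) :
    img Q G.hDQ = img Q G.hTQ ⊓ centralizer (img Q G.hPQ : Set (Qbar Q)) := by
  ext x
  rw [mem_inf, mem_centralizer_iff]
  constructor
  · intro hx
    refine ⟨img_mono Q G.hTQ G.hDT hx, ?_⟩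
    rw [mem_img] at hx
    obtain ⟨d, hd, rfl⟩ := hx
    intro y hy
    rw [SetLike.mem_coe, mem_img] at hy
    obtain ⟨s, hs, rfl⟩ := hy
    apply comm_of_comm_eq_one
    rw [pq_comm Q (G.hPQ hs) (G.hDQ hd), pq_eq_one_iff]
    exact ((G.hD d).1 hd).2 s hs
  · rintro ⟨hxT, hxc⟩
    rw [mem_img] at hxT ⊢
    obtain ⟨t, ht, rfl⟩ := hxT
    have htD : t ∈ D := by
      rw [G.hD]
      refine ⟨ht, fun s hs => ?_⟩
      have h1 := hxc (pq Q s (G.hPQ hs)) (by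
        rw [SetLike.mem_coe, mem_img]
        exact ⟨s, hs, rfl⟩)
      have h2 := comm_eq_one_of_comm h1
      rw [pq_comm Q (G.hPQ hs) (G.hTQ ht), pq_eq_one_iff] at h2
      exact h2
    exact ⟨t, htD, rfl⟩

end Basic

section Infl

variable {Q : Subgroup Γ}

/-- inflation from `img A` to `A` -/
def infl {A : Subgroup Γ} (hA : A ≤ normalizer (Q : Set Γ)) (β : img Q hA → ℂ) : A → ℂ :=
  fun a => β (projR Q hA a)

theorem infl_irr {A : Subgroup Γ} (hA : A ≤ normalizer (Q : Set Γ)) {β : img Q hA → ℂ}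
    (hβ : IsIrrCharacter (img Q hA) β) : IsIrrCharacter A (infl hA β) :=
  Cfsg.Agent.Lib.Helper79.isIrrCharacter_comp_surjective hβ (projR Q hA) (projR_surjective Q hA)

theorem infl_qconst {A : Subgroup Γ} (hQA : Q ≤ A) (hA : A ≤ normalizer (Q : Set Γ))
    (β : img Q hA → ℂ) : QConst hQA (infl hA β) := by
  intro q a
  unfold infl
  rw [map_mul, (projR_eq_one_iff Q hA ⟨q, hQA q.2⟩).2 q.2, one_mul]

theorem infl_inj {A : Subgroup Γ} (hA : A ≤ normalizer (Q : Set Γ)) {β β' : img Q hA → ℂ}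
    (h : infl hA β = infl hA β') : β = β' := by
  funext x
  obtain ⟨a, rfl⟩ := projR_surjective Q hA x
  exact congrFun h a

theorem exists_infl [Finite Γ] {A : Subgroup Γ} (hQA : Q ≤ A) (hA : A ≤ normalizer (Q : Set Γ))
    {φ : A → ℂ} (hφ : IsIrrCharacter A φ) (hc : QConst hQA φ) :
    ∃ β : img Q hA → ℂ, IsIrrCharacter (img Q hA) β ∧ infl hA β = φ := by
  obtain ⟨β, hβ, hβe⟩ := deflate_surj (projR Q hA) (projR_surjective Q hA) hφ (by
    intro a ha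
    rw [MonoidHom.mem_ker, projR_eq_one_iff] at ha
    have := hc ⟨a, ha⟩ 1
    rw [mul_one] at this
    exact this)
  exact ⟨β, hβ, funext hβe⟩

theorem inner_infl {A B : Subgroup Γ} (hB : B ≤ normalizer (Q : Set Γ)) (hAB : A ≤ B)
    [Fintype A] [Fintype (img Q (hAB.trans hB))] (β : img Q hB → ℂ)
    (γ : img Q (hAB.trans hB) → ℂ) :
    classInner (fun a : A => infl hB β ⟨a, hAB a.2⟩) (infl (hAB.trans hB) γ) =
      classInner (fun c : img Q (hAB.trans hB) => β (Subgroup.inclusion (img_mono Q hB hAB) c))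
        γ := by
  rw [← Cfsg.Agent.Lib.Helper79.classInner_comp_surjective (projR Q (hAB.trans hB))
    (projR_surjective Q (hAB.trans hB))]
  rfl

end Infl

section Main

variable [Finite Γ] {p : ℕ} [hp : Fact p.Prime] {Q T P D : Subgroup Γ}

theorem GSetup.invChar_iff (G : GSetup p Q T P D) (β : img Q G.hTQ → ℂ) :
    InvChar (img Q G.hPQ) (img Q G.hTQ) β ↔ ∀ x ∈ P, act T x (infl G.hTQ β) = infl G.hTQ β := by
  constructor
  · intro h x hx
    funext t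
    rw [act_apply T (G.hPT hx)]
    apply h (pq Q x (G.hPQ hx)) ((mem_img Q G.hPQ _).2 ⟨x, hx, rfl⟩)
    rw [projR_coe, projR_coe]
    exact pq_conj Q (G.hPQ hx) (G.hTQ t.2) _
  · intro h s hs g g' hgg'
    rw [mem_img] at hs
    obtain ⟨x, hx, rfl⟩ := hs
    obtain ⟨t, rfl⟩ := projR_surjective Q G.hTQ g
    have e : g' = projR Q G.hTQ (cEquiv T x (G.hPT hx) t) := by
      apply Subtype.ext
      rw [hgg', projR_coe, projR_coe]
      exact (pq_conj Q (G.hPQ hx) (G.hTQ t.2) _).symm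
    rw [e]
    have h1 := congrFun (h x hx) t
    rw [act_apply T (G.hPT hx)] at h1
    exact h1

/-- The Glauberman correspondence between the `P`-invariant irreducible characters of `T/Q` and
the irreducible characters of `D/Q`, in terms of characters of `T` and `D` constant on cosets of
`Q`. -/
structure QGlaub (p : ℕ) {Q T D : Subgroup Γ} (P : Subgroup Γ) (hQT : Q ≤ T) (hQD : Q ≤ D)
    (hDT : D ≤ T) [Fintype D] : Prop where
  ex : ∀ φ : T → ℂ, IsIrrCharacter T φ → QConst hQT φ → (∀ x ∈ P, act T x φ = φ) →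
    ∃ (γ₀ : D → ℂ) (ε : ℤ), IsIrrCharacter D γ₀ ∧ QConst hQD γ₀ ∧ (ε = 1 ∨ ε = -1) ∧
      ∀ γ : D → ℂ, IsIrrCharacter D γ → QConst hQD γ → ∃ m : ℕ,
        classInner (fun d : D => φ ⟨d, hDT d.2⟩) γ = (m : ℂ) ∧
        (γ = γ₀ → (m : ℤ) ≡ ε [ZMOD p]) ∧ (γ ≠ γ₀ → p ∣ m)
  inj : ∀ φ φ' : T → ℂ, IsIrrCharacter T φ → QConst hQT φ → (∀ x ∈ P, act T x φ = φ) →
    IsIrrCharacter T φ' → QConst hQT φ' → (∀ x ∈ P, act T x φ' = φ') →
    ∀ γ : D → ℂ, IsIrrCharacter D γ → QConst hQD γ → ∀ m m' : ℕ,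
      classInner (fun d : D => φ ⟨d, hDT d.2⟩) γ = (m : ℂ) → ¬ p ∣ m →
      classInner (fun d : D => φ' ⟨d, hDT d.2⟩) γ = (m' : ℂ) → ¬ p ∣ m' → φ = φ'
  surj : ∀ γ : D → ℂ, IsIrrCharacter D γ → QConst hQD γ →
    ∃ φ : T → ℂ, IsIrrCharacter T φ ∧ QConst hQT φ ∧ (∀ x ∈ P, act T x φ = φ) ∧
      ∃ m : ℕ, classInner (fun d : D => φ ⟨d, hDT d.2⟩) γ = (m : ℂ) ∧ ¬ p ∣ m

theorem GSetup.qglaub (G : GSetup p Q T P D) [Fintype D] : QGlaub p P G.hQT G.hQD G.hDT := by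
  classical
  haveI : Fintype (Qbar Q) := Fintype.ofFinite _
  haveI : Fintype (img Q G.hDQ) := Fintype.ofFinite _
  have hle : img Q G.hDQ ≤ img Q G.hTQ := img_mono Q G.hTQ G.hDT
  have hnorm : ∀ s ∈ img Q G.hPQ, ∀ g ∈ img Q G.hTQ, s * g * s⁻¹ ∈ img Q G.hTQ := by
    intro s hs g hg
    rw [mem_img] at hs hg ⊢
    obtain ⟨x, hx, rfl⟩ := hs
    obtain ⟨t, ht, rfl⟩ := hg
    exact ⟨x * t * x⁻¹, G.conj_mem hx ht, pq_conj Q (G.hPQ hx) (G.hTQ ht) _⟩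
  have hPp := isPGroup_img Q G.hPQ G.hP
  have hcop : (Nat.card (img Q G.hTQ)).Coprime (Nat.card (img Q G.hPQ)) := by
    obtain ⟨k, hk⟩ := hPp.exists_card_eq
    rw [hk, card_img]
    apply Nat.Coprime.pow_right
    exact ((Nat.Prime.coprime_iff_not_dvd hp.out).2 G.hidx).symm
  have D₀ := glaubData_pgroup p (Nat.card (img Q G.hPQ)) (img Q G.hPQ) rfl hPp (img Q G.hTQ)
    hnorm hcop (img Q G.hDQ) G.img_D hle
  have hinner : ∀ (β : img Q G.hTQ → ℂ) (γ : img Q G.hDQ → ℂ),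
      classInner (fun d : D => infl G.hTQ β ⟨d, G.hDT d.2⟩) (infl G.hDQ γ) =
      classInner (fun c : img Q G.hDQ => β (Subgroup.inclusion hle c)) γ := fun β γ =>
    inner_infl G.hTQ G.hDT β γ
  constructor
  · intro φ hφ hc hinv
    obtain ⟨β, hβ, rfl⟩ := exists_infl G.hQT G.hTQ hφ hc
    obtain ⟨β₀, ε, hε, h⟩ := D₀.ex ⟨β, hβ⟩ ((G.invChar_iff β).2 hinv)
    refine ⟨infl G.hDQ β₀, ε, infl_irr G.hDQ β₀.2, infl_qconst G.hQD G.hDQ _, hε, ?_⟩
    intro γ hγ hγc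
    obtain ⟨γ', hγ', rfl⟩ := exists_infl G.hQD G.hDQ hγ hγc
    obtain ⟨m, hm, h1, h2⟩ := h ⟨γ', hγ'⟩
    refine ⟨m, by rw [hinner]; exact hm, ?_, ?_⟩
    · intro heq
      exact h1 (Subtype.ext (infl_inj G.hDQ heq))
    · intro hne
      apply h2
      intro heq
      apply hne
      rw [← heq]
  · intro φ φ' hφ hc hinv hφ' hc' hinv' γ hγ hγc m m' hm hpm hm' hpm'
    obtain ⟨β, hβ, rfl⟩ := exists_infl G.hQT G.hTQ hφ hc
    obtain ⟨β', hβ', rfl⟩ := exists_infl G.hQT G.hTQ hφ' hc'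
    obtain ⟨γ', hγ', rfl⟩ := exists_infl G.hQD G.hDQ hγ hγc
    rw [hinner] at hm hm'
    have := D₀.inj ⟨β, hβ⟩ ⟨β', hβ'⟩ ((G.invChar_iff β).2 hinv) ((G.invChar_iff β').2 hinv')
      ⟨γ', hγ'⟩ m m' hm hpm hm' hpm'
    rw [Subtype.mk.injEq] at this
    rw [this]
  · intro γ hγ hγc
    obtain ⟨γ', hγ', rfl⟩ := exists_infl G.hQD G.hDQ hγ hγc
    obtain ⟨β, hβinv, m, hm, hpm⟩ := D₀.surj ⟨γ', hγ'⟩
    refine ⟨infl G.hTQ β, infl_irr G.hTQ β.2, infl_qconst G.hQT G.hTQ _,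
      (G.invChar_iff β).1 hβinv, m, ?_, hpm⟩
    rw [hinner]
    exact hm

end Main

end Cfsg.Agent.Lib.Helper76.Rel
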