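import Mathlib
import Cfsg.Agent.Lib.Helper76.RelGlaub
import Cfsg.Agent.S4911

/-!
# Invariant constituents over a normal Sylow subgroup, and their conjugacy
-/

set_option autoImplicit false
set_option linter.style.haveILetI false
set_option linter.unusedSectionVars false

namespace Cfsg.Agent.Lib.Helper76.Rel

open Subgroup Cfsg Cfsg.Agent.Lib.Helper3 Cfsg.Agent.Lib.Helper75 Cfsg.Agent.Lib.Helper25
open Cfsg.Agent.S4447 Cfsg.Agent.S4448 Cfsg.Agent.Lib.Helper15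
open scoped ComplexConjugate

universe u

variable {Γ : Type u} [Group Γ]

/-- the action of a subgroup of `N(Q)` on `Irr(Q)` -/
@[reducible] noncomputable def irrAct (M Q : Subgroup Γ) (hMQ : M ≤ normalizer (Q : Set Γ)) :
    MulAction M (IrrCharacter Q) where
  smul m θ := ⟨act Q ((m : Γ)⁻¹) (θ : Q → ℂ), act_isIrr Q (inv_mem (hMQ m.2)) θ.2⟩
  one_smul θ := by
    apply Subtype.ext
    show act Q (((1 : M) : Γ)⁻¹) (θ : Q → ℂ) = θ
    simp [act_one]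
  mul_smul a b θ := by
    apply Subtype.ext
    show act Q (((a * b : M) : Γ)⁻¹) (θ : Q → ℂ) = act Q ((a : Γ)⁻¹) (act Q ((b : Γ)⁻¹) (θ : Q → ℂ))
    rw [Subgroup.coe_mul, mul_inv_rev, act_mul Q (inv_mem (hMQ b.2)) (inv_mem (hMQ a.2))]

theorem irrAct_smul (M Q : Subgroup Γ) (hMQ : M ≤ normalizer (Q : Set Γ)) (m : M)
    (θ : IrrCharacter Q) :
    (((irrAct M Q hMQ).smul m θ : IrrCharacter Q) : Q → ℂ) = act Q ((m : Γ)⁻¹) (θ : Q → ℂ) := rfl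

/-- A `p`-group acting on a stable set of irreducible characters of cardinality prime to `p` has
a fixed point. -/
theorem exists_fixed_irr [Finite Γ] {p : ℕ} [Fact p.Prime] {P Q : Subgroup Γ}
    (hP : IsPGroup p P)
    (hPQ : P ≤ normalizer (Q : Set Γ)) (Ω : Set (IrrCharacter Q))
    (hΩ : ∀ x ∈ P, ∀ θ : IrrCharacter Q, θ ∈ Ω → ∀ h : IsIrrCharacter Q (act Q x (θ : Q → ℂ)),
      (⟨act Q x (θ : Q → ℂ), h⟩ : IrrCharacter Q) ∈ Ω)
    (hcard : ¬ p ∣ Nat.card Ω) : ∃ θ ∈ Ω, ∀ x ∈ P, act Q x (θ : Q → ℂ) = θ := by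
  let _ : MulAction P Ω :=
    { smul := fun x θ => ⟨⟨act Q ((x : Γ)⁻¹) ((θ : IrrCharacter Q) : Q → ℂ),
        act_isIrr Q (inv_mem (hPQ x.2)) (θ : IrrCharacter Q).2⟩,
        hΩ _ (inv_mem x.2) θ θ.2 _⟩
      one_smul := fun θ => by
        apply Subtype.ext
        apply Subtype.ext
        show act Q (((1 : P) : Γ)⁻¹) ((θ : IrrCharacter Q) : Q → ℂ) = _
        simp [act_one]
      mul_smul := fun a b θ => by
        apply Subtype.ext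
        apply Subtype.ext
        show act Q (((a * b : P) : Γ)⁻¹) ((θ : IrrCharacter Q) : Q → ℂ) =
          act Q ((a : Γ)⁻¹) (act Q ((b : Γ)⁻¹) ((θ : IrrCharacter Q) : Q → ℂ))
        rw [Subgroup.coe_mul, mul_inv_rev, act_mul Q (inv_mem (hPQ b.2)) (inv_mem (hPQ a.2))] }
  obtain ⟨θ, hθ⟩ := hP.nonempty_fixed_point_of_prime_not_dvd_card Ω hcard
  refine ⟨θ, θ.2, fun x hx => ?_⟩
  have h1 := hθ ⟨x⁻¹, inv_mem hx⟩
  have h2 := congrArg (fun t : Ω => ((t : IrrCharacter Q) : Q → ℂ)) h1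
  have h3 : act Q ((x⁻¹)⁻¹) ((θ : IrrCharacter Q) : Q → ℂ) = ((θ : IrrCharacter Q) : Q → ℂ) := h2
  rwa [inv_inv] at h3

theorem res_act_of_mem {K Q : Subgroup Γ} (hQK : Q ≤ K) (hKQ : K ≤ normalizer (Q : Set Γ))
    {χ : K → ℂ} (hχ : IsClassFunction K χ) {g : Γ} (hg : g ∈ K) :
    act Q g (fun q : Q => χ ⟨q, hQK q.2⟩) = fun q : Q => χ ⟨q, hQK q.2⟩ := by
  funext n
  rw [act_apply Q (hKQ hg)]
  exact hχ ⟨n, hQK n.2⟩ ⟨g, hg⟩

theorem exists_const {K Q : Subgroup Γ} [Fintype K] [Fintype Q] (hQK : Q ≤ K)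
    {χ : K → ℂ} (hχ : IsIrrCharacter K χ) :
    ∃ θ : Q → ℂ, IsIrrCharacter Q θ ∧ classInner (fun q : Q => χ ⟨q, hQK q.2⟩) θ ≠ 0 := by
  have hcf : IsClassFunction Q (fun q : Q => χ ⟨q, hQK q.2⟩) :=
    IsCharacter.isClassFunction (isCharacter_res hQK (IsIrrCharacter.isCharacter hχ))
  apply exists_irr_classInner_ne_zero hcf
  intro h0
  have h1 := congrFun h0 1
  exact Cfsg.Agent.Lib.Helper79.irr_one_ne_zero ⟨χ, hχ⟩ h1

/-- The number of irreducible constituents of `χ_Q` divides `|K : Q|`. -/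
theorem card_const_dvd [Finite Γ] {K Q : Subgroup Γ} [Fintype K] [Fintype Q] (hQK : Q ≤ K)
    (hKQ : K ≤ normalizer (Q : Set Γ)) {χ : K → ℂ} (hχ : IsIrrCharacter K χ) :
    Nat.card {θ : IrrCharacter Q | classInner (fun q : Q => χ ⟨q, hQK q.2⟩) (θ : Q → ℂ) ≠ 0} ∣
      Q.relIndex K := by
  classical
  haveI hN : (Q.subgroupOf K).Normal :=
    Cfsg.Agent.Lib.Helper24.normal_subgroupOf_of_le_normalizer hKQ
  have hcf := IsCharacter.isClassFunction (IsIrrCharacter.isCharacter hχ)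
  obtain ⟨θ₀, hθ₀, hc₀⟩ := exists_const hQK hχ
  let _ : MulAction K (IrrCharacter Q) := irrAct K Q hKQ
  have hset : {θ : IrrCharacter Q | classInner (fun q : Q => χ ⟨q, hQK q.2⟩) (θ : Q → ℂ) ≠ 0} =
      MulAction.orbit K (⟨θ₀, hθ₀⟩ : IrrCharacter Q) := by
    ext θ
    constructor
    · intro hθ
      obtain ⟨g, hg, hgθ⟩ := clifford_act K Q hQK hχ hθ₀ θ.2 hc₀ hθ
      refine ⟨⟨g, hg⟩⁻¹, ?_⟩
      apply Subtype.ext
      show act Q ((((⟨g, hg⟩ : K)⁻¹ : K) : Γ)⁻¹) θ₀ = θ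
      rw [hgθ]
      simp
    · rintro ⟨g, rfl⟩
      show classInner (fun q : Q => χ ⟨q, hQK q.2⟩) (act Q ((g : Γ)⁻¹) θ₀) ≠ 0
      rw [← res_act_of_mem hQK hKQ hcf (inv_mem g.2), classInner_act Q (inv_mem (hKQ g.2))]
      exact hc₀
  rw [hset, Nat.card_coe_set_eq, ← MulAction.index_stabilizer]
  have hle : Q.subgroupOf K ≤ MulAction.stabilizer K (⟨θ₀, hθ₀⟩ : IrrCharacter Q) := by
    intro q hq
    rw [MulAction.mem_stabilizer_iff]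
    apply Subtype.ext
    show act Q ((q : Γ)⁻¹) θ₀ = θ₀
    exact act_of_mem Q (inv_mem (mem_subgroupOf.mp hq))
      (IsCharacter.isClassFunction (IsIrrCharacter.isCharacter hθ₀))
  exact Subgroup.index_dvd_of_le hle

/-- An invariant irreducible character of `K` lies over an invariant irreducible character of the
normal Sylow subgroup. -/
theorem exists_inv_const [Finite Γ] {p : ℕ} [Fact p.Prime] {K Q P : Subgroup Γ} [Fintype K]
    [Fintype Q] (hQK : Q ≤ K) (hKQ : K ≤ normalizer (Q : Set Γ))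
    (hPQ : P ≤ normalizer (Q : Set Γ)) (hPK : P ≤ normalizer (K : Set Γ)) (hP : IsPGroup p P)
    (hidx : ¬ p ∣ Q.relIndex K) {χ : K → ℂ} (hχ : IsIrrCharacter K χ)
    (hinv : ∀ x ∈ P, act K x χ = χ) :
    ∃ θ : Q → ℂ, IsIrrCharacter Q θ ∧ classInner (fun q : Q => χ ⟨q, hQK q.2⟩) θ ≠ 0 ∧
      ∀ x ∈ P, act Q x θ = θ := by
  obtain ⟨θ, hθΩ, hθ⟩ := exists_fixed_irr hP hPQ
    {θ : IrrCharacter Q | classInner (fun q : Q => χ ⟨q, hQK q.2⟩) (θ : Q → ℂ) ≠ 0}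
    (by
      intro x hx θ hθ h
      show classInner (fun q : Q => χ ⟨q, hQK q.2⟩) (act Q x (θ : Q → ℂ)) ≠ 0
      have h1 := act_res K Q hQK (hPK hx) (hPQ hx) χ
      rw [hinv x hx] at h1
      rw [h1, classInner_act Q (hPQ hx)]
      exact hθ)
    (fun hdvd => hidx (dvd_trans hdvd (card_const_dvd hQK hKQ hχ)))
  exact ⟨θ, θ.2, hθΩ, hθ⟩

/-- the stabiliser of `θ` in `K ≤ N(Q)` -/
def stabIn (K Q : Subgroup Γ) (hKQ : K ≤ normalizer (Q : Set Γ)) (θ : Q → ℂ) : Subgroup Γ where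
  carrier := {g | g ∈ K ∧ act Q g θ = θ}
  one_mem' := ⟨one_mem _, act_one Q θ⟩
  mul_mem' := by
    rintro x y ⟨hx, hxe⟩ ⟨hy, hye⟩
    refine ⟨mul_mem hx hy, ?_⟩
    rw [act_mul Q (hKQ hx) (hKQ hy), hxe, hye]
  inv_mem' := by
    rintro x ⟨hx, hxe⟩
    refine ⟨inv_mem hx, ?_⟩
    conv_lhs => rw [← hxe]
    exact act_inv_act Q (hKQ hx) θ

theorem mem_stabIn {K Q : Subgroup Γ} {hKQ : K ≤ normalizer (Q : Set Γ)} {θ : Q → ℂ} {g : Γ} :
    g ∈ stabIn K Q hKQ θ ↔ g ∈ K ∧ act Q g θ = θ := Iff.rfl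

theorem stabIn_le {K Q : Subgroup Γ} {hKQ : K ≤ normalizer (Q : Set Γ)} {θ : Q → ℂ} :
    stabIn K Q hKQ θ ≤ K := fun _ hg => hg.1

theorem le_stabIn {K Q : Subgroup Γ} (hQK : Q ≤ K) {hKQ : K ≤ normalizer (Q : Set Γ)} {θ : Q → ℂ}
    (hθ : IsClassFunction Q θ) : Q ≤ stabIn K Q hKQ θ :=
  fun _ hg => ⟨hQK hg, act_of_mem Q hg hθ⟩

theorem cliffSetup_stabIn {K Q : Subgroup Γ} (hQK : Q ≤ K) (hKQ : K ≤ normalizer (Q : Set Γ))
    {θ : Q → ℂ} (hθ : IsIrrCharacter Q θ) : CliffSetup K Q (stabIn K Q hKQ θ) θ :=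
  ⟨hQK, hKQ, hθ, fun _ => Iff.rfl⟩

/-- **Glauberman's lemma, relative version**: two `P`-invariant characters of `Q` conjugate under
`K` are conjugate under `C`, where `C/Q` is the centraliser of `P` in `K/Q`. -/
theorem conj_in_C [Finite Γ] {p : ℕ} [Fact p.Prime] {K Q P C : Subgroup Γ} (hQK : Q ≤ K)
    (hKQ : K ≤ normalizer (Q : Set Γ)) (hPQ : P ≤ normalizer (Q : Set Γ))
    (hPK : P ≤ normalizer (K : Set Γ)) (hP : IsPGroup p P) (hidx : ¬ p ∣ Q.relIndex K)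
    (hC : ∀ k : Γ, k ∈ C ↔ k ∈ K ∧ ∀ x ∈ P, x * k * x⁻¹ * k⁻¹ ∈ Q)
    {θ θ' : Q → ℂ} (hθ : IsIrrCharacter Q θ) (hfix : ∀ x ∈ P, act Q x θ = θ)
    (hfix' : ∀ x ∈ P, act Q x θ' = θ') {k : Γ} (hk : k ∈ K) (hkθ : θ' = act Q k θ) :
    ∃ c ∈ C, θ' = act Q c θ := by
  classical
  have hTK : stabIn K Q hKQ θ ≤ K := stabIn_le
  have hTQ : stabIn K Q hKQ θ ≤ normalizer (Q : Set Γ) := hTK.trans hKQ
  have hQT : Q ≤ stabIn K Q hKQ θ :=
    le_stabIn hQK (IsCharacter.isClassFunction (IsIrrCharacter.isCharacter hθ))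
  set S : Set (Qbar Q) :=
    {y | ∃ g : Γ, ∃ hg : g ∈ K, act Q g θ = θ' ∧ pq Q g (hKQ hg) = y} with hS
  have hstable : ∀ x ∈ img Q hPQ, ∀ t ∈ S, x * t * x⁻¹ ∈ S := by
    intro x hx t ht
    rw [mem_img] at hx
    obtain ⟨s, hs, rfl⟩ := hx
    obtain ⟨g, hg, hgθ, rfl⟩ := ht
    have hsgK : s * g * s⁻¹ ∈ K := (mem_normalizer_iff.mp (hPK hs) g).mp hg
    refine ⟨s * g * s⁻¹, hsgK, ?_, pq_conj Q (hPQ hs) (hKQ hg) _⟩
    rw [act_mul Q (mul_mem (hPQ hs) (hKQ hg)) (inv_mem (hPQ hs)), act_mul Q (hPQ hs) (hKQ hg),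
      hfix s hs, hgθ, hfix' _ (inv_mem hs)]
  have hSeq : S = (fun z => z * pq Q k (hKQ hk)) '' (img Q hTQ : Set (Qbar Q)) := by
    ext y
    constructor
    · rintro ⟨g, hg, hgθ, rfl⟩
      refine ⟨pq Q (g * k⁻¹) (mul_mem (hKQ hg) (inv_mem (hKQ hk))), ?_, ?_⟩
      · rw [SetLike.mem_coe, mem_img]
        refine ⟨g * k⁻¹, ⟨mul_mem hg (inv_mem hk), ?_⟩, rfl⟩
        rw [act_mul Q (hKQ hg) (inv_mem (hKQ hk)), hgθ, hkθ, act_inv_act Q (hKQ hk)]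
      · show pq Q (g * k⁻¹) _ * pq Q k _ = pq Q g _
        rw [← pq_mul]
        apply pq_congr
        group
    · rintro ⟨z, hz, rfl⟩
      rw [SetLike.mem_coe, mem_img] at hz
      obtain ⟨t, ht, rfl⟩ := hz
      refine ⟨t * k, mul_mem ht.1 hk, ?_, ?_⟩
      · rw [act_mul Q (hKQ ht.1) (hKQ hk), ht.2, hkθ]
      · exact pq_mul Q (hKQ ht.1) (hKQ hk)
  have hcard : ¬ p ∣ Nat.card S := by
    rw [hSeq, Nat.card_image_of_injective (mul_left_injective _)]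
    have h1 : Nat.card (img Q hTQ : Set (Qbar Q)) = Q.relIndex (stabIn K Q hKQ θ) :=
      card_img Q hTQ
    rw [h1]
    intro hdvd
    apply hidx
    rw [← Subgroup.relIndex_mul_relIndex Q _ K hQT hTK]
    exact dvd_mul_of_dvd_left hdvd _
  obtain ⟨t, ht, htfix⟩ := Cfsg.Agent.S4911.exists_fixed_of_stable (img Q hPQ)
    (isPGroup_img Q hPQ hP) S hstable hcard
  obtain ⟨g, hg, hgθ, rfl⟩ := ht
  refine ⟨g, ?_, hgθ.symm⟩
  rw [hC]
  refine ⟨hg, fun x hx => ?_⟩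
  have h1 := htfix (pq Q x (hPQ hx)) ((mem_img Q hPQ _).2 ⟨x, hx, rfl⟩)
  have h2 : pq Q x (hPQ hx) * pq Q g (hKQ hg) * (pq Q x (hPQ hx))⁻¹ * (pq Q g (hKQ hg))⁻¹ = 1 := by
    rw [h1, mul_inv_cancel]
  rw [pq_comm Q (hPQ hx) (hKQ hg), pq_eq_one_iff] at h2
  exact h2

end Cfsg.Agent.Lib.Helper76.Rel
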