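import Mathlib
import Cfsg.Agent.Lib.Helper76.RelMult
import Cfsg.Agent.Lib.Helper76.RelOrbit

/-!
# The parametrisation `φ ↦ (φ θ̂)^K` of the characters over `θ`
-/

set_option autoImplicit false
set_option linter.style.haveILetI false
set_option linter.unusedSectionVars false

namespace Cfsg.Agent.Lib.Helper76.Rel

open Subgroup Cfsg Cfsg.Agent.Lib.Helper3 Cfsg.Agent.Lib.Helper75 Cfsg.Agent.Lib.Helper25
open Cfsg.Agent.S4447 Cfsg.Agent.S4448 Cfsg.Agent.Lib.Helper15
open scoped ComplexConjugate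

universe u

variable {Γ : Type u} [Group Γ]

section Param

variable {K Q T : Subgroup Γ} {θ : Q → ℂ} {θh : T → ℂ} [Fintype K] [Fintype Q] [Fintype T]

/-- the character `(φ θ̂)^K` -/
noncomputable def param (S : CliffSetup K Q T θ) (θh : T → ℂ) (φ : T → ℂ) : K → ℂ :=
  indSub S.hTK (φ * θh)

theorem param_irr (S : CliffSetup K Q T θ) (E : ExtSetup Q T θ θh) {φ : T → ℂ}
    (hφ : IsIrrCharacter T φ) (hc : QConst E.hQT φ) : IsIrrCharacter K (param S θh φ) :=
  S.ind_irr (E.mul_irr hφ hc) (E.mul_over hφ hc)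

theorem param_inj (S : CliffSetup K Q T θ) (E : ExtSetup Q T θ θh) {φ φ' : T → ℂ}
    (hφ : IsIrrCharacter T φ) (hc : QConst E.hQT φ) (hφ' : IsIrrCharacter T φ')
    (hc' : QConst E.hQT φ') (h : param S θh φ = param S θh φ') : φ = φ' := by
  have h1 := (S.ind_irr_inj (E.mul_irr hφ hc) (E.mul_irr hφ' hc') (E.mul_over hφ hc)
    (E.mul_over hφ' hc')).2 h
  exact E.mul_inj hφ hc hφ' hc' h1

theorem param_surj (S : CliffSetup K Q T θ) (E : ExtSetup Q T θ θh) {χ : K → ℂ}
    (hχ : IsIrrCharacter K χ) (hov : classInner (fun q : Q => χ ⟨q, S.hQK q.2⟩) θ ≠ 0) :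
    ∃ φ : T → ℂ, IsIrrCharacter T φ ∧ QConst E.hQT φ ∧ param S θh φ = χ := by
  obtain ⟨ψ, hψ, hψov, hψind⟩ := S.ind_surj hχ hov
  obtain ⟨φ, hφ, hc, rfl⟩ := E.exists_mul hψ hψov
  exact ⟨φ, hφ, hc, hψind⟩

theorem param_res_inner (S : CliffSetup K Q T θ) (E : ExtSetup Q T θ θh) {φ : T → ℂ}
    (hφ : IsIrrCharacter T φ) (hc : QConst E.hQT φ) :
    classInner (fun t : T => param S θh φ ⟨t, S.hTK t.2⟩) (φ * θh) = 1 := by
  have h := S.res_ind_inner (E.mul_irr hφ hc) (E.mul_irr hφ hc) (E.mul_over hφ hc)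
    (E.mul_over hφ hc)
  unfold param
  rw [h, classInner_irr (E.mul_irr hφ hc) (E.mul_irr hφ hc), if_pos rfl]

theorem param_over (S : CliffSetup K Q T θ) (E : ExtSetup Q T θ θh) {φ : T → ℂ}
    (hφ : IsIrrCharacter T φ) (hc : QConst E.hQT φ) :
    classInner (fun q : Q => param S θh φ ⟨q, S.hQK q.2⟩) θ ≠ 0 := by
  have h1 : classInner (fun t : T => param S θh φ ⟨t, S.hTK t.2⟩) (φ * θh) ≠ 0 := by
    rw [param_res_inner S E hφ hc]
    exact one_ne_zero
  exact const_trans S.hQT S.hTK (IsIrrCharacter.isCharacter (param_irr S E hφ hc))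
    (E.mul_irr hφ hc) S.hθ h1 (E.mul_over hφ hc)

theorem qconst_act {hQT : Q ≤ T} {φ : T → ℂ} (hc : QConst hQT φ) {x : Γ}
    (hxT : x ∈ normalizer (T : Set Γ)) (hxQ : x ∈ normalizer (Q : Set Γ)) :
    QConst hQT (act T x φ) := by
  intro q t
  rw [act_apply T hxT, act_apply T hxT, map_mul]
  have hq : x * (q : Γ) * x⁻¹ ∈ Q := (mem_normalizer_iff.mp hxQ _).mp q.2
  have e : cEquiv T x hxT ⟨q, hQT q.2⟩ = ⟨(⟨x * (q : Γ) * x⁻¹, hq⟩ : Q), hQT hq⟩ := by
    apply Subtype.ext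
    rfl
  rw [e]
  exact hc ⟨x * (q : Γ) * x⁻¹, hq⟩ _

/-- equivariance of the parametrisation -/
theorem param_act (S : CliffSetup K Q T θ) (E : ExtSetup Q T θ θh) {φ : T → ℂ}
    (hφ : IsIrrCharacter T φ) (hc : QConst E.hQT φ) {x : Γ}
    (hxK : x ∈ normalizer (K : Set Γ)) (hxT : x ∈ normalizer (T : Set Γ))
    (hxQ : x ∈ normalizer (Q : Set Γ)) (hxθh : act T x θh = θh) :
    act K x (param S θh φ) = param S θh (act T x φ) := by
  have hφ' : IsIrrCharacter T (act T x φ) := act_isIrr T hxT hφ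
  have hc' : QConst E.hQT (act T x φ) := qconst_act hc hxT hxQ
  have hirr1 : IsIrrCharacter K (act K x (param S θh φ)) := act_isIrr K hxK (param_irr S E hφ hc)
  have hirr2 := param_irr S E hφ' hc'
  by_contra hne
  have h0 := classInner_irr hirr1 hirr2
  rw [if_neg hne] at h0
  have h1 : classInner (act K x (param S θh φ)) (param S θh (act T x φ)) = 1 := by
    unfold param
    rw [frob S.hTK (act T x φ * θh) (act K x (indSub S.hTK (φ * θh)))
      (IsCharacter.isClassFunction (IsIrrCharacter.isCharacter hirr1))]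
    have h2 := act_res K T S.hTK hxK hxT (indSub S.hTK (φ * θh))
    rw [h2]
    have h3 : act T x φ * θh = act T x (φ * θh) := by
      rw [act_mul_fun T hxT, hxθh]
    rw [h3, classInner_act T hxT]
    exact param_res_inner S E hφ hc
  rw [h1] at h0
  exact one_ne_zero h0

theorem param_inv_iff (S : CliffSetup K Q T θ) (E : ExtSetup Q T θ θh) {φ : T → ℂ}
    (hφ : IsIrrCharacter T φ) (hc : QConst E.hQT φ) {x : Γ}
    (hxK : x ∈ normalizer (K : Set Γ)) (hxT : x ∈ normalizer (T : Set Γ))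
    (hxQ : x ∈ normalizer (Q : Set Γ)) (hxθh : act T x θh = θh) :
    act K x (param S θh φ) = param S θh φ ↔ act T x φ = φ := by
  rw [param_act S E hφ hc hxK hxT hxQ hxθh]
  constructor
  · intro h
    exact param_inj S E (act_isIrr T hxT hφ) (qconst_act hc hxT hxQ) hφ hc h
  · intro h
    rw [h]

end Param

end Cfsg.Agent.Lib.Helper76.Rel
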