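import Mathlib
import Cfsg.Agent.Lib.Helper76.RelParam
import Cfsg.Agent.Lib.Helper76.RelExt
import Cfsg.Agent.Lib.Helper82.GlaubermanNz

/-!
# The relative Glauberman correspondence over a normal Sylow subgroup
-/

set_option autoImplicit false
set_option linter.style.haveILetI false
set_option linter.unusedSectionVars false

namespace Cfsg.Agent.Lib.Helper76.Rel

open Subgroup Cfsg Cfsg.Agent.Lib.Helper3 Cfsg.Agent.Lib.Helper75 Cfsg.Agent.Lib.Helper25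
open Cfsg.Agent.S4447 Cfsg.Agent.S4448 Cfsg.Agent.Lib.Helper15 Cfsg.Agent.Lib.Helper82
open scoped ComplexConjugate

universe u

variable {Γ : Type u} [Group Γ]

/-- The global setting. -/
structure MainSetup (p : ℕ) (P K Q C : Subgroup Γ) : Prop where
  hP : IsPGroup p P
  hPK : P ≤ normalizer (K : Set Γ)
  hQK : Q ≤ K
  hKQ : K ≤ normalizer (Q : Set Γ)
  hPQ : P ≤ normalizer (Q : Set Γ)
  hQp : ∃ a : ℕ, Nat.card Q = p ^ a
  hidx : ¬ p ∣ Q.relIndex K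
  hC : ∀ k : Γ, k ∈ C ↔ k ∈ K ∧ ∀ x ∈ P, x * k * x⁻¹ * k⁻¹ ∈ Q

section Basic

variable {p : ℕ} {P K Q C : Subgroup Γ}

theorem MainSetup.hCK (M : MainSetup p P K Q C) : C ≤ K := fun c hc => ((M.hC c).1 hc).1

theorem MainSetup.hQC (M : MainSetup p P K Q C) : Q ≤ C := by
  intro q hq
  rw [M.hC]
  refine ⟨M.hQK hq, fun x hx => ?_⟩
  exact Q.mul_mem ((mem_normalizer_iff.mp (M.hPQ hx) q).mp hq) (Q.inv_mem hq)

theorem MainSetup.hCQ (M : MainSetup p P K Q C) : C ≤ normalizer (Q : Set Γ) :=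
  M.hCK.trans M.hKQ

theorem MainSetup.hPC (M : MainSetup p P K Q C) : P ≤ normalizer (C : Set Γ) := by
  apply le_normalizer_of_conj_mem
  intro x hx c hc
  rw [M.hC] at hc ⊢
  refine ⟨(mem_normalizer_iff.mp (M.hPK hx) c).mp hc.1, fun y hy => ?_⟩
  have h1 := hc.2 (x⁻¹ * y * x) (P.mul_mem (P.mul_mem (P.inv_mem hx) hy) hx)
  have h2 := (mem_normalizer_iff.mp (M.hPQ hx) _).mp h1
  have e : x * (x⁻¹ * y * x * c * (x⁻¹ * y * x)⁻¹ * c⁻¹) * x⁻¹ =
      y * (x * c * x⁻¹) * y⁻¹ * (x * c * x⁻¹)⁻¹ := by group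
  rw [e] at h2
  exact h2

theorem MainSetup.hidxC [Finite Γ] (M : MainSetup p P K Q C) : ¬ p ∣ Q.relIndex C := by
  intro h
  apply M.hidx
  rw [← Subgroup.relIndex_mul_relIndex Q C K M.hQC M.hCK]
  exact dvd_mul_of_dvd_left h _

/-- the analogous setting with `K` replaced by `C` -/
theorem MainSetup.toC [Finite Γ] (M : MainSetup p P K Q C) : MainSetup p P C Q C :=
  ⟨M.hP, M.hPC, M.hQC, M.hCQ, M.hPQ, M.hQp, M.hidxC,
    fun k => ⟨fun hk => ⟨hk, ((M.hC k).1 hk).2⟩, fun hk => hk.1⟩⟩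

end Basic

section Theta

variable {p : ℕ} {P K Q C : Subgroup Γ}

/-- Everything attached to a `P`-invariant `θ ∈ Irr(Q)`. -/
structure ThetaData (p : ℕ) (P K Q C : Subgroup Γ) (θ : Q → ℂ) (T D : Subgroup Γ)
    (θh : T → ℂ) : Prop where
  SK : CliffSetup K Q T θ
  SC : CliffSetup C Q D θ
  G : GSetup p Q T P D
  E : ExtSetup Q T θ θh
  hfix : ∀ x ∈ P, act Q x θ = θ
  hθh : ∀ x ∈ P, act T x θh = θh
  hPD : P ≤ normalizer (D : Set Γ)

theorem exists_thetaData [Finite Γ] [hp : Fact p.Prime] (M : MainSetup p P K Q C) {θ : Q → ℂ}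
    (hθ : IsIrrCharacter Q θ) (hfix : ∀ x ∈ P, act Q x θ = θ) :
    ∃ (T D : Subgroup Γ) (θh : T → ℂ), ThetaData p P K Q C θ T D θh := by
  have hcf := IsCharacter.isClassFunction (IsIrrCharacter.isCharacter hθ)
  set T := stabIn K Q M.hKQ θ with hT
  set D := stabIn C Q M.hCQ θ with hD
  have SK : CliffSetup K Q T θ := cliffSetup_stabIn M.hQK M.hKQ hθ
  have SC : CliffSetup C Q D θ := cliffSetup_stabIn M.hQC M.hCQ hθ
  have hstab : ∀ (A : Subgroup Γ) (hA : A ≤ normalizer (Q : Set Γ)),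
      P ≤ normalizer (A : Set Γ) → P ≤ normalizer (stabIn A Q hA θ : Set Γ) := by
    intro A hA hPA
    apply le_normalizer_of_conj_mem
    intro x hx t ht
    rw [mem_stabIn] at ht ⊢
    refine ⟨(mem_normalizer_iff.mp (hPA hx) t).mp ht.1, ?_⟩
    rw [act_mul Q (mul_mem (M.hPQ hx) (hA ht.1)) (inv_mem (M.hPQ hx)),
      act_mul Q (M.hPQ hx) (hA ht.1), hfix x hx, ht.2, hfix _ (inv_mem hx)]
  have hPT : P ≤ normalizer (T : Set Γ) := hstab K M.hKQ M.hPK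
  have hPD : P ≤ normalizer (D : Set Γ) := hstab C M.hCQ M.hPC
  have hidxT : ¬ p ∣ Q.relIndex T := by
    intro h
    apply M.hidx
    rw [← Subgroup.relIndex_mul_relIndex Q T K SK.hQT SK.hTK]
    exact dvd_mul_of_dvd_left h _
  have G : GSetup p Q T P D := by
    refine ⟨SK.hQT, SK.hTQ, M.hPQ, hPT, M.hP, hidxT, fun d => ?_⟩
    constructor
    · intro hd
      have h1 := (M.hC d).1 hd.1
      exact ⟨⟨h1.1, hd.2⟩, h1.2⟩
    · rintro ⟨hdT, hdc⟩
      exact ⟨(M.hC d).2 ⟨hdT.1, hdc⟩, hdT.2⟩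
  obtain ⟨θh, E, hθh⟩ := exists_inv_ext p SK.hQT SK.hTQ M.hQp hidxT hθ (fun t ht => ht.2)
  exact ⟨T, D, θh, SK, SC, G, E, hfix, fun x hx => hθh x (hPT hx) (M.hPQ hx) (hfix x hx), hPD⟩

variable {θ : Q → ℂ} {T D : Subgroup Γ} {θh : T → ℂ}

theorem ThetaData.hDT (TD : ThetaData p P K Q C θ T D θh) : D ≤ T := TD.G.hDT

/-- the extension restricted to `D` -/
theorem ThetaData.ED (TD : ThetaData p P K Q C θ T D θh) [Fintype T] [Fintype Q] [Fintype D] :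
    ExtSetup Q D θ (fun d : D => θh ⟨d, TD.hDT d.2⟩) :=
  TD.E.restrict TD.G.hQD TD.hDT

theorem ThetaData.hθhD (TD : ThetaData p P K Q C θ T D θh) :
    ∀ x ∈ P, act D x (fun d : D => θh ⟨d, TD.hDT d.2⟩) = fun d : D => θh ⟨d, TD.hDT d.2⟩ := by
  intro x hx
  rw [← act_res T D TD.hDT (TD.G.hPT hx) (TD.hPD hx) θh, TD.hθh x hx]

/-- characters of `D` constant on cosets of `Q` are `P`-invariant -/
theorem ThetaData.qconst_inv (TD : ThetaData p P K Q C θ T D θh) {γ : D → ℂ}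
    (hc : QConst TD.G.hQD γ) : ∀ x ∈ P, act D x γ = γ := by
  intro x hx
  funext d
  rw [act_apply D (TD.hPD hx)]
  have hq := ((TD.G.hD d).1 d.2).2 x hx
  have e : cEquiv D x (TD.hPD hx) d = ⟨(⟨x * d * x⁻¹ * (d : Γ)⁻¹, hq⟩ : Q), TD.G.hQD hq⟩ * d := by
    apply Subtype.ext
    show x * d * x⁻¹ = x * d * x⁻¹ * (d : Γ)⁻¹ * d
    group
  rw [e]
  exact hc _ _

end Theta

end Cfsg.Agent.Lib.Helper76.Rel
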