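import Mathlib
import Cfsg.Agent.Lib.Helper76.RelMain

/-!
# The relative Glauberman correspondence: existence, injectivity, surjectivity
-/

set_option autoImplicit false
set_option linter.style.haveILetI false
set_option linter.unusedSectionVars false

namespace Cfsg.Agent.Lib.Helper76.Rel

open Subgroup Cfsg Cfsg.Agent.Lib.Helper3 Cfsg.Agent.Lib.Helper75 Cfsg.Agent.Lib.Helper25
open Cfsg.Agent.S4447 Cfsg.Agent.S4448 Cfsg.Agent.Lib.Helper15 Cfsg.Agent.Lib.Helper82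
open scoped ComplexConjugate

universe u

variable {Γ : Type u} [Group Γ] [Finite Γ]

section Thm

variable {p : ℕ} [hp : Fact p.Prime] {P K Q C : Subgroup Γ} [Fintype K] [Fintype C] [Fintype Q]

theorem ThetaData.mult {θ : Q → ℂ} {T D : Subgroup Γ} {θh : T → ℂ} [Fintype T] [Fintype D]
    (TD : ThetaData p P K Q C θ T D θh) (hCK : C ≤ K) {φ : T → ℂ} (hφ : IsIrrCharacter T φ)
    (hc : QConst TD.E.hQT φ) {γ : D → ℂ} (hγ : IsIrrCharacter D γ)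
    (hcγ : QConst TD.G.hQD γ) :
    classInner (fun c : C => param TD.SK θh φ ⟨c, hCK c.2⟩)
        (param TD.SC (fun d : D => θh ⟨d, TD.hDT d.2⟩) γ)
      = classInner (fun d : D => φ ⟨d, TD.hDT d.2⟩) γ := by
  unfold param
  rw [mult_eq TD.SK TD.SC hCK TD.hDT (TD.E.mul_irr hφ hc) (TD.E.mul_over hφ hc)
    (TD.ED.mul_irr hγ hcγ) (TD.ED.mul_over hγ hcγ)]
  exact TD.ED.inner_mul (hc.res TD.G.hQD TD.hDT) hcγ

/-- a `P`-invariant irreducible character of `C` meeting `χ_C` lies over `θ` -/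
theorem over_of_inner_ne_zero (M : MainSetup p P K Q C) {χ : K → ℂ} (hχ : IsIrrCharacter K χ)
    {θ : Q → ℂ} (hθ : IsIrrCharacter Q θ) (hfix : ∀ x ∈ P, act Q x θ = θ)
    (hov : classInner (fun q : Q => χ ⟨q, M.hQK q.2⟩) θ ≠ 0)
    {ξ : C → ℂ} (hξ : IsIrrCharacter C ξ) (hξinv : ∀ x ∈ P, act C x ξ = ξ)
    (hne : classInner (fun c : C => χ ⟨c, M.hCK c.2⟩) ξ ≠ 0) :
    classInner (fun q : Q => ξ ⟨q, M.hQC q.2⟩) θ ≠ 0 := by
  classical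
  haveI hN : (Q.subgroupOf K).Normal :=
    Cfsg.Agent.Lib.Helper24.normal_subgroupOf_of_le_normalizer M.hKQ
  obtain ⟨θ'', hθ'', hc'', hfix''⟩ := exists_inv_const M.hQC M.hCQ M.hPQ M.hPC M.hP M.hidxC hξ hξinv
  have h1 : classInner (fun q : Q => χ ⟨q, M.hQK q.2⟩) θ'' ≠ 0 :=
    const_trans M.hQC M.hCK (IsIrrCharacter.isCharacter hχ) hξ hθ'' hne hc''
  obtain ⟨g, hg, hgθ⟩ := clifford_act K Q M.hQK hχ hθ hθ'' hov h1
  obtain ⟨c, hc, hcθ⟩ := conj_in_C M.hQK M.hKQ M.hPQ M.hPK M.hP M.hidx M.hC hθ hfix hfix'' hg hgθ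
  have hcf := IsCharacter.isClassFunction (IsIrrCharacter.isCharacter hξ)
  rw [hcθ, ← res_act_of_mem M.hQC M.hCQ hcf hc, classInner_act Q (M.hCQ hc)] at hc''
  exact hc''

/-- **Existence**: the correspondent of `χ`. -/
theorem main_ex (M : MainSetup p P K Q C) {χ : K → ℂ} (hχ : IsIrrCharacter K χ)
    (hinv : ∀ x ∈ P, act K x χ = χ) :
    ∃ (ξ₀ : C → ℂ) (ε : ℤ), IsIrrCharacter C ξ₀ ∧ (∀ x ∈ P, act C x ξ₀ = ξ₀) ∧ (ε = 1 ∨ ε = -1) ∧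
      ∀ ξ : C → ℂ, IsIrrCharacter C ξ → (∀ x ∈ P, act C x ξ = ξ) → ∃ m : ℕ,
        classInner (fun c : C => χ ⟨c, M.hCK c.2⟩) ξ = (m : ℂ) ∧
        (ξ = ξ₀ → (m : ℤ) ≡ ε [ZMOD p]) ∧ (ξ ≠ ξ₀ → p ∣ m) := by
  classical
  obtain ⟨θ, hθ, hov, hfix⟩ := exists_inv_const M.hQK M.hKQ M.hPQ M.hPK M.hP M.hidx hχ hinv
  obtain ⟨T, D, θh, TD⟩ := exists_thetaData M hθ hfix
  haveI : Fintype T := Fintype.ofFinite _
  haveI : Fintype D := Fintype.ofFinite _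
  obtain ⟨φ, hφ, hc, rfl⟩ := param_surj TD.SK TD.E hχ hov
  have hφinv : ∀ x ∈ P, act T x φ = φ := fun x hx =>
    (param_inv_iff TD.SK TD.E hφ hc (M.hPK hx) (TD.G.hPT hx) (M.hPQ hx) (TD.hθh x hx)).1
      (hinv x hx)
  obtain ⟨γ₀, ε, hγ₀, hcγ₀, hε, hall⟩ := TD.G.qglaub.ex φ hφ hc hφinv
  refine ⟨param TD.SC (fun d : D => θh ⟨d, TD.hDT d.2⟩) γ₀, ε, param_irr TD.SC TD.ED hγ₀ hcγ₀,
    ?_, hε, ?_⟩
  · intro x hx
    exact (param_inv_iff TD.SC TD.ED hγ₀ hcγ₀ (M.hPC hx) (TD.hPD hx) (M.hPQ hx)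
      (TD.hθhD x hx)).2 (TD.qconst_inv hcγ₀ x hx)
  · intro ξ hξ hξinv
    by_cases hξov : classInner (fun q : Q => ξ ⟨q, M.hQC q.2⟩) θ ≠ 0
    · obtain ⟨γ, hγ, hcγ, rfl⟩ := param_surj TD.SC TD.ED hξ hξov
      obtain ⟨m, hm, h1, h2⟩ := hall γ hγ hcγ
      refine ⟨m, ?_, ?_, ?_⟩
      · rw [TD.mult M.hCK hφ hc hγ hcγ]
        exact hm
      · intro heq
        exact h1 (param_inj TD.SC TD.ED hγ hcγ hγ₀ hcγ₀ heq)
      · intro hne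
        apply h2
        intro heq
        apply hne
        rw [heq]
    · refine ⟨0, ?_, ?_, fun _ => dvd_zero p⟩
      · by_contra hne
        apply hξov
        exact over_of_inner_ne_zero M (param_irr TD.SK TD.E hφ hc) hθ hfix hov hξ hξinv
          (by simpa using hne)
      · intro heq
        exfalso
        apply hξov
        rw [heq]
        exact param_over TD.SC TD.ED hγ₀ hcγ₀

/-- **Injectivity**. -/
theorem main_inj (M : MainSetup p P K Q C) {χ χ' : K → ℂ} (hχ : IsIrrCharacter K χ)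
    (hinv : ∀ x ∈ P, act K x χ = χ) (hχ' : IsIrrCharacter K χ')
    (hinv' : ∀ x ∈ P, act K x χ' = χ') {ξ : C → ℂ} (hξ : IsIrrCharacter C ξ)
    (hξinv : ∀ x ∈ P, act C x ξ = ξ) {m m' : ℕ}
    (hm : classInner (fun c : C => χ ⟨c, M.hCK c.2⟩) ξ = (m : ℂ)) (hpm : ¬ p ∣ m)
    (hm' : classInner (fun c : C => χ' ⟨c, M.hCK c.2⟩) ξ = (m' : ℂ)) (hpm' : ¬ p ∣ m') :
    χ = χ' := by
  classical
  obtain ⟨θ, hθ, hξov, hfix⟩ := exists_inv_const M.hQC M.hCQ M.hPQ M.hPC M.hP M.hidxC hξ hξinv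
  have hne : classInner (fun c : C => χ ⟨c, M.hCK c.2⟩) ξ ≠ 0 := by
    rw [hm]
    intro h0
    apply hpm
    have : m = 0 := by exact_mod_cast h0
    rw [this]
    exact dvd_zero p
  have hne' : classInner (fun c : C => χ' ⟨c, M.hCK c.2⟩) ξ ≠ 0 := by
    rw [hm']
    intro h0
    apply hpm'
    have : m' = 0 := by exact_mod_cast h0
    rw [this]
    exact dvd_zero p
  have hov : classInner (fun q : Q => χ ⟨q, M.hQK q.2⟩) θ ≠ 0 :=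
    const_trans M.hQC M.hCK (IsIrrCharacter.isCharacter hχ) hξ hθ hne hξov
  have hov' : classInner (fun q : Q => χ' ⟨q, M.hQK q.2⟩) θ ≠ 0 :=
    const_trans M.hQC M.hCK (IsIrrCharacter.isCharacter hχ') hξ hθ hne' hξov
  obtain ⟨T, D, θh, TD⟩ := exists_thetaData M hθ hfix
  haveI : Fintype T := Fintype.ofFinite _
  haveI : Fintype D := Fintype.ofFinite _
  obtain ⟨φ, hφ, hc, rfl⟩ := param_surj TD.SK TD.E hχ hov
  obtain ⟨φ', hφ', hc', rfl⟩ := param_surj TD.SK TD.E hχ' hov'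
  obtain ⟨γ, hγ, hcγ, rfl⟩ := param_surj TD.SC TD.ED hξ hξov
  have hφinv : ∀ x ∈ P, act T x φ = φ := fun x hx =>
    (param_inv_iff TD.SK TD.E hφ hc (M.hPK hx) (TD.G.hPT hx) (M.hPQ hx) (TD.hθh x hx)).1
      (hinv x hx)
  have hφinv' : ∀ x ∈ P, act T x φ' = φ' := fun x hx =>
    (param_inv_iff TD.SK TD.E hφ' hc' (M.hPK hx) (TD.G.hPT hx) (M.hPQ hx) (TD.hθh x hx)).1
      (hinv' x hx)
  rw [TD.mult M.hCK hφ hc hγ hcγ] at hm
  rw [TD.mult M.hCK hφ' hc' hγ hcγ] at hm'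
  rw [TD.G.qglaub.inj φ φ' hφ hc hφinv hφ' hc' hφinv' γ hγ hcγ m m' hm hpm hm' hpm']

/-- **Surjectivity**. -/
theorem main_surj (M : MainSetup p P K Q C) {ξ : C → ℂ} (hξ : IsIrrCharacter C ξ)
    (hξinv : ∀ x ∈ P, act C x ξ = ξ) :
    ∃ χ : K → ℂ, IsIrrCharacter K χ ∧ (∀ x ∈ P, act K x χ = χ) ∧ ∃ m : ℕ,
      classInner (fun c : C => χ ⟨c, M.hCK c.2⟩) ξ = (m : ℂ) ∧ ¬ p ∣ m := by
  classical
  obtain ⟨θ, hθ, hξov, hfix⟩ := exists_inv_const M.hQC M.hCQ M.hPQ M.hPC M.hP M.hidxC hξ hξinv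
  obtain ⟨T, D, θh, TD⟩ := exists_thetaData M hθ hfix
  haveI : Fintype T := Fintype.ofFinite _
  haveI : Fintype D := Fintype.ofFinite _
  obtain ⟨γ, hγ, hcγ, rfl⟩ := param_surj TD.SC TD.ED hξ hξov
  obtain ⟨φ, hφ, hc, hφinv, m, hm, hpm⟩ := TD.G.qglaub.surj γ hγ hcγ
  refine ⟨param TD.SK θh φ, param_irr TD.SK TD.E hφ hc, ?_, m, ?_, hpm⟩
  · intro x hx
    exact (param_inv_iff TD.SK TD.E hφ hc (M.hPK hx) (TD.G.hPT hx) (M.hPQ hx)
      (TD.hθh x hx)).2 (hφinv x hx)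
  · rw [TD.mult M.hCK hφ hc hγ hcγ]
    exact hm

end Thm

end Cfsg.Agent.Lib.Helper76.Rel
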