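import Mathlib
import Cfsg.Agent.Lib.Helper76.RelThm
import Cfsg.Agent.Lib.Helper15.PGroupSum

/-!
# The degree congruence in the relative Glauberman correspondence
-/

set_option autoImplicit false
set_option linter.style.haveILetI false
set_option linter.unusedSectionVars false

namespace Cfsg.Agent.Lib.Helper76.Rel

open Subgroup Cfsg Cfsg.Agent.Lib.Helper3 Cfsg.Agent.Lib.Helper75 Cfsg.Agent.Lib.Helper25
open Cfsg.Agent.S4447 Cfsg.Agent.S4448 Cfsg.Agent.Lib.Helper15 Cfsg.Agent.Lib.Helper82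
open scoped ComplexConjugate

universe u

variable {Γ : Type u} [Group Γ] [Finite Γ]

theorem charDegree_of_eq {H : Type*} [Group H] {χ : H → ℂ} {n : ℕ} (h : χ 1 = (n : ℂ)) :
    charDegree χ = n := by
  unfold charDegree
  rw [h]
  simp

theorem irr_one_eq_charDegree {H : Type*} [Group H] [Finite H] {χ : H → ℂ}
    (hχ : IsIrrCharacter H χ) : χ 1 = (charDegree χ : ℂ) := by
  classical
  haveI : Fintype H := Fintype.ofFinite H
  obtain ⟨n, hn, -, -⟩ := IsIrrCharacter.apply_one_dvd_card hχ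
  rw [charDegree_of_eq hn, hn]

section Deg

variable {p : ℕ} [hp : Fact p.Prime] {P K Q C : Subgroup Γ} [Fintype K] [Fintype C] [Fintype Q]

theorem deg_congr (M : MainSetup p P K Q C) {χ : K → ℂ} (hχ : IsIrrCharacter K χ)
    (hinv : ∀ x ∈ P, act K x χ = χ) {ξ₀ : C → ℂ} {ε : ℤ} (hξ₀ : IsIrrCharacter C ξ₀)
    (hξ₀inv : ∀ x ∈ P, act C x ξ₀ = ξ₀)
    (hall : ∀ ξ : C → ℂ, IsIrrCharacter C ξ → (∀ x ∈ P, act C x ξ = ξ) → ∃ m : ℕ,
        classInner (fun c : C => χ ⟨c, M.hCK c.2⟩) ξ = (m : ℂ) ∧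
        (ξ = ξ₀ → (m : ℤ) ≡ ε [ZMOD p]) ∧ (ξ ≠ ξ₀ → p ∣ m)) :
    (charDegree χ : ZMod p) = (ε : ZMod p) * (charDegree ξ₀ : ZMod p) := by
  classical
  haveI : Fintype (IrrCharacter C) := Fintype.ofFinite _
  have hres : IsCharacter C (fun c : C => χ ⟨c, M.hCK c.2⟩) :=
    isCharacter_res M.hCK (IsIrrCharacter.isCharacter hχ)
  obtain ⟨m, hm, hsum⟩ := IsCharacter.exists_mult hres
  -- the degree equation
  have hdegC : (charDegree χ : ℂ) = ∑ ξ : IrrCharacter C, (m ξ : ℂ) * (charDegree (ξ : C → ℂ) : ℂ) := by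
    rw [← irr_one_eq_charDegree hχ]
    have h1 := congrFun hsum 1
    simp only [Finset.sum_apply, Pi.smul_apply, smul_eq_mul] at h1
    have h2 : (⟨((1 : C) : Γ), M.hCK (1 : C).2⟩ : K) = 1 := rfl
    rw [h2] at h1
    rw [h1]
    refine Finset.sum_congr rfl (fun ξ _ => ?_)
    rw [irr_one_eq_charDegree ξ.2]
  have hdegN : charDegree χ = ∑ ξ : IrrCharacter C, m ξ * charDegree (ξ : C → ℂ) := by
    exact_mod_cast hdegC
  have hdegZ : (charDegree χ : ZMod p) =
      ∑ ξ : IrrCharacter C, (m ξ : ZMod p) * (charDegree (ξ : C → ℂ) : ZMod p) := by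
    rw [hdegN]
    push_cast
    rfl
  -- the action of `P`
  let _ : MulAction P (IrrCharacter C) := irrAct P C M.hPC
  have hsmul : ∀ (u : P) (ξ : IrrCharacter C),
      ((u • ξ : IrrCharacter C) : C → ℂ) = act C ((u : Γ)⁻¹) (ξ : C → ℂ) := fun u ξ => rfl
  have hresinv : ∀ x ∈ P, act C x (fun c : C => χ ⟨c, M.hCK c.2⟩) = fun c : C => χ ⟨c, M.hCK c.2⟩ := by
    intro x hx
    rw [← act_res K C M.hCK (M.hPK hx) (M.hPC hx) χ, hinv x hx]
  have hm_inv : ∀ (u : P) (ξ : IrrCharacter C), m (u • ξ) = m ξ := by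
    intro u ξ
    have h1 := hm (u • ξ)
    rw [hsmul, ← hresinv _ (inv_mem u.2), classInner_act C (M.hPC (inv_mem u.2)), hm ξ] at h1
    exact_mod_cast h1.symm
  have hdeg_inv : ∀ (u : P) (ξ : IrrCharacter C),
      charDegree ((u • ξ : IrrCharacter C) : C → ℂ) = charDegree (ξ : C → ℂ) := by
    intro u ξ
    unfold charDegree
    rw [hsmul, act_one_apply C (M.hPC (inv_mem u.2))]
  have hfixed_iff : ∀ ξ : IrrCharacter C,
      (∀ u : P, u • ξ = ξ) ↔ ∀ x ∈ P, act C x (ξ : C → ℂ) = ξ := by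
    intro ξ
    constructor
    · intro h x hx
      have h1 := congrArg Subtype.val (h ⟨x⁻¹, inv_mem hx⟩)
      rw [hsmul] at h1
      simpa using h1
    · intro h u
      apply Subtype.ext
      rw [hsmul]
      exact h _ (inv_mem u.2)
  have hfixed_inv : ∀ (u : P) (ξ : IrrCharacter C),
      (∀ v : P, v • (u • ξ) = u • ξ) ↔ (∀ v : P, v • ξ = ξ) := by
    intro u ξ
    constructor
    · intro h
      have h1 : ξ = u • ξ := by
        have := h u⁻¹
        rw [inv_smul_smul] at this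
        exact this
      intro v
      have h2 := h v
      rw [← h1] at h2
      exact h2
    · intro h v
      rw [h u, h v]
  set g : IrrCharacter C → ZMod p :=
    fun ξ => (m ξ : ZMod p) * (charDegree (ξ : C → ℂ) : ZMod p) with hg
  have hzero := sum_eq_zero_of_pgroup_invariant (Q := P) (X := IrrCharacter C) (M := ZMod p) p M.hP
    (fun a => by rw [nsmul_eq_mul, ZMod.natCast_self, zero_mul])
    (fun ξ => if (∀ u : P, u • ξ = ξ) then 0 else g ξ)
    (by
      intro u ξ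
      simp only [hfixed_inv u ξ, hg, hm_inv, hdeg_inv])
    (by
      intro ξ hξ
      rw [if_pos hξ])
  have hsplit : ∑ ξ : IrrCharacter C, g ξ =
      ∑ ξ : IrrCharacter C, (if (∀ u : P, u • ξ = ξ) then g ξ else 0) +
      ∑ ξ : IrrCharacter C, (if (∀ u : P, u • ξ = ξ) then 0 else g ξ) := by
    rw [← Finset.sum_add_distrib]
    refine Finset.sum_congr rfl (fun ξ _ => ?_)
    split_ifs <;> simp
  rw [hdegZ, hsplit, hzero, add_zero]
  rw [Finset.sum_eq_single (⟨ξ₀, hξ₀⟩ : IrrCharacter C)]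
  · rw [if_pos ((hfixed_iff _).2 hξ₀inv)]
    obtain ⟨m', hm', h1, -⟩ := hall ξ₀ hξ₀ hξ₀inv
    have hmm : m ⟨ξ₀, hξ₀⟩ = m' := by
      have := hm ⟨ξ₀, hξ₀⟩
      rw [hm'] at this
      exact_mod_cast this.symm
    have h2 := (ZMod.intCast_eq_intCast_iff _ _ _).2 (h1 rfl)
    simp only [hg, hmm]
    rw [← h2]
    push_cast
    rfl
  · intro ξ _ hne
    split_ifs with hfix
    · obtain ⟨m', hm', -, h2⟩ := hall ξ ξ.2 ((hfixed_iff ξ).1 hfix)
      have hmm : m ξ = m' := by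
        have := hm ξ
        rw [hm'] at this
        exact_mod_cast this.symm
      have hdvd := h2 (fun h => hne (Subtype.ext h))
      simp only [hg, hmm]
      rw [(ZMod.natCast_eq_zero_iff _ _).2 hdvd, zero_mul]
    · rfl
  · intro h
    exact absurd (Finset.mem_univ _) h

end Deg

end Cfsg.Agent.Lib.Helper76.Rel
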