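import Mathlib
import Cfsg.Prelude.Def_Local
import Cfsg.Agent.Lib.Helper76.PSolvable
import Cfsg.Agent.S0012
import Cfsg.Agent.S0029

set_option autoImplicit false
set_option linter.style.haveILetI false

/-!
# Hall–Higman Lemma 1.2.5

In a finite `p`-solvable group `X` with `O_{p'}(X) = 1` and `P = O_p(X)`, the centralizer of
`P / Φ(P)` in `X` is `P`.
-/

namespace Cfsg.Agent.Lib.Helper76

open Cfsg Cfsg.Agent.Lib.Helper55
open scoped commutatorElement

/-- The subgroup of elements acting trivially on `P / F` (for normal `P`, `F`). -/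
def centModulo {X : Type*} [Group X] (P F : Subgroup X) [F.Normal] : Subgroup X :=
  (Subgroup.centralizer ((P.map (QuotientGroup.mk' F) : Subgroup (X ⧸ F)) : Set (X ⧸ F))).comap
    (QuotientGroup.mk' F)

theorem mem_centModulo {X : Type*} [Group X] (P F : Subgroup X) [F.Normal] (g : X) :
    g ∈ centModulo P F ↔ ∀ x ∈ P, g * x * g⁻¹ * x⁻¹ ∈ F := by
  unfold centModulo
  rw [Subgroup.mem_comap, Subgroup.mem_centralizer_iff]
  constructor
  · intro h x hx
    have h1 := h (QuotientGroup.mk' F x) (Subgroup.mem_map_of_mem _ hx)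
    rw [← QuotientGroup.eq_one_iff (N := F)]
    have : ((g * x * g⁻¹ * x⁻¹ : X) : X ⧸ F) =
        (QuotientGroup.mk' F g) * (QuotientGroup.mk' F x) * (QuotientGroup.mk' F g)⁻¹ *
          (QuotientGroup.mk' F x)⁻¹ := by
      simp
    rw [this, ← h1]
    group
  · rintro h _ ⟨x, hx, rfl⟩
    have h1 := h x hx
    rw [← QuotientGroup.eq_one_iff (N := F)] at h1
    have : ((g * x * g⁻¹ * x⁻¹ : X) : X ⧸ F) =
        (QuotientGroup.mk' F g) * (QuotientGroup.mk' F x) * (QuotientGroup.mk' F g)⁻¹ *
          (QuotientGroup.mk' F x)⁻¹ := by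
      simp
    rw [this] at h1
    have h2 : (QuotientGroup.mk' F g) * (QuotientGroup.mk' F x) * (QuotientGroup.mk' F g)⁻¹ *
          (QuotientGroup.mk' F x)⁻¹ * (QuotientGroup.mk' F x) * (QuotientGroup.mk' F g) =
          1 * (QuotientGroup.mk' F x) * (QuotientGroup.mk' F g) := by rw [h1]
    have h3 : (QuotientGroup.mk' F g) * (QuotientGroup.mk' F x) =
        (QuotientGroup.mk' F x) * (QuotientGroup.mk' F g) := by
      simpa [mul_assoc] using h2
    exact h3.symm

instance centModulo_normal {X : Type*} [Group X] (P F : Subgroup X) [P.Normal] [F.Normal] :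
    (centModulo P F).Normal := by
  unfold centModulo
  haveI : (P.map (QuotientGroup.mk' F)).Normal :=
    Subgroup.Normal.map inferInstance _ (QuotientGroup.mk'_surjective F)
  infer_instance

/-- **Hall–Higman Lemma 1.2.5**. -/
theorem hallHigman_125 {X : Type*} [Group X] [Finite X] {p : ℕ} [Fact p.Prime]
    (hX : IsPSolvable p X) (hO : pPrimeCore p X = ⊥) (g : X) :
    (∀ x ∈ pCore p X, g * x * g⁻¹ * x⁻¹ ∈ (frattini ↥(pCore p X)).map (pCore p X).subtype) ↔
      g ∈ pCore p X := by
  haveI hPn : (pCore p X).Normal := pCore_normal' p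
  have hPp : IsPGroup p (pCore p X) := pCore_isPGroup p
  haveI hFn : ((frattini ↥(pCore p X)).map (pCore p X).subtype).Normal :=
    ConjAct.normal_of_characteristic_of_normal
  constructor
  · intro hg
    have hgC : g ∈ centModulo (pCore p X) ((frattini ↥(pCore p X)).map (pCore p X).subtype) :=
      (mem_centModulo _ _ g).2 hg
    -- `centModulo` is a normal `p`-subgroup
    have hCp : IsPGroup p (centModulo (pCore p X)
        ((frattini ↥(pCore p X)).map (pCore p X).subtype)) := by
      rintro ⟨c, hc⟩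
      obtain ⟨a, m', hm', hx⟩ : ∃ a m', ¬ p ∣ m' ∧ orderOf c = p ^ a * m' :=
        Nat.exists_eq_pow_mul_and_not_dvd (orderOf_pos c).ne' p (Nat.Prime.ne_one Fact.out)
      refine ⟨a, ?_⟩
      apply Subtype.ext
      simp only [Subgroup.coe_pow, Subgroup.coe_one]
      -- `h = c ^ (p ^ a)` is a `p'`-element of `centModulo`
      have hhC : c ^ (p ^ a) ∈ centModulo (pCore p X)
          ((frattini ↥(pCore p X)).map (pCore p X).subtype) := Subgroup.pow_mem _ hc _
      have hhm : (c ^ (p ^ a)) ^ m' = 1 := by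
        rw [← pow_mul, ← hx, pow_orderOf_eq_one]
      have hAle : Subgroup.zpowers (c ^ (p ^ a)) ≤ centModulo (pCore p X)
          ((frattini ↥(pCore p X)).map (pCore p X).subtype) := Subgroup.zpowers_le.2 hhC
      have hAcard : (Nat.card (Subgroup.zpowers (c ^ (p ^ a)))).Coprime p := by
        rw [Nat.card_zpowers]
        have : orderOf (c ^ (p ^ a)) ∣ m' := orderOf_dvd_of_pow_eq_one hhm
        exact Nat.Coprime.coprime_dvd_left this
          ((Nat.Prime.coprime_iff_not_dvd Fact.out).2 hm').symm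
      have hAnorm : Subgroup.zpowers (c ^ (p ^ a)) ≤
          Subgroup.normalizer ((pCore p X : Subgroup X) : Set X) := by
        rw [Subgroup.normalizer_eq_top]; exact le_top
      have hcop : (Nat.card (Subgroup.zpowers (c ^ (p ^ a)))).Coprime
          (Nat.card (frattini ↥(pCore p X))) := by
        have : IsPGroup p (frattini ↥(pCore p X)) := hPp.to_subgroup _
        obtain ⟨k, hk⟩ := IsPGroup.iff_card.1 this
        rw [hk]
        exact Nat.Coprime.pow_right k hAcard
      have hcen := Cfsg.Agent.S0029.result (Subgroup.zpowers (c ^ (p ^ a))) (pCore p X) hAnorm hcop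
        (fun b hb k hk => (mem_centModulo _ _ b).1 (hAle hb) k hk)
      have hhP : c ^ (p ^ a) ∈ pCore p X :=
        centralizer_pCore_le_of_isPSolvable hX hO (hcen (Subgroup.mem_zpowers _))
      obtain ⟨l, hl⟩ := hPp ⟨_, hhP⟩
      have hl' : (c ^ (p ^ a)) ^ (p ^ l) = 1 := by
        have := congrArg Subtype.val hl
        simpa using this
      -- order divides `m'` and `p ^ l`
      have d1 : orderOf (c ^ (p ^ a)) ∣ m' := orderOf_dvd_of_pow_eq_one hhm
      have d2 : orderOf (c ^ (p ^ a)) ∣ p ^ l := orderOf_dvd_of_pow_eq_one hl'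
      have hc' : (m').Coprime (p ^ l) :=
        Nat.Coprime.pow_right l ((Nat.Prime.coprime_iff_not_dvd Fact.out).2 hm').symm
      have : orderOf (c ^ (p ^ a)) ∣ 1 := by
        have := Nat.dvd_gcd d1 d2
        rwa [hc'] at this
      exact orderOf_eq_one_iff.mp (Nat.dvd_one.mp this)
    exact le_pCore p _ hCp hgC
  · intro hg x hx
    have h1 := (Cfsg.Agent.S0012.result (G := ↥(pCore p X)) p hPp).1
    have h2 : ⁅(⟨g, hg⟩ : ↥(pCore p X)), (⟨x, hx⟩ : ↥(pCore p X))⁆ ∈ commutator ↥(pCore p X) :=
      Subgroup.commutator_mem_commutator (Subgroup.mem_top _) (Subgroup.mem_top _)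
    refine ⟨_, h1 h2, ?_⟩
    simp [commutatorElement_def]

end Cfsg.Agent.Lib.Helper76
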