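import Mathlib
import Cfsg.Prelude.Def_OddOrderChar
import Cfsg.Agent.Lib.Helper3.FeitCrit
import Cfsg.Agent.Lib.Helper3.TIFNAb
import Cfsg.Agent.Lib.Helper25.Coherence

set_option autoImplicit false
set_option linter.style.haveILetI false
set_option linter.unusedSectionVars false

/-!
Coherence tools: sets of irreducible characters of the same degree, and repeated use of Feit's
criterion.
-/

namespace Cfsg.Agent.Lib.Helper76

open Cfsg
open scoped ComplexConjugate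
open Cfsg.Agent.Lib.Helper25 (zspan_add zspan_neg zspan_sub zspan_zsmul zspan_zero zspan_mono
  subset_zspan mem_zspanOn_one zspanOn_add zspanOn_neg zspanOn_sub zspanOn_zsmul zspanOn_mono
  zspanOn_zero)

section SameDegree

variable {L : Type*} [Group L] [Fintype L] {G : Type*} [Group G] [Fintype G]

theorem isLinearIsometryOn_mono {E F : Set (L → ℂ)} {τ : (L → ℂ) → (G → ℂ)} (h : E ⊆ F)
    (hτ : IsLinearIsometryOn F τ) : IsLinearIsometryOn E τ :=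
  ⟨fun α hα β hβ => hτ.1 α (h hα) β (h hβ), fun α hα n => hτ.2.1 α (h hα) n,
   fun α hα β hβ => hτ.2.2.1 α (h hα) β (h hβ), fun α hα => hτ.2.2.2 α (h hα)⟩

/-- A set of at least two irreducible characters of the same degree is coherent. -/
theorem coherent_of_same_degree (T : Set (L → ℂ)) (hirr : ∀ χ ∈ T, IsIrrCharacter L χ)
    (d : ℂ) (hd : d ≠ 0) (hdeg : ∀ χ ∈ T, χ 1 = d)
    (h2 : ∃ a ∈ T, ∃ b ∈ T, a ≠ b)
    (τ : (L → ℂ) → (G → ℂ)) (hτ : IsLinearIsometryOn (zspanOn T ({1}ᶜ : Set L)) τ)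
    (hτ1 : ∀ α ∈ zspanOn T ({1}ᶜ : Set L), τ α 1 = 0) :
    IsCoherent T ({1}ᶜ : Set L) τ := by
  classical
  obtain ⟨χ₁, hχ₁, χ₂, hχ₂, h12⟩ := h2
  have hdiff : ∀ χ ∈ T, ∀ ξ ∈ T, χ - ξ ∈ zspanOn T ({1}ᶜ : Set L) := by
    intro χ hχ ξ hξ
    rw [mem_zspanOn_one]
    exact ⟨zspan_sub (subset_zspan hχ) (subset_zspan hξ),
      by rw [Pi.sub_apply, hdeg χ hχ, hdeg ξ hξ, sub_self]⟩
  refine ⟨⟨χ₁ - χ₂, hdiff χ₁ hχ₁ χ₂ hχ₂, sub_ne_zero.mpr h12⟩, ?_⟩
  have hinn : ∀ χ ∈ T, ∀ ξ ∈ T, classInner χ ξ = if χ = ξ then 1 else 0 :=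
    fun χ hχ ξ hξ => Cfsg.Agent.Lib.Helper3.classInner_irr (hirr χ hχ) (hirr ξ hξ)
  obtain ⟨ε, f, hε, hinj, hD⟩ := Cfsg.Agent.Lib.Helper3.coherent_of_differences
    (R := T) (fun χ ξ => τ ((χ : L → ℂ) - (ξ : L → ℂ))) (by
      intro χ ξ η
      show τ _ + τ _ = τ _
      rw [← hτ.1 _ (hdiff _ χ.2 _ ξ.2) _ (hdiff _ ξ.2 _ η.2), sub_add_sub_cancel])
    (fun χ ξ => hτ.2.2.2 _ (hdiff _ χ.2 _ ξ.2))
    (fun χ ξ => hτ1 _ (hdiff _ χ.2 _ ξ.2))
    (by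
      intro χ ξ η hξ hη
      show classInner (τ _) (τ _) = _
      rw [hτ.2.2.1 _ (hdiff _ χ.2 _ ξ.2) _ (hdiff _ χ.2 _ η.2),
        Cfsg.Agent.Lib.Helper25.classInner_sub_left,
        Cfsg.Agent.Lib.Helper25.classInner_sub_right,
        Cfsg.Agent.Lib.Helper25.classInner_sub_right,
        hinn _ χ.2 _ χ.2, hinn _ χ.2 _ η.2, hinn _ ξ.2 _ χ.2, hinn _ ξ.2 _ η.2,
        if_pos rfl, if_neg (fun h => hη (Subtype.ext h)),
        if_neg (fun h => hξ (Subtype.ext h).symm)]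
      by_cases h : ξ = η
      · rw [if_pos h, if_pos (congrArg Subtype.val h)]; norm_num
      · rw [if_neg h, if_neg (fun h' => h (Subtype.ext h'))]; norm_num)
  have hεε : ε * conj ε = 1 := by
    rcases hε with h | h <;> rw [h] <;> simp
  have hff : ∀ x y : T, classInner (f x : G → ℂ) (f y : G → ℂ) = if x = y then 1 else 0 := by
    intro x y
    rw [Cfsg.Agent.Lib.Helper3.irrCharacter_inner]
    by_cases h : x = y
    · rw [if_pos h, if_pos (congrArg f h)]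
    · rw [if_neg h, if_neg (fun h' => h (hinj h'))]
  have hτD : ∀ χ (hχ : χ ∈ T), τ (χ₁ - χ) =
      ε • ((f ⟨χ₁, hχ₁⟩ : G → ℂ) - (f ⟨χ, hχ⟩ : G → ℂ)) := fun χ hχ => hD ⟨χ₁, hχ₁⟩ ⟨χ, hχ⟩
  apply Cfsg.Agent.Lib.Helper25.exists_extension_of_vector hd hdeg hχ₁ hτ
    (ε • (f ⟨χ₁, hχ₁⟩ : G → ℂ))
  · rcases hε with h | h
    · rw [h, one_smul]
      exact Cfsg.Agent.Lib.Helper25.genChar_of_char
        (Cfsg.Agent.Lib.Helper3.IsIrrCharacter.isCharacter (f ⟨χ₁, hχ₁⟩).2)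
    · rw [h, neg_one_smul]
      exact Cfsg.Agent.Lib.Helper25.genChar_neg (Cfsg.Agent.Lib.Helper25.genChar_of_char
        (Cfsg.Agent.Lib.Helper3.IsIrrCharacter.isCharacter (f ⟨χ₁, hχ₁⟩).2))
  · rw [Cfsg.Agent.Lib.Helper25.classInner_smul_left,
      Cfsg.Agent.Lib.Helper25.classInner_smul_right, hff, if_pos rfl, hinn _ hχ₁ _ hχ₁, if_pos rfl,
      mul_one]
    exact hεε
  · intro χ hχ
    rw [hτD χ hχ, Cfsg.Agent.Lib.Helper25.classInner_smul_left,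
      Cfsg.Agent.Lib.Helper25.classInner_smul_right,
      Cfsg.Agent.Lib.Helper25.classInner_sub_right, hff, hff, if_pos rfl,
      Cfsg.Agent.Lib.Helper25.classInner_sub_right, hinn _ hχ₁ _ hχ₁, hinn _ hχ₁ _ hχ, if_pos rfl]
    by_cases h : χ₁ = χ
    · rw [if_pos h, if_pos (Subtype.ext h)]; simp
    · rw [if_neg h, if_neg (fun h' => h (congrArg Subtype.val h'))]
      rw [sub_zero, mul_one]; exact hεε
  · intro χ hχ
    rw [hτD χ hχ, Cfsg.Agent.Lib.Helper25.classInner_smul_left,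
      Cfsg.Agent.Lib.Helper25.classInner_smul_right,
      Cfsg.Agent.Lib.Helper25.classInner_sub_left, hff, hff, if_pos rfl,
      Cfsg.Agent.Lib.Helper25.classInner_sub_left, hinn _ hχ₁ _ hχ₁, hinn _ hχ _ hχ₁, if_pos rfl]
    by_cases h : χ = χ₁
    · rw [if_pos h, if_pos (Subtype.ext h)]; simp
    · rw [if_neg h, if_neg (fun h' => h (congrArg Subtype.val h'))]
      rw [sub_zero, mul_one]; exact hεε

end SameDegree

section AddMany

variable {L : Type*} [Group L] [Fintype L] {G : Type*} [Group G] [Fintype G]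

/-- Repeated use of Feit's criterion. -/
theorem coherent_add_many [DecidableEq (L → ℂ)] (S₀ S₁ : Finset (L → ℂ)) (hsub : S₀ ⊆ S₁)
    (hirr : ∀ ξ ∈ S₁, IsIrrCharacter L ξ)
    (d : (L → ℂ) → ℕ) (hd : ∀ ξ ∈ S₁, ξ 1 = (d ξ : ℂ))
    (τ : (L → ℂ) → (G → ℂ))
    (hτ : IsLinearIsometryOn (zspanOn (↑S₁ : Set (L → ℂ)) ({1}ᶜ : Set L)) τ)
    (hτ1 : ∀ α ∈ zspanOn (↑S₁ : Set (L → ℂ)) ({1}ᶜ : Set L), τ α 1 = 0)
    (hcoh : IsCoherent (↑S₀ : Set (L → ℂ)) ({1}ᶜ : Set L) τ)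
    (ψ : L → ℂ) (hψ : ψ ∈ S₀)
    (hstep : ∀ χ ∈ S₁, χ ∉ S₀ → d ψ ∣ d χ ∧ 2 * d ψ * d χ < ∑ ξ ∈ S₀, d ξ ^ 2) :
    IsCoherent (↑S₁ : Set (L → ℂ)) ({1}ᶜ : Set L) τ := by
  have key : ∀ U : Finset (L → ℂ), U ⊆ S₁ → Disjoint U S₀ →
      IsCoherent (↑(S₀ ∪ U) : Set (L → ℂ)) ({1}ᶜ : Set L) τ := by
    intro U
    induction U using Finset.induction_on with
    | empty =>
      intro _ _
      rw [Finset.union_empty]
      exact hcoh
    | insert χ U hχU ih =>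
      intro hU hdisj
      have hU' : U ⊆ S₁ := fun x hx => hU (Finset.mem_insert_of_mem hx)
      have hdisj' : Disjoint U S₀ := by
        rw [Finset.disjoint_left] at hdisj ⊢
        intro x hx
        exact hdisj (Finset.mem_insert_of_mem hx)
      have hχS₁ : χ ∈ S₁ := hU (Finset.mem_insert_self _ _)
      have hχS₀ : χ ∉ S₀ := by
        rw [Finset.disjoint_left] at hdisj
        exact hdisj (Finset.mem_insert_self _ _)
      have hχT : χ ∉ S₀ ∪ U := by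
        rw [Finset.mem_union]
        rintro (h | h)
        · exact hχS₀ h
        · exact hχU h
      have hTS₁ : S₀ ∪ U ⊆ S₁ := Finset.union_subset hsub hU'
      have hins : (insert χ (↑(S₀ ∪ U) : Set (L → ℂ))) ⊆ (↑S₁ : Set (L → ℂ)) := by
        intro x hx
        rcases hx with rfl | hx
        · exact Finset.mem_coe.mpr hχS₁
        · exact Finset.mem_coe.mpr (hTS₁ (Finset.mem_coe.mp hx))
      have e : (↑(S₀ ∪ insert χ U) : Set (L → ℂ)) = insert χ (↑(S₀ ∪ U) : Set (L → ℂ)) := by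
        rw [Finset.union_insert, Finset.coe_insert]
      rw [e]
      obtain ⟨hdvd, hlt⟩ := hstep χ hχS₁ hχS₀
      apply Cfsg.Agent.Lib.Helper3.feit_criterion (S₀ ∪ U) χ (fun ξ hξ => hirr ξ (hTS₁ hξ))
        (hirr χ hχS₁) hχT d (hd χ hχS₁) (fun ξ hξ => hd ξ (hTS₁ hξ)) τ
        (isLinearIsometryOn_mono (zspanOn_mono hins) hτ)
        (fun α hα => hτ1 α (zspanOn_mono hins hα)) (ih hU' hdisj') ψ
        (Finset.mem_union_left _ hψ) hdvd
      calc 2 * d ψ * d χ < ∑ ξ ∈ S₀, d ξ ^ 2 := hlt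
        _ ≤ ∑ ξ ∈ S₀ ∪ U, d ξ ^ 2 :=
          Finset.sum_le_sum_of_subset (Finset.subset_union_left)
  have h := key (S₁ \ S₀) Finset.sdiff_subset (Finset.sdiff_disjoint)
  rwa [Finset.union_sdiff_of_subset hsub] at h

end AddMany

end Cfsg.Agent.Lib.Helper76
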