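import Mathlib
import Cfsg.Agent.Lib.Helper25.FrobQuot
import Cfsg.Agent.Lib.Helper55.ClassSizeNilp

set_option autoImplicit false
set_option linter.style.haveILetI false
set_option linter.unusedSectionVars false

/-!
Group theory for Feit's coherence theorem for Frobenius groups: the relative centre `zc H C`,
minimal normal subgroups above `C`, and prime power indices.
-/

namespace Cfsg.Agent.Lib.Helper76

section Zc

variable {N : Type*} [Group N]

/-- The elements `x ∈ H` with `[x, H] ≤ C`: the preimage in `H` of the centre of `H/C`. -/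
def zc (H C : Subgroup N) [hC : C.Normal] : Subgroup N where
  carrier := {x | x ∈ H ∧ ∀ y ∈ H, x * y * x⁻¹ * y⁻¹ ∈ C}
  one_mem' := ⟨H.one_mem, fun y _ => by
    have : (1 : N) * y * 1⁻¹ * y⁻¹ = 1 := by group
    rw [this]; exact C.one_mem⟩
  mul_mem' := by
    rintro a b ⟨ha, ha'⟩ ⟨hb, hb'⟩
    refine ⟨H.mul_mem ha hb, fun y hy => ?_⟩
    have e : a * b * y * (a * b)⁻¹ * y⁻¹ = a * (b * y * b⁻¹ * y⁻¹) * a⁻¹ * (a * y * a⁻¹ * y⁻¹) := by
      group
    rw [e]
    exact C.mul_mem (hC.conj_mem _ (hb' y hy) a) (ha' y hy)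
  inv_mem' := by
    rintro a ⟨ha, ha'⟩
    refine ⟨H.inv_mem ha, fun y hy => ?_⟩
    have e : a⁻¹ * y * a⁻¹⁻¹ * y⁻¹ = (a⁻¹ * (a * y * a⁻¹ * y⁻¹) * a⁻¹⁻¹)⁻¹ := by group
    rw [e]
    exact C.inv_mem (hC.conj_mem _ (ha' y hy) a⁻¹)

theorem mem_zc {H C : Subgroup N} [C.Normal] {x : N} :
    x ∈ zc H C ↔ x ∈ H ∧ ∀ y ∈ H, x * y * x⁻¹ * y⁻¹ ∈ C := Iff.rfl

theorem zc_le (H C : Subgroup N) [C.Normal] : zc H C ≤ H := fun _ hx => hx.1

theorem le_zc {H C : Subgroup N} [hC : C.Normal] (hCH : C ≤ H) : C ≤ zc H C := by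
  intro c hc
  refine ⟨hCH hc, fun y _ => ?_⟩
  have e : c * y * c⁻¹ * y⁻¹ = c * (y * c⁻¹ * y⁻¹) := by group
  rw [e]
  exact C.mul_mem hc (hC.conj_mem _ (C.inv_mem hc) y)

instance zc_normal (H C : Subgroup N) [hH : H.Normal] [hC : C.Normal] : (zc H C).Normal where
  conj_mem := by
    rintro a ⟨ha, ha'⟩ g
    refine ⟨hH.conj_mem a ha g, fun y hy => ?_⟩
    have e : g * a * g⁻¹ * y * (g * a * g⁻¹)⁻¹ * y⁻¹ =
        g * (a * (g⁻¹ * y * g⁻¹⁻¹) * a⁻¹ * (g⁻¹ * y * g⁻¹⁻¹)⁻¹) * g⁻¹ := by group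
    rw [e]
    exact hC.conj_mem _ (ha' _ (hH.conj_mem y hy g⁻¹)) g

theorem commutator_le_of_le_zc {H C D : Subgroup N} [C.Normal] (hD : D ≤ zc H C) :
    ⁅D, H⁆ ≤ C := by
  rw [Subgroup.commutator_le]
  intro x hx y hy
  rw [commutatorElement_def]
  exact (hD hx).2 y hy

/-- In a nilpotent `H`, for `C < H'` normal, the relative centre meets `H' \ C`. -/
theorem exists_mem_zc_commutator {H C : Subgroup N} [hC : C.Normal]
    (hnil : Group.IsNilpotent H) (hCH' : C ≤ ⁅H, H⁆) (hne : C ≠ ⁅H, H⁆) :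
    ∃ x, x ∈ zc H C ∧ x ∈ ⁅H, H⁆ ∧ x ∉ C := by
  classical
  obtain ⟨m, hm⟩ := (Subgroup.isNilpotent_iff_lowerCentralSeries H).mp hnil
  have hex : ∃ n, H.lowerCentralSeries n ≤ C := ⟨m, by rw [hm]; exact bot_le⟩
  have h1 : ¬ H.lowerCentralSeries 1 ≤ C := by
    intro h
    apply hne
    apply le_antisymm hCH'
    rw [Subgroup.lowerCentralSeries_succ, Subgroup.lowerCentralSeries_zero] at h
    exact h
  have h0 : ¬ H.lowerCentralSeries 0 ≤ C := by
    intro h
    apply h1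
    exact (Subgroup.lowerCentralSeries_antitone H (Nat.zero_le 1)).trans h
  have hmin : ∀ {j : ℕ}, j < Nat.find hex → ¬ H.lowerCentralSeries j ≤ C :=
    fun {j} hj => Nat.find_min hex hj
  have hspec := Nat.find_spec hex
  set n := Nat.find hex with hn
  have hn2 : 2 ≤ n := by
    by_contra hlt
    push Not at hlt
    interval_cases n
    · exact h0 hspec
    · exact h1 hspec
  obtain ⟨k, hk⟩ : ∃ k, n = k + 2 := ⟨n - 2, by omega⟩
  have hnot : ¬ H.lowerCentralSeries (k + 1) ≤ C := hmin (by omega)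
  obtain ⟨x, hx, hxC⟩ := SetLike.not_le_iff_exists.mp hnot
  refine ⟨x, ⟨?_, ?_⟩, ?_, hxC⟩
  · exact Subgroup.lowerCentralSeries_le_self H _ hx
  · intro y hy
    rw [← commutatorElement_def]
    apply hspec
    rw [hk, Subgroup.lowerCentralSeries_succ]
    exact Subgroup.commutator_mem_commutator hx hy
  · have := Subgroup.lowerCentralSeries_antitone H (show 1 ≤ k + 1 by omega) hx
    rw [Subgroup.lowerCentralSeries_succ, Subgroup.lowerCentralSeries_zero] at this
    exact this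

end Zc

section Minimal

variable {N : Type*} [Group N] [Finite N]

/-- A minimal normal subgroup strictly above `C` inside `E`. -/
theorem exists_minimal_normal_above {C E : Subgroup N} [E.Normal] (hCE : C < E) :
    ∃ D : Subgroup N, D.Normal ∧ C < D ∧ D ≤ E ∧
      ∀ M : Subgroup N, M.Normal → C < M → M ≤ D → M = D := by
  classical
  have hex : ∃ n, ∃ D : Subgroup N, D.Normal ∧ C < D ∧ D ≤ E ∧ Nat.card D = n :=
    ⟨Nat.card E, E, inferInstance, hCE, le_rfl, rfl⟩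
  obtain ⟨D, hDn, hCD, hDE, hcard⟩ := Nat.find_spec hex
  refine ⟨D, hDn, hCD, hDE, ?_⟩
  intro M hMn hCM hMD
  apply Subgroup.eq_of_le_of_card_ge hMD
  by_contra hlt
  push Not at hlt
  rw [hcard] at hlt
  exact Nat.find_min hex hlt ⟨M, hMn, hCM, hMD.trans hDE, rfl⟩

/-- The index of `C` in a minimal normal subgroup above it inside the relative centre is a
prime power. -/
theorem relIndex_prime_pow_of_minimal {H C D : Subgroup N} [hCn : C.Normal] [hDn : D.Normal]
    (hCD : C < D) (hDz : D ≤ zc H C)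
    (hmin : ∀ M : Subgroup N, M.Normal → C < M → M ≤ D → M = D) :
    ∃ p j : ℕ, p.Prime ∧ C.relIndex D = p ^ j := by
  by_contra hnpp
  have hcomm : ⁅D, D⁆ ≤ C :=
    (Subgroup.commutator_mono le_rfl (hDz.trans (zc_le H C))).trans (commutator_le_of_le_zc hDz)
  have hne1 : C.relIndex D ≠ 1 := by
    intro h
    rw [Subgroup.relIndex_eq_one] at h
    exact not_le_of_gt hCD h
  obtain ⟨M, hMn, hCM, hMD⟩ :=
    Cfsg.Agent.Lib.Helper25.exists_intermediate_of_not_prime_pow D C hCD.le hcomm hne1 hnpp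
  exact hMD.ne (hmin M hMn hCM hMD.le)

/-- If the centre of `H/C` has order `p ^ j`, every prime dividing `|H : C|` equals `p`. -/
theorem prime_eq_of_zc_relIndex {H C : Subgroup N} [hCn : C.Normal]
    (hnil : Group.IsNilpotent H) {p j : ℕ} (hp : p.Prime)
    (hidx : C.relIndex (zc H C) = p ^ j) {q : ℕ} (hq : q.Prime) (hqd : q ∣ C.relIndex H) :
    q = p := by
  by_contra hne
  haveI : Fact q.Prime := ⟨hq⟩
  haveI : (C.subgroupOf H).Normal := Subgroup.normal_subgroupOf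
  have hcard : Nat.card (↥H ⧸ C.subgroupOf H) = C.relIndex H :=
    (Subgroup.index_eq_card (C.subgroupOf H)).symm
  obtain ⟨z, hzc, hzo⟩ := Cfsg.Agent.Lib.Helper55.exists_central_orderOf_eq_prime q
    (↥H ⧸ C.subgroupOf H) (by rw [hcard]; exact hqd)
  obtain ⟨x, rfl⟩ := QuotientGroup.mk'_surjective _ z
  have hmk1 : ∀ w : ↥H, QuotientGroup.mk' (C.subgroupOf H) w = 1 ↔ (w : N) ∈ C := by
    intro w
    rw [← MonoidHom.mem_ker, QuotientGroup.ker_mk', Subgroup.mem_subgroupOf]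
  have hxz : (x : N) ∈ zc H C := by
    refine ⟨x.2, fun y hy => ?_⟩
    have h1 := Subgroup.mem_center_iff.mp hzc (QuotientGroup.mk' (C.subgroupOf H) ⟨y, hy⟩)
    have h2 : QuotientGroup.mk' (C.subgroupOf H) (x * ⟨y, hy⟩ * x⁻¹ * (⟨y, hy⟩ : ↥H)⁻¹) = 1 := by
      rw [map_mul, map_mul, map_mul, map_inv, map_inv, ← h1]
      group
    exact (hmk1 _).mp h2
  have hxC : (x : N) ∉ C := by
    intro h
    have h1 := (hmk1 x).mpr h
    rw [h1, orderOf_one] at hzo
    exact hq.one_lt.ne hzo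
  have hxq : (x : N) ^ q ∈ C := by
    have h1 : QuotientGroup.mk' (C.subgroupOf H) (x ^ q) = 1 := by
      rw [map_pow, ← hzo, pow_orderOf_eq_one]
    exact (hmk1 _).mp h1
  have hxp : (x : N) ^ (p ^ j) ∈ C := by
    haveI : (C.subgroupOf (zc H C)).Normal := Subgroup.normal_subgroupOf
    have h1 := Subgroup.pow_index_mem (C.subgroupOf (zc H C)) (⟨x, hxz⟩ : ↥(zc H C))
    rw [Subgroup.mem_subgroupOf] at h1
    have h2 : (C.subgroupOf (zc H C)).index = p ^ j := hidx
    rw [h2] at h1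
    exact h1
  apply hxC
  have hcop : Nat.Coprime q (p ^ j) := Nat.Coprime.pow_right j ((Nat.coprime_primes hq hp).mpr hne)
  have ho1 : orderOf (QuotientGroup.mk' C (x : N)) ∣ q := by
    apply orderOf_dvd_of_pow_eq_one
    rw [← map_pow]
    exact (QuotientGroup.eq_one_iff _).mpr hxq
  have ho2 : orderOf (QuotientGroup.mk' C (x : N)) ∣ p ^ j := by
    apply orderOf_dvd_of_pow_eq_one
    rw [← map_pow]
    exact (QuotientGroup.eq_one_iff _).mpr hxp
  have ho : orderOf (QuotientGroup.mk' C (x : N)) = 1 :=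
    Nat.eq_one_of_dvd_coprimes hcop ho1 ho2
  rw [orderOf_eq_one_iff] at ho
  exact (QuotientGroup.eq_one_iff _).mp ho

end Minimal

end Cfsg.Agent.Lib.Helper76
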