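import Mathlib
import Cfsg.Prelude.Def_OddOrderChar
import Cfsg.Agent.Lib.Helper76.FeitFrobGrp
import Cfsg.Agent.Lib.Helper3.FrobKer
import Cfsg.Agent.Lib.Helper19.FpfPrime
import Cfsg.Agent.Lib.Helper25.KerSum
import Cfsg.Agent.Lib.Helper25.CohMax
import Cfsg.Agent.Lib.Helper25.CohAbelian
import Cfsg.Agent.Lib.Helper25.ZKer
import Cfsg.Agent.S1528

set_option autoImplicit false
set_option linter.style.haveILetI false
set_option linter.unusedSectionVars false

/-!
Characters of a Frobenius group `N` with kernel `H` that do not contain `H` in their kernel: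
degrees, masses and congruences.
-/

namespace Cfsg.Agent.Lib.Helper76

open Cfsg
open scoped ComplexConjugate commutatorElement

section Nilp

variable {N : Type*} [Group N] [Fintype N] (H : Subgroup N) [hH : H.Normal]

theorem frob_hF (hC : ∀ h ∈ H, h ≠ 1 → Subgroup.centralizer ({h} : Set N) ≤ H) :
    ∀ k ∈ H, k ≠ 1 → ∀ x : N, x * k = k * x → x ∈ H := by
  intro k hk hk1 x hx
  apply hC k hk hk1
  rw [Subgroup.mem_centralizer_iff]
  intro y hy
  rw [Set.mem_singleton_iff] at hy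
  rw [hy]
  exact hx.symm

/-- Thompson: a Frobenius kernel is nilpotent. -/
theorem frob_kernel_nilpotent (hH2 : H ≠ ⊤)
    (hC : ∀ h ∈ H, h ≠ 1 → Subgroup.centralizer ({h} : Set N) ≤ H) : Group.IsNilpotent H := by
  classical
  have hF := frob_hF H hC
  have hcop := Cfsg.Agent.Lib.Helper3.frobKer_coprime H hF
  have he1 : H.index ≠ 1 := fun h => hH2 (Subgroup.index_eq_one.mp h)
  obtain ⟨p, hp, hpe⟩ := Nat.exists_prime_and_dvd he1
  haveI : Fact p.Prime := ⟨hp⟩
  have hpN : p ∣ Nat.card N := hpe.trans (Subgroup.index_dvd_card H)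
  obtain ⟨y, hy⟩ := exists_prime_orderOf_dvd_card' p hpN
  have hyH : y ∉ H := by
    intro h
    have h1 : p ∣ Nat.card H := by
      rw [← hy]
      have := orderOf_dvd_natCard (⟨y, h⟩ : H)
      rwa [← Subgroup.orderOf_coe] at this
    have := Nat.dvd_gcd h1 hpe
    rw [hcop] at this
    exact hp.one_lt.ne' (Nat.dvd_one.mp this)
  let φ : H ≃* H := MulAut.conjNormal y
  have hφ : ∀ n : H, ((φ n : H) : N) = y * n * y⁻¹ := fun n => MulAut.conjNormal_apply y n
  have hiter : ∀ (k : ℕ) (n : H), (((⇑φ)^[k] n : H) : N) = y ^ k * n * (y ^ k)⁻¹ := by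
    intro k
    induction k with
    | zero => intro n; simp
    | succ k ih =>
      intro n
      rw [Function.iterate_succ_apply', hφ, ih, pow_succ']
      group
  apply Cfsg.Agent.Lib.Helper19.thompson_fpf hp φ
  constructor
  · intro n hn
    by_contra hn1
    have h1 : y * (n : N) * y⁻¹ = n := by
      rw [← hφ, hn]
    have hcomm : y * (n : N) = (n : N) * y := by
      calc y * (n : N) = (y * (n : N) * y⁻¹) * y := by group
        _ = (n : N) * y := by rw [h1]
    exact hyH (hF (n : N) n.2 (fun h => hn1 (Subtype.ext h)) y hcomm)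
  · intro n
    apply Subtype.ext
    rw [hiter, ← hy, pow_orderOf_eq_one]
    group

end Nilp

section FrobChar

variable {N : Type*} [Group N] [Fintype N] [Fintype (IrrCharacter N)]
  (H : Subgroup N) [hH : H.Normal]

/-- The degree as a natural number. -/
noncomputable def natDeg (χ : N → ℂ) : ℕ := Nat.floor ‖χ 1‖

theorem natDeg_spec {χ : N → ℂ} (hχ : IsIrrCharacter N χ) : χ 1 = (natDeg χ : ℂ) := by
  obtain ⟨n, _, hn⟩ := Cfsg.Agent.Lib.Helper25.irr_degree hχ
  unfold natDeg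
  rw [hn, Complex.norm_natCast, Nat.floor_natCast]

theorem natDeg_pos {χ : N → ℂ} (hχ : IsIrrCharacter N χ) : 0 < natDeg χ := by
  obtain ⟨n, hn0, hn⟩ := Cfsg.Agent.Lib.Helper25.irr_degree hχ
  have := natDeg_spec hχ
  rw [hn] at this
  have : n = natDeg χ := by exact_mod_cast this
  omega

open Classical in
/-- The irreducible characters of `N` not containing `H` in their kernel but containing `D`. -/
noncomputable def relIrr (D : Subgroup N) : Finset (N → ℂ) :=
  (Finset.univ.filter (fun χ : IrrCharacter N =>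
    (∃ h ∈ H, (χ : N → ℂ) h ≠ (χ : N → ℂ) 1) ∧ ∀ x ∈ D, (χ : N → ℂ) x = (χ : N → ℂ) 1)).image
      (fun χ : IrrCharacter N => χ.1)

theorem mem_relIrr {D : Subgroup N} {χ : N → ℂ} : χ ∈ relIrr H D ↔
    IsIrrCharacter N χ ∧ (∃ h ∈ H, χ h ≠ χ 1) ∧ ∀ x ∈ D, χ x = χ 1 := by
  classical
  unfold relIrr
  rw [Finset.mem_image]
  constructor
  · rintro ⟨θ, hθ, rfl⟩
    rw [Finset.mem_filter] at hθ
    exact ⟨θ.2, hθ.2.1, hθ.2.2⟩
  · rintro ⟨h1, h2, h3⟩
    exact ⟨⟨χ, h1⟩, by rw [Finset.mem_filter]; exact ⟨Finset.mem_univ _, h2, h3⟩, rfl⟩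

theorem coe_relIrr_bot : (↑(relIrr H ⊥) : Set (N → ℂ)) =
    {χ : N → ℂ | IsIrrCharacter N χ ∧ ∃ h ∈ H, χ h ≠ χ 1} := by
  ext χ
  rw [Finset.mem_coe, mem_relIrr, Set.mem_ofPred_eq]
  constructor
  · rintro ⟨h1, h2, _⟩
    exact ⟨h1, h2⟩
  · rintro ⟨h1, h2⟩
    refine ⟨h1, h2, fun x hx => ?_⟩
    rw [Subgroup.mem_bot] at hx
    rw [hx]

theorem relIrr_anti {C D : Subgroup N} (h : C ≤ D) : relIrr H D ⊆ relIrr H C := by
  intro χ hχ
  rw [mem_relIrr] at hχ ⊢
  exact ⟨hχ.1, hχ.2.1, fun x hx => hχ.2.2 x (h hx)⟩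

theorem relIrr_subset_bot (D : Subgroup N) : relIrr H D ⊆ relIrr H ⊥ := relIrr_anti H bot_le

/-- The mass of `relIrr H D`. -/
theorem sum_relIrr (D : Subgroup N) [hD : D.Normal] (hDH : D ≤ H) :
    ∑ χ ∈ relIrr H D, natDeg χ ^ 2 + H.index = D.relIndex H * H.index := by
  classical
  have h1 := Cfsg.Agent.Lib.Helper25.sum_sq_degree_kernel D
  have h2 := Cfsg.Agent.Lib.Helper25.sum_sq_degree_kernel H
  have hcast : ((∑ χ ∈ relIrr H D, natDeg χ ^ 2 + H.index : ℕ) : ℂ) =
      ((D.relIndex H * H.index : ℕ) : ℂ) := by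
    rw [Subgroup.relIndex_mul_index hDH, ← h1]
    push_cast
    rw [← h2]
    unfold relIrr
    rw [Finset.sum_image (fun x _ y _ h => Subtype.ext h)]
    have e1 : ∀ θ : IrrCharacter N, ((natDeg (θ : N → ℂ) : ℂ)) ^ 2 = ((θ : N → ℂ) 1) ^ 2 := by
      intro θ
      rw [← natDeg_spec θ.2]
    rw [Finset.sum_congr rfl (fun θ _ => e1 θ)]
    rw [← Finset.sum_filter_add_sum_filter_not
      (Finset.univ.filter (fun θ : IrrCharacter N => ∀ a : D, (θ : N → ℂ) a = (θ : N → ℂ) 1))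
      (fun θ : IrrCharacter N => ∃ h ∈ H, (θ : N → ℂ) h ≠ (θ : N → ℂ) 1)]
    rw [Finset.filter_filter, Finset.filter_filter]
    congr 1
    · apply Finset.sum_congr _ (fun _ _ => rfl)
      ext θ
      simp only [Finset.mem_filter, Finset.mem_univ, true_and]
      constructor
      · rintro ⟨h, h'⟩
        exact ⟨fun a => h' a a.2, h⟩
      · rintro ⟨h, h'⟩
        exact ⟨h', fun x hx => h ⟨x, hx⟩⟩
    · apply Finset.sum_congr _ (fun _ _ => rfl)
      ext θ
      simp only [Finset.mem_filter, Finset.mem_univ, true_and]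
      constructor
      · intro h
        refine ⟨fun a => h ⟨a, hDH a.2⟩, ?_⟩
        rintro ⟨x, hx, hne⟩
        exact hne (h ⟨x, hx⟩)
      · rintro ⟨_, h⟩ a
        by_contra hne
        exact h ⟨a, a.2, hne⟩
  exact_mod_cast hcast

section Degrees

variable (hC : ∀ h ∈ H, h ≠ 1 → Subgroup.centralizer ({h} : Set N) ≤ H)
include hC

theorem index_dvd_natDeg {D : Subgroup N} {χ : N → ℂ} (hχ : χ ∈ relIrr H D) :
    H.index ∣ natDeg χ := by
  rw [mem_relIrr] at hχ
  haveI : Fintype H := Fintype.ofFinite H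
  obtain ⟨f, hf⟩ := Cfsg.Agent.Lib.Helper3.index_dvd_degree_of_relevant H (frob_hF H hC)
    hχ.1 hχ.2.1
  rw [natDeg_spec hχ.1] at hf
  have : natDeg χ = H.index * f := by exact_mod_cast hf
  exact ⟨f, this⟩

theorem exists_ind_of_mem_relIrr {D : Subgroup N} {χ : N → ℂ} (hχ : χ ∈ relIrr H D) :
    ∃ φ : H → ℂ, IsIrrCharacter H φ ∧ χ = indFun H φ := by
  rw [mem_relIrr] at hχ
  exact Cfsg.Agent.S1528.result H hC χ hχ.1 hχ.2.1

theorem natDeg_eq_index_of_commutator {χ : N → ℂ} (hχ : χ ∈ relIrr H ⁅H, H⁆) :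
    natDeg χ = H.index := by
  obtain ⟨φ, hφ, rfl⟩ := exists_ind_of_mem_relIrr H hC hχ
  rw [mem_relIrr] at hχ
  haveI : (⁅H, H⁆ : Subgroup N).Normal := Subgroup.commutator_normal H H
  have hker := (Cfsg.Agent.Lib.Helper25.indFun_trivial_on_iff H ⁅H, H⁆
    (Subgroup.commutator_le_left H H)
    (Cfsg.Agent.Lib.Helper3.IsIrrCharacter.isCharacter hφ)).mp hχ.2.2
  have h1 : φ 1 = 1 := by
    apply Cfsg.Agent.Lib.Helper25.degree_one_of_commutators hφ
    intro g k
    apply hker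
    have : ((g * k * g⁻¹ * k⁻¹ : H) : N) = ⁅(g : N), (k : N)⁆ := by
      rw [commutatorElement_def]; simp
    rw [this]
    exact Subgroup.commutator_mem_commutator g.2 k.2
  have h2 := natDeg_spec hχ.1
  rw [Cfsg.Agent.Lib.Helper75.indFun_apply_one, h1, mul_one] at h2
  exact_mod_cast h2.symm

theorem natDeg_sq_le {C : Subgroup N} [hCn : C.Normal] (hCH : C ≤ H) {χ : N → ℂ}
    (hχ : χ ∈ relIrr H C) :
    ∃ m : ℕ, natDeg χ = H.index * m ∧ m ^ 2 ≤ (zc H C).relIndex H := by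
  obtain ⟨φ, hφ, rfl⟩ := exists_ind_of_mem_relIrr H hC hχ
  rw [mem_relIrr] at hχ
  have hker := (Cfsg.Agent.Lib.Helper25.indFun_trivial_on_iff H C hCH
    (Cfsg.Agent.Lib.Helper3.IsIrrCharacter.isCharacter hφ)).mp hχ.2.2
  obtain ⟨m, _, hm⟩ := Cfsg.Agent.Lib.Helper25.irr_degree hφ
  refine ⟨m, ?_, ?_⟩
  · have h2 := natDeg_spec hχ.1
    rw [Cfsg.Agent.Lib.Helper75.indFun_apply_one, hm] at h2
    exact_mod_cast h2.symm
  · have h := Cfsg.Agent.Lib.Helper25.degree_sq_le H hφ C H (zc H C) (le_zc hCH) (zc_le H C)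
      le_rfl (fun x hx y hy => hx.2 y hy) hker m hm
    rw [Subgroup.relIndex_self, one_pow, one_mul] at h
    exact h

theorem relIndex_modEq_one (D : Subgroup N) [hD : D.Normal] (hDH : D ≤ H) :
    D.relIndex H ≡ 1 [MOD H.index] := by
  have hsum := sum_relIrr H D hDH
  have hepos : 0 < H.index := Nat.pos_of_ne_zero Subgroup.index_ne_zero_of_finite
  have h1 : ∑ χ ∈ relIrr H D, natDeg χ ^ 2 =
      H.index * (H.index * ∑ χ ∈ relIrr H D, (natDeg χ / H.index) ^ 2) := by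
    rw [← mul_assoc, Finset.mul_sum]
    apply Finset.sum_congr rfl
    intro χ hχ
    obtain ⟨f, hf⟩ := index_dvd_natDeg H hC hχ
    rw [hf, Nat.mul_div_cancel_left _ hepos]
    ring
  rw [h1] at hsum
  have h2 : H.index * ∑ χ ∈ relIrr H D, (natDeg χ / H.index) ^ 2 + 1 = D.relIndex H := by
    apply Nat.eq_of_mul_eq_mul_left hepos
    rw [mul_add, mul_one, hsum, mul_comm]
  rw [← h2]
  exact (Nat.modEq_iff_dvd' (by omega)).mpr ⟨_, by rw [Nat.add_sub_cancel]⟩ |>.symm

theorem relIndex_modEq_one' (A B : Subgroup N) [hA : A.Normal] [hB : B.Normal] (hAB : A ≤ B)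
    (hBH : B ≤ H) : A.relIndex B ≡ 1 [MOD H.index] := by
  have h1 := relIndex_modEq_one H hC A (hAB.trans hBH)
  have h2 := relIndex_modEq_one H hC B hBH
  rw [← Subgroup.relIndex_mul_relIndex A B H hAB hBH] at h1
  have h3 : A.relIndex B * B.relIndex H ≡ A.relIndex B * 1 [MOD H.index] :=
    Nat.ModEq.mul_left _ h2
  rw [mul_one] at h3
  exact h3.symm.trans h1

theorem index_succ_le_relIndex (A B : Subgroup N) [hA : A.Normal] [hB : B.Normal] (hAB : A < B)
    (hBH : B ≤ H) : H.index + 1 ≤ A.relIndex B := by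
  have h1 := relIndex_modEq_one' H hC A B hAB.le hBH
  have hpos : 0 < A.relIndex B := Nat.pos_of_ne_zero (by
    unfold Subgroup.relIndex; exact Subgroup.index_ne_zero_of_finite)
  have hne1 : A.relIndex B ≠ 1 := by
    intro h
    rw [Subgroup.relIndex_eq_one] at h
    exact not_le_of_gt hAB h
  have h2 := (Nat.modEq_iff_dvd' (show 1 ≤ A.relIndex B by omega)).mp h1.symm
  have h3 := Nat.le_of_dvd (by omega) h2
  omega

end Degrees

end FrobChar

end Cfsg.Agent.Lib.Helper76
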