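import Mathlib
import Cfsg.Prelude.Def_OddOrderChar
import Cfsg.Agent.Lib.Helper76.FeitCoh
import Cfsg.Agent.Lib.Helper76.FeitFrobChar

set_option autoImplicit false
set_option linter.style.haveILetI false
set_option linter.unusedSectionVars false

/-!
Feit's coherence theorem for Frobenius groups: the chain argument.
-/

namespace Cfsg.Agent.Lib.Helper76

open Cfsg
open scoped ComplexConjugate commutatorElement
open Cfsg.Agent.Lib.Helper25 (zspanOn_mono)

section Arith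

theorem feit_arith1 (e r z : ℕ) (hr : 4 * e ^ 2 + 2 ≤ r) (hz : z ≤ r) :
    4 * e ^ 2 * z < (r - 1) ^ 2 := by
  obtain ⟨t, rfl⟩ : ∃ t, r = 4 * e ^ 2 + 2 + t := ⟨r - (4 * e ^ 2 + 2), by omega⟩
  have h1 : 4 * e ^ 2 + 2 + t - 1 = 4 * e ^ 2 + 1 + t := by omega
  rw [h1]
  calc 4 * e ^ 2 * z ≤ 4 * e ^ 2 * (4 * e ^ 2 + 2 + t) := Nat.mul_le_mul_left _ hz
    _ < (4 * e ^ 2 + 1 + t) ^ 2 := by nlinarith

theorem feit_arith2 (e r z : ℕ) (he : 2 ≤ e) (hr : (e + 1) ^ 2 ≤ r) (hz : z * (e + 1) ≤ r) :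
    4 * e ^ 2 * z < (r - 1) ^ 2 := by
  obtain ⟨t, rfl⟩ : ∃ t, r = (e + 1) ^ 2 + t := ⟨r - (e + 1) ^ 2, by omega⟩
  have h1 : (e + 1) ^ 2 + t - 1 = e ^ 2 + 2 * e + t := by
    have : (e + 1) ^ 2 = e ^ 2 + 2 * e + 1 := by ring
    omega
  rw [h1]
  have h2 : (e + 1) * (4 * e ^ 2 * z) < (e + 1) * (e ^ 2 + 2 * e + t) ^ 2 := by
    calc (e + 1) * (4 * e ^ 2 * z) = 4 * e ^ 2 * (z * (e + 1)) := by ring
      _ ≤ 4 * e ^ 2 * ((e + 1) ^ 2 + t) := Nat.mul_le_mul_left _ hz
      _ < (e + 1) * (e ^ 2 + 2 * e + t) ^ 2 := by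
        obtain ⟨f, rfl⟩ : ∃ f, e = f + 2 := ⟨e - 2, by omega⟩
        nlinarith [Nat.zero_le (f * t), Nat.zero_le (f ^ 2 * t), Nat.zero_le (f * t ^ 2),
          Nat.zero_le (f ^ 3 * t), Nat.zero_le (t ^ 2)]
  exact Nat.lt_of_mul_lt_mul_left h2

end Arith

section Chain

variable {N : Type*} [Group N] [Fintype N] [Fintype (IrrCharacter N)]
  {G : Type*} [Group G] [Fintype G] (H : Subgroup N) [hH : H.Normal]

theorem relIrr_irr {D : Subgroup N} : ∀ ξ ∈ relIrr H D, IsIrrCharacter N ξ :=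
  fun _ hξ => ((mem_relIrr H).mp hξ).1

theorem relIrr_deg {D : Subgroup N} : ∀ ξ ∈ relIrr H D, ξ 1 = (natDeg ξ : ℂ) :=
  fun _ hξ => natDeg_spec ((mem_relIrr H).mp hξ).1

theorem coe_relIrr_subset (D : Subgroup N) :
    (↑(relIrr H D) : Set (N → ℂ)) ⊆ (↑(relIrr H ⊥) : Set (N → ℂ)) :=
  fun _ hx => Finset.mem_coe.mpr (relIrr_subset_bot H D (Finset.mem_coe.mp hx))

variable (hC : ∀ h ∈ H, h ≠ 1 → Subgroup.centralizer ({h} : Set N) ≤ H)
  (τ : (N → ℂ) → (G → ℂ))
  (hτ : IsLinearIsometryOn (zspanOn (↑(relIrr H ⊥) : Set (N → ℂ)) ({1}ᶜ : Set N)) τ)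
  (hτ1 : ∀ α ∈ zspanOn (↑(relIrr H ⊥) : Set (N → ℂ)) ({1}ᶜ : Set N), τ α 1 = 0)
include hC hτ hτ1

/-- The characters of degree `|N : H|` form a coherent set if there are at least two. -/
theorem coherent_base (hbig : 2 * H.index + 1 ≤ (⁅H, H⁆ : Subgroup N).relIndex H) :
    IsCoherent (↑(relIrr H ⁅H, H⁆) : Set (N → ℂ)) ({1}ᶜ : Set N) τ := by
  classical
  haveI : (⁅H, H⁆ : Subgroup N).Normal := Subgroup.commutator_normal H H
  have hepos : 0 < H.index := Nat.pos_of_ne_zero Subgroup.index_ne_zero_of_finite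
  have hsum := sum_relIrr H ⁅H, H⁆ (Subgroup.commutator_le_left H H)
  have h1 : ∑ χ ∈ relIrr H ⁅H, H⁆, natDeg χ ^ 2 = (relIrr H ⁅H, H⁆).card * H.index ^ 2 := by
    rw [Finset.sum_congr rfl (fun χ hχ => by rw [natDeg_eq_index_of_commutator H hC hχ]),
      Finset.sum_const, smul_eq_mul]
  rw [h1] at hsum
  have hcard : 1 < (relIrr H ⁅H, H⁆).card := by
    by_contra hle
    push Not at hle
    have h2 : (relIrr H ⁅H, H⁆).card * H.index ^ 2 ≤ 1 * H.index ^ 2 :=
      Nat.mul_le_mul_right _ hle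
    have h3 : (⁅H, H⁆ : Subgroup N).relIndex H * H.index ≤ (H.index + 1) * H.index := by
      rw [← hsum]; nlinarith
    have h4 := Nat.le_of_mul_le_mul_right h3 hepos
    omega
  obtain ⟨a, ha, b, hb, hab⟩ := Finset.one_lt_card.mp hcard
  apply coherent_of_same_degree _ (fun χ hχ => relIrr_irr H χ (Finset.mem_coe.mp hχ))
    (H.index : ℂ) (by exact_mod_cast hepos.ne')
  · intro χ hχ
    rw [relIrr_deg H χ (Finset.mem_coe.mp hχ),
      natDeg_eq_index_of_commutator H hC (Finset.mem_coe.mp hχ)]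
  · exact ⟨a, Finset.mem_coe.mpr ha, b, Finset.mem_coe.mpr hb, hab⟩
  · exact isLinearIsometryOn_mono (zspanOn_mono (coe_relIrr_subset H _)) hτ
  · exact fun α hα => hτ1 α (zspanOn_mono (coe_relIrr_subset H _) hα)

/-- The chain argument: descending from `H'` to any normal subgroup `C ≤ H'`. -/
theorem coherent_chain (hnil : Group.IsNilpotent H)
    (hbase : IsCoherent (↑(relIrr H ⁅H, H⁆) : Set (N → ℂ)) ({1}ᶜ : Set N) τ)
    (he2 : 2 ≤ H.index)
    (hcond : 4 * H.index ^ 2 + 2 ≤ (⁅H, H⁆ : Subgroup N).relIndex H ∨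
      ((¬ ∃ p j : ℕ, p.Prime ∧ (⁅H, H⁆ : Subgroup N).relIndex H = p ^ j) ∧
        (H.index + 1) ^ 2 ≤ (⁅H, H⁆ : Subgroup N).relIndex H)) :
    ∀ n : ℕ, ∀ C : Subgroup N, C.Normal → C ≤ ⁅H, H⁆ →
      Nat.card (⁅H, H⁆ : Subgroup N) - Nat.card C = n →
      IsCoherent (↑(relIrr H C) : Set (N → ℂ)) ({1}ᶜ : Set N) τ := by
  classical
  haveI hH'n : (⁅H, H⁆ : Subgroup N).Normal := Subgroup.commutator_normal H H
  have hH'H : (⁅H, H⁆ : Subgroup N) ≤ H := Subgroup.commutator_le_left H H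
  have hepos : 0 < H.index := by omega
  have hrelpos : ∀ A B : Subgroup N, 0 < A.relIndex B := fun A B =>
    Nat.pos_of_ne_zero (by unfold Subgroup.relIndex; exact Subgroup.index_ne_zero_of_finite)
  intro n
  induction n using Nat.strong_induction_on with
  | _ n ih =>
    intro C hCn hCH' hn
    by_cases hCeq : C = ⁅H, H⁆
    · rw [hCeq]; exact hbase
    haveI := hCn
    have hCH : C ≤ H := hCH'.trans hH'H
    obtain ⟨x, hxz, hxH', hxC⟩ := exists_mem_zc_commutator hnil hCH' hCeq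
    have hCE : C < zc H C ⊓ ⁅H, H⁆ := by
      refine lt_of_le_of_ne (le_inf (le_zc hCH) hCH') ?_
      intro h
      apply hxC
      rw [h]
      exact ⟨hxz, hxH'⟩
    obtain ⟨D, hDn, hCD, hDE, hmin⟩ := exists_minimal_normal_above hCE
    haveI := hDn
    have hDz : D ≤ zc H C := hDE.trans inf_le_left
    have hDH' : D ≤ ⁅H, H⁆ := hDE.trans inf_le_right
    have hDH : D ≤ H := hDH'.trans hH'H
    -- induction hypothesis
    have hcardlt : Nat.card C < Nat.card D := by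
      by_contra hle
      push Not at hle
      exact hCD.ne (Subgroup.eq_of_le_of_card_ge hCD.le hle)
    have hcardle : Nat.card D ≤ Nat.card (⁅H, H⁆ : Subgroup N) := Subgroup.card_le_of_le hDH'
    have hD : IsCoherent (↑(relIrr H D) : Set (N → ℂ)) ({1}ᶜ : Set N) τ :=
      ih (Nat.card (⁅H, H⁆ : Subgroup N) - Nat.card D) (by omega) D hDn hDH' rfl
    -- the numbers
    have h₀r : (⁅H, H⁆ : Subgroup N).relIndex H ≤ D.relIndex H :=
      Nat.le_of_dvd (hrelpos _ _) ⟨D.relIndex ⁅H, H⁆, by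
        rw [← Subgroup.relIndex_mul_relIndex D ⁅H, H⁆ H hDH' hH'H, mul_comm]⟩
    have hzr : D.relIndex (zc H C) * (zc H C).relIndex H = D.relIndex H :=
      Subgroup.relIndex_mul_relIndex D (zc H C) H hDz (zc_le H C)
    have hkey : 4 * H.index ^ 2 * (zc H C).relIndex H < (D.relIndex H - 1) ^ 2 := by
      rcases hcond with h | ⟨hnpp, hsq⟩
      · apply feit_arith1 _ _ _ (h.trans h₀r)
        rw [← hzr]
        exact Nat.le_mul_of_pos_left _ (hrelpos _ _)
      · apply feit_arith2 _ _ _ he2 (hsq.trans h₀r)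
        have hlt : D < zc H C := by
          refine lt_of_le_of_ne hDz ?_
          intro hDeq
          obtain ⟨p, j, hp, hpj⟩ := relIndex_prime_pow_of_minimal hCD hDz hmin
          rw [hDeq] at hpj
          apply hnpp
          have hall : ∀ {q : ℕ}, q.Prime → q ∣ C.relIndex H → q = p :=
            fun hq hqd => prime_eq_of_zc_relIndex hnil hp hpj hq hqd
          have hpow := Nat.eq_prime_pow_of_unique_prime_dvd (hrelpos C H).ne' hall
          have hdvd : (⁅H, H⁆ : Subgroup N).relIndex H ∣ C.relIndex H :=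
            ⟨C.relIndex ⁅H, H⁆, by
              rw [← Subgroup.relIndex_mul_relIndex C ⁅H, H⁆ H hCH' hH'H, mul_comm]⟩
          rw [hpow] at hdvd
          obtain ⟨i, _, hi⟩ := (Nat.dvd_prime_pow hp).mp hdvd
          exact ⟨p, i, hp, hi⟩
        have h1 := index_succ_le_relIndex H hC D (zc H C) hlt (zc_le H C)
        calc (zc H C).relIndex H * (H.index + 1)
            ≤ (zc H C).relIndex H * D.relIndex (zc H C) := Nat.mul_le_mul_left _ h1
          _ = D.relIndex H := by rw [mul_comm]; exact hzr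
    -- a character of degree `e`
    have hh₀2 : 2 ≤ (⁅H, H⁆ : Subgroup N).relIndex H := by
      rcases hcond with h | ⟨_, hsq⟩
      · omega
      · nlinarith
    have hsumH' := sum_relIrr H ⁅H, H⁆ hH'H
    have hne : (relIrr H ⁅H, H⁆).Nonempty := by
      rw [Finset.nonempty_iff_ne_empty]
      intro hemp
      rw [hemp, Finset.sum_empty, zero_add] at hsumH'
      have : (⁅H, H⁆ : Subgroup N).relIndex H = 1 := by
        have h1 : 1 * H.index = (⁅H, H⁆ : Subgroup N).relIndex H * H.index := by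
          rw [one_mul]; exact hsumH'
        exact (Nat.eq_of_mul_eq_mul_right hepos h1).symm
      omega
    obtain ⟨ψ, hψ⟩ := hne
    have hψdeg : natDeg ψ = H.index := natDeg_eq_index_of_commutator H hC hψ
    have hsumD := sum_relIrr H D hDH
    obtain ⟨r', hr'⟩ : ∃ r', D.relIndex H = r' + 1 := ⟨D.relIndex H - 1, by
      have := hrelpos D H; omega⟩
    have hsumD' : ∑ χ ∈ relIrr H D, natDeg χ ^ 2 = H.index * r' := by
      rw [hr'] at hsumD
      have : ∑ χ ∈ relIrr H D, natDeg χ ^ 2 + H.index = H.index * r' + H.index := by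
        rw [hsumD]; ring
      exact Nat.add_right_cancel this
    rw [hr', Nat.add_sub_cancel] at hkey
    apply coherent_add_many (relIrr H D) (relIrr H C) (relIrr_anti H hCD.le) (relIrr_irr H)
      natDeg (relIrr_deg H) τ
      (isLinearIsometryOn_mono (zspanOn_mono (coe_relIrr_subset H _)) hτ)
      (fun α hα => hτ1 α (zspanOn_mono (coe_relIrr_subset H _) hα)) hD ψ
      (relIrr_anti H hDH' hψ)
    intro χ hχ _
    obtain ⟨m, hm, hm2⟩ := natDeg_sq_le H hC hCH hχ
    rw [hψdeg]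
    refine ⟨⟨m, hm⟩, ?_⟩
    rw [hsumD', hm]
    have h2em : 2 * H.index * m < r' := by
      have h3 : (2 * H.index * m) ^ 2 < r' ^ 2 :=
        calc (2 * H.index * m) ^ 2 = 4 * H.index ^ 2 * m ^ 2 := by ring
          _ ≤ 4 * H.index ^ 2 * (zc H C).relIndex H := Nat.mul_le_mul_left _ hm2
          _ < r' ^ 2 := hkey
      exact lt_of_pow_lt_pow_left₀ 2 (Nat.zero_le _) h3
    calc 2 * H.index * (H.index * m) = H.index * (2 * H.index * m) := by ring
      _ < H.index * r' := Nat.mul_lt_mul_of_pos_left h2em hepos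

end Chain

end Cfsg.Agent.Lib.Helper76
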