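import Mathlib

set_option autoImplicit false
set_option linter.style.haveILetI false
set_option linter.unusedSectionVars false
set_option linter.unusedVariables false

namespace Cfsg.Agent.Lib.Helper67.AO

open scoped commutatorElement

theorem h76_comm_mem {G : Type*} [Group G] (a b : G) : ⁅a, b⁆ ∈ commutator G := by
  rw [commutator_def]
  exact Subgroup.commutator_mem_commutator (Subgroup.mem_top a) (Subgroup.mem_top b)

theorem h76_pow_mul {G : Type*} [Group G] (a b : G) (hc : ∀ g : G, Commute ⁅b, a⁆ g) (n : ℕ) :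
    b ^ n * a = ⁅b, a⁆ ^ n * a * b ^ n := by
  induction n with
  | zero => simp
  | succ n ih =>
    have h1 : b * a = ⁅b, a⁆ * a * b := by simp [commutatorElement_def]
    calc b ^ (n+1) * a = b ^ n * (b * a) := by rw [pow_succ, mul_assoc]
      _ = b ^ n * (⁅b, a⁆ * a * b) := by rw [h1]
      _ = (b ^ n * ⁅b, a⁆) * a * b := by simp only [mul_assoc]
      _ = (⁅b, a⁆ * b ^ n) * a * b := by rw [← (hc (b^n)).eq]
      _ = ⁅b, a⁆ * (b ^ n * a) * b := by simp only [mul_assoc]
      _ = ⁅b, a⁆ * (⁅b, a⁆ ^ n * a * b ^ n) * b := by rw [ih]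
      _ = ⁅b, a⁆ ^ (n+1) * a * b ^ (n+1) := by
          rw [pow_succ' ⁅b, a⁆, pow_succ b]; simp only [mul_assoc]

theorem h76_mul_pow {G : Type*} [Group G] (a b : G) (hc : ∀ g : G, Commute ⁅b, a⁆ g) (n : ℕ) :
    (a * b) ^ n = ⁅b, a⁆ ^ (n.choose 2) * a ^ n * b ^ n := by
  induction n with
  | zero => simp
  | succ n ih =>
    have hch : (n+1).choose 2 = n.choose 2 + n := by
      rw [Nat.choose_succ_succ' n 1]
      simp [add_comm]
    calc (a * b) ^ (n+1) = (a*b)^n * (a * b) := pow_succ _ _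
      _ = ⁅b, a⁆ ^ (n.choose 2) * a ^ n * b ^ n * (a * b) := by rw [ih]
      _ = ⁅b, a⁆ ^ (n.choose 2) * a ^ n * (b ^ n * a) * b := by simp only [mul_assoc]
      _ = ⁅b, a⁆ ^ (n.choose 2) * a ^ n * (⁅b, a⁆ ^ n * a * b ^ n) * b := by
          rw [h76_pow_mul a b hc n]
      _ = ⁅b, a⁆ ^ (n.choose 2) * (a ^ n * ⁅b, a⁆ ^ n) * a * b ^ n * b := by
          simp only [mul_assoc]
      _ = ⁅b, a⁆ ^ (n.choose 2) * (⁅b, a⁆ ^ n * a ^ n) * a * b ^ n * b := by
          rw [← ((hc (a^n)).pow_left n).eq]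
      _ = ⁅b, a⁆ ^ ((n+1).choose 2) * a ^ (n+1) * b ^ (n+1) := by
          rw [hch, pow_add, pow_succ a, pow_succ b]; simp only [mul_assoc]

theorem h76_comm_commute {G : Type*} [Group G] (hZ : commutator G ≤ Subgroup.center G)
    (a b g : G) : Commute ⁅a, b⁆ g :=
  (Subgroup.mem_center_iff.mp (hZ (h76_comm_mem a b)) g).symm

theorem h76_pow_card_comm {G : Type*} [Group G] [Finite G] {p : ℕ}
    (hc : Nat.card (commutator G) = p) (d : G) (hd : d ∈ commutator G) : d ^ p = 1 := by
  have h := pow_card_eq_one' (G := commutator G) (x := ⟨d, hd⟩)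
  rw [hc] at h
  exact congrArg Subtype.val h

/-- (AO-U1, `p` odd) -/
theorem exists_noncentral_pow_eq_one {G : Type*} [Group G] [Finite G] {p : ℕ} (hp : p.Prime)
    (hp2 : p ≠ 2) (hZ : commutator G ≤ Subgroup.center G) (hc : Nat.card (commutator G) = p)
    (hidx : p ^ 2 * Nat.card (Subgroup.center G) ≤ Nat.card G)
    (hB : ∀ e ∈ Subgroup.center G, e ^ p = 1 → e ∈ commutator G) :
    ∃ u : G, u ∉ Subgroup.center G ∧ u ^ p = 1 := by
  classical
  by_contra hcon
  push Not at hcon
  -- hcon : ∀ u, u ∉ center → u ^ p ≠ 1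
  have hdvd : p ∣ p.choose 2 := by
    apply hp.dvd_choose_self (by norm_num)
    have := hp.two_le
    omega
  have hmul : ∀ a b : G, (a * b) ^ p = a ^ p * b ^ p := by
    intro a b
    rw [h76_mul_pow a b (h76_comm_commute hZ b a) p]
    obtain ⟨m, hm⟩ := hdvd
    rw [hm, pow_mul, h76_pow_card_comm hc _ (h76_comm_mem b a), one_pow, one_mul]
  let π : G →* G :=
    { toFun := fun g => g ^ p
      map_one' := one_pow p
      map_mul' := hmul }
  have hrange : π.range ≤ Subgroup.center G := by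
    rintro _ ⟨g, rfl⟩
    rw [Subgroup.mem_center_iff]
    intro h
    show h * g ^ p = g ^ p * h
    rw [h76_pow_mul h g (h76_comm_commute hZ g h) p,
      h76_pow_card_comm hc _ (h76_comm_mem g h), one_mul]
  have hker : π.ker ≤ commutator G := by
    intro u hu
    have hup : u ^ p = 1 := hu
    have huZ : u ∈ Subgroup.center G := by
      by_contra h
      exact hcon u h hup
    exact hB u huZ hup
  have h1 : Nat.card π.ker * Nat.card π.range = Nat.card G := by
    rw [← Subgroup.index_ker]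
    exact Subgroup.card_mul_index π.ker
  have h2 : Nat.card π.ker ≤ p := hc ▸ Subgroup.card_le_of_le hker
  have h3 : Nat.card π.range ≤ Nat.card (Subgroup.center G) := Subgroup.card_le_of_le hrange
  have h4 : 0 < Nat.card (Subgroup.center G) := Nat.card_pos
  have h5 : Nat.card G ≤ p * Nat.card (Subgroup.center G) := by
    rw [← h1]; exact Nat.mul_le_mul h2 h3
  have h6 : p * Nat.card (Subgroup.center G) < p ^ 2 * Nat.card (Subgroup.center G) := by
    apply Nat.mul_lt_mul_of_pos_right _ h4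
    have := hp.two_le
    nlinarith
  omega

end Cfsg.Agent.Lib.Helper67.AO
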