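import Mathlib
import Cfsg.Agent.Lib.Helper76.AOU1

set_option autoImplicit false
set_option linter.style.haveILetI false
set_option linter.unusedSectionVars false
set_option linter.unusedVariables false

namespace Cfsg.Agent.Lib.Helper67.AO

open scoped commutatorElement

/-- among three propositions, two are equivalent. -/
theorem h76_three_props (S T C : Prop) : (S ↔ C) ∨ (T ↔ C) ∨ (S ↔ T) := by
  by_cases hS : S <;> by_cases hT : T <;> by_cases hC : C <;> simp [hS, hT, hC]

/-- (AO-U2, `p = 2`) -/
theorem exists_noncentral_sq_eq {G : Type*} [Group G] [Finite G]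
    (hZ : commutator G ≤ Subgroup.center G) (hc : Nat.card (commutator G) = 2)
    (hidx : 4 * Nat.card (Subgroup.center G) ≤ Nat.card G)
    (hB : ∀ e ∈ Subgroup.center G, e ^ 2 = 1 → e ∈ commutator G) :
    ∃ u : G, u ∉ Subgroup.center G ∧ u ^ 2 ≠ 1 ∧ u ^ 2 ∈ commutator G := by
  classical
  have hcomm : ∀ a b g : G, Commute ⁅a, b⁆ g := h76_comm_commute hZ
  obtain ⟨c', hc'1, hc'u⟩ := (Nat.card_eq_two_iff' (1 : commutator G)).mp hc
  have hcG : (c' : G) ∈ commutator G := c'.2
  have hc1 : (c' : G) ≠ 1 := fun h => hc'1 (Subtype.ext h)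
  have hall : ∀ d ∈ commutator G, d = 1 ∨ d = (c' : G) := by
    intro d hd
    by_cases h : d = 1
    · exact Or.inl h
    · right
      have := hc'u ⟨d, hd⟩ (fun h' => h (congrArg Subtype.val h'))
      exact congrArg Subtype.val this
  have hsq : ∀ d ∈ commutator G, d ^ 2 = 1 := h76_pow_card_comm hc
  -- squares are central
  have hsqZ : ∀ g : G, g ^ 2 ∈ Subgroup.center G := by
    intro g
    rw [Subgroup.mem_center_iff]
    intro h
    rw [h76_pow_mul h g (hcomm g h) 2, hsq _ (h76_comm_mem g h), one_mul]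
  -- (a b)^2 = [b,a] a^2 b^2
  have hmul2 : ∀ a b : G, (a * b) ^ 2 = ⁅b, a⁆ * a ^ 2 * b ^ 2 := by
    intro a b
    have := h76_mul_pow a b (hcomm b a) 2
    simpa using this
  -- a nontrivial commutator
  obtain ⟨x, y, hxy⟩ : ∃ x y : G, ⁅x, y⁆ ≠ 1 := by
    by_contra hcon
    push Not at hcon
    have hbot : commutator G ≤ ⊥ := by
      rw [commutator_def, Subgroup.commutator_le]
      intro a _ b _
      rw [Subgroup.mem_bot]; exact hcon a b
    exact hc1 (Subgroup.mem_bot.mp (hbot hcG))
  have hxyc : ⁅x, y⁆ = (c' : G) := (hall _ (h76_comm_mem x y)).resolve_left hxy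
  have hyx : ⁅y, x⁆ = (c' : G) := by
    have h1 : ⁅y, x⁆ ≠ 1 := by
      intro h
      apply hxy
      rw [← commutatorElement_inv y x, h, inv_one]
    exact (hall _ (h76_comm_mem y x)).resolve_left h1
  have hxZ : x ∉ Subgroup.center G := by
    intro h
    apply hxy
    rw [commutatorElement_eq_one_iff_commute]
    exact ((Subgroup.mem_center_iff.mp h y).symm)
  have hyZ : y ∉ Subgroup.center G := by
    intro h
    apply hxy
    rw [commutatorElement_eq_one_iff_commute]
    exact (Subgroup.mem_center_iff.mp h x)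
  have hxyZ : x * y ∉ Subgroup.center G := by
    intro h
    apply hxy
    rw [commutatorElement_eq_one_iff_commute]
    have h1 := Subgroup.mem_center_iff.mp h y
    -- y * (x * y) = x * y * y
    show x * y = y * x
    have h2 : y * x * y = x * y * y := by rw [mul_assoc]; exact h1
    exact (mul_right_cancel h2).symm
  -- the squaring hom on the centre
  let sq : Subgroup.center G →* Subgroup.center G :=
    { toFun := fun z => z ^ 2
      map_one' := one_pow 2
      map_mul' := fun a b => by
        have hab : Commute a b := Subtype.ext (Subgroup.mem_center_iff.mp a.2 b.1).symm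
        exact hab.mul_pow 2 }
  have hsq_apply : ∀ z : Subgroup.center G, ((sq z : Subgroup.center G) : G) = (z : G) ^ 2 :=
    fun z => rfl
  have hker : sq.ker = (commutator G).subgroupOf (Subgroup.center G) := by
    ext z
    rw [MonoidHom.mem_ker, Subgroup.mem_subgroupOf]
    constructor
    · intro h
      have h' : (z : G) ^ 2 = 1 := by
        have := congrArg Subtype.val h
        rw [hsq_apply] at this
        exact this
      exact hB _ z.2 h'
    · intro h
      apply Subtype.ext
      rw [hsq_apply]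
      exact hsq _ h
  have hkc : Nat.card sq.ker = 2 := by
    rw [hker, Nat.card_congr (Subgroup.subgroupOfEquivOfLe hZ).toEquiv, hc]
  have hR : sq.range.index = 2 := by
    have h1 : Nat.card sq.ker * Nat.card sq.range = Nat.card (Subgroup.center G) := by
      rw [← Subgroup.index_ker]; exact Subgroup.card_mul_index sq.ker
    have h2 : Nat.card sq.range * sq.range.index = Nat.card (Subgroup.center G) := Subgroup.card_mul_index _
    have h3 : 0 < Nat.card sq.range := Nat.card_pos
    rw [hkc] at h1
    have : Nat.card sq.range * sq.range.index = Nat.card sq.range * 2 := by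
      rw [h2, ← h1, mul_comm]
    exact Nat.eq_of_mul_eq_mul_left h3 this
  -- membership in the range: z ∈ R ↔ ∃ w central, w^2 = z
  have hmemR : ∀ z : Subgroup.center G, z ∈ sq.range → ∃ w ∈ Subgroup.center G, w ^ 2 = (z : G) := by
    rintro z ⟨w, rfl⟩
    exact ⟨w.1, w.2, (hsq_apply w).symm⟩
  let s : Subgroup.center G := ⟨x ^ 2, hsqZ x⟩
  let t : Subgroup.center G := ⟨y ^ 2, hsqZ y⟩
  let cz : Subgroup.center G := ⟨c', hZ hcG⟩
  -- key: u noncentral, u^2 * c central square => done
  have key : ∀ u : G, u ∉ Subgroup.center G →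
      (⟨u ^ 2, hsqZ u⟩ * cz : Subgroup.center G) ∈ sq.range →
      ∃ u : G, u ∉ Subgroup.center G ∧ u ^ 2 ≠ 1 ∧ u ^ 2 ∈ commutator G := by
    intro u hu hmem
    obtain ⟨w, hwZ, hw⟩ := hmemR _ hmem
    have hw' : w ^ 2 = u ^ 2 * (c' : G) := by simpa [cz] using hw
    have hwc : ∀ g : G, Commute w g := fun g => (Subgroup.mem_center_iff.mp hwZ g).symm
    have hwi : w⁻¹ ∈ Subgroup.center G := inv_mem hwZ
    have hu2 : (u * w⁻¹) ^ 2 = (c' : G) := by
      have hcw : Commute u w⁻¹ := ((hwc u).inv_left).symm
      rw [hcw.mul_pow, inv_pow, hw', mul_inv_rev, ← mul_assoc, mul_assoc (u ^ 2),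
        ]
      have hcc : (c' : G)⁻¹ = (c' : G) := by
        have := hsq _ hcG
        rw [pow_two] at this
        exact inv_eq_of_mul_eq_one_left this
      rw [hcc]
      have hcu : Commute (c' : G) ((u ^ 2)⁻¹) :=
        ((Subgroup.mem_center_iff.mp (hZ hcG) ((u^2)⁻¹)).symm)
      rw [hcu.eq, ← mul_assoc, mul_inv_cancel, one_mul]
    refine ⟨u * w⁻¹, ?_, ?_, ?_⟩
    · intro h
      apply hu
      have := mul_mem h hwZ
      simpa using this
    · rw [hu2]; exact hc1
    · rw [hu2]; exact hcG
  have hcz2 : cz * cz = 1 := by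
    apply Subtype.ext
    have := hsq _ hcG
    rw [pow_two] at this
    simpa [cz] using this
  rcases h76_three_props (s ∈ sq.range) (t ∈ sq.range) (cz ∈ sq.range) with h | h | h
  · exact key x hxZ ((Subgroup.mul_mem_iff_of_index_two hR).mpr h)
  · exact key y hyZ ((Subgroup.mul_mem_iff_of_index_two hR).mpr h)
  · -- s * t ∈ R; (xy)^2 * c = c * s * t * c = s * t
    have hst : s * t ∈ sq.range := (Subgroup.mul_mem_iff_of_index_two hR).mpr h
    apply key (x * y) hxyZ
    have heq : (⟨(x * y) ^ 2, hsqZ (x * y)⟩ * cz : Subgroup.center G) = s * t := by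
      apply Subtype.ext
      show (x * y) ^ 2 * (c' : G) = x ^ 2 * y ^ 2
      rw [hmul2, hyx]
      have h1 : Commute (c' : G) (x ^ 2 * y ^ 2) :=
        ((Subgroup.mem_center_iff.mp (hZ hcG) _).symm)
      have h2 := hsq _ hcG
      rw [mul_assoc (c' : G), h1.eq, mul_assoc, ← pow_two, h2, mul_one]
    rw [heq]; exact hst

end Cfsg.Agent.Lib.Helper67.AO
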