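import Cfsg.Agent.Lib.Helper76.BG159B
import Cfsg.Agent.Lib.Helper76.BGCentNorm
import Cfsg.Agent.Lib.Helper76.BGSigU3
import Cfsg.Agent.Lib.Helper63.BG13a
import Cfsg.Agent.Lib.Helper59.SigmaNeBot
import Cfsg.Agent.Lib.Helper56.FrobApply
import Cfsg.Agent.Lib.Helper19.BG117H
import Cfsg.Agent.Lib.Helper33.WellPlaced
import Cfsg.Agent.Lib.Helper32.BG123
import Cfsg.Agent.Lib.Helper68.BG1215a
import Cfsg.Agent.S1417
import Cfsg.Agent.S1418

/-!
# B&G 15.9 / S1363, S1435: the crux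

`H` a maximal subgroup containing `U K` with `κ(H) = ∅`, `|K| ∉ σ(H)`, `C_{H_σ}(K) = 1`.
* `not_tau2`   : no prime of `|U|` lies in `τ₂(H)`;
* `r_mem_sigma`: if `N_G(O_r(U)) ≤ H` then `r ∈ σ(H)`;
* `U_le_sigmaCore`: then `U ≤ H_σ`.
-/

set_option autoImplicit false
set_option linter.unusedSectionVars false
set_option linter.unusedVariables false
set_option linter.style.haveILetI false

namespace Cfsg.Agent.Lib.Helper76.BG159

open Subgroup Cfsg
open Cfsg.Agent.Lib.Helper76.BG152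
open Cfsg.Agent.Lib.Helper76.BGSigU Cfsg.Agent.Lib.Helper76.BGCentNorm

universe u

variable {G : Type u} [Group G] [Finite G]

/-- the hypotheses on the side of `H`. -/
structure HSide (K U H : Subgroup G) : Prop where
  hH : IsCoatom H
  hUH : U ≤ H
  hKH : K ≤ H
  hκ : kappa H = ∅
  hpσ : Nat.card K ∉ sigma H
  hCK : sigmaCore H ⊓ centralizer (K : Set G) = ⊥

variable {M K U Ms H : Subgroup G}

theorem odd_prime_ne_two (hG : IsMinSimpleOddOrder G) {t : ℕ} {X : Subgroup G}
    (htX : t ∣ Nat.card X) : t ≠ 2 := by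
  rintro rfl
  have h1 : 2 ∣ Nat.card G := htX.trans (Subgroup.card_subgroup_dvd_card X)
  have h2 : Odd (Nat.card G) := hG.1
  rcases h2 with ⟨k, hk⟩
  omega

/-- **Lemma X.** no prime of `|U|` lies in `τ₂(H)`. -/
theorem not_tau2 (hG : IsMinSimpleOddOrder G) (c : Ctx M K U Ms) (h : HSide K U H) {t : ℕ}
    (ht : t.Prime) (htU : t ∣ Nat.card U) : t ∉ tau2 H := by
  intro htau
  haveI : Fact t.Prime := ⟨ht⟩
  have hUc := c.U_comm hG
  have hp := c.prime hG
  have hσH := sigHall hG h.hH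
  obtain ⟨-, htσ, hr2, hr1⟩ := id htau
  obtain ⟨x, hxT, hx1, hxt⟩ := exists_orderOf_eq_tPart hUc ht htU
  have hxU : x ∈ U := tPart_le U t hxT
  have hKT : K ≤ normalizer ((tPart U t : Subgroup G) : Set G) := norm_tPart hUc c.hKU.normal t
  have htW : ¬ t ∣ Nat.card (sigmaCore H) := fun hd => htσ (hσH.2.1 t ht hd)
  have hpW : ¬ Nat.card K ∣ Nat.card (sigmaCore H) := fun hd => h.hpσ (hσH.2.1 _ hp hd)
  -- a complement `E ≥ T K`
  have hcop : (Nat.card (tPart U t ⊔ K : Subgroup G)).Coprime (Nat.card (sigmaCore H)) := by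
    apply Nat.coprime_of_dvd
    intro q hq hq1 hq2
    have h1 : Nat.card (tPart U t ⊔ K : Subgroup G) ∣ Nat.card K * Nat.card (tPart U t) := by
      rw [sup_comm]
      exact Cfsg.Agent.Lib.Helper23.card_sup_dvd_of_le_normalizer K _ hKT
    rcases (Nat.Prime.dvd_mul hq).1 (hq1.trans h1) with h2 | h2
    · have : q = Nat.card K := (Nat.prime_dvd_prime_iff_eq hq hp).1 h2
      rw [this] at hq2; exact hpW hq2
    · obtain ⟨n, hn⟩ := IsPGroup.iff_card.1 (isPGroup_tPart hUc t)
      rw [hn] at h2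
      have : q = t := (Nat.prime_dvd_prime_iff_eq hq ht).1 (hq.dvd_of_dvd_pow h2)
      rw [this] at hq2; exact htW hq2
  obtain ⟨E, hE, hTE⟩ := Cfsg.Agent.Lib.Helper63.BG13.exists_compl_ge hG h.hH.1 hσH
    (sup_le ((tPart_le U t).trans h.hUH) h.hKH) hcop
  have hxE : x ∈ E := hTE ((le_sup_left : tPart U t ≤ _) hxT)
  have hKE : K ≤ E := le_sup_right.trans hTE
  -- `A ≤ E` elementary abelian of order `t ^ 2`
  obtain ⟨A₀, hA₀H, hA₀e, hA₀c⟩ := exists_elemAb_sq hr1
  have hA₀p : IsPGroup t A₀ := elemAb_isPGroup hA₀e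
  obtain ⟨m, hmH, hm⟩ := exists_conj_le_compl hE htW hA₀p hA₀H
  set A := A₀.map (MulAut.conj m⁻¹).toMonoidHom with hAdef
  have hAE : A ≤ E := by
    rintro _ ⟨a, ha, rfl⟩
    have := hm a ha
    simpa using this
  have hAe : IsElementaryAbelian t A := elemAb_map hA₀e _
  have hAc : Nat.card A = t ^ 2 := by
    rw [hAdef, Subgroup.card_map_of_injective (MulEquiv.injective _)]; exact hA₀c
  have hAH : A ≤ H := hAE.trans hE.1
  obtain ⟨⟨hEA, hXA⟩, -, -⟩ :=
    Cfsg.Agent.S1418.result hG H h.hH E hE t htau A ⟨hAE, hAe, hAc⟩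
  have hCA : sigmaCore H ⊓ centralizer (A : Set G) = ⊥ :=
    (Cfsg.Agent.S1417.result hG H h.hH t htau A ⟨hAH, hAe, hAc⟩).2.2.2.1
  have hox : orderOf x = t := orderOf_eq_prime hxt hx1
  have hxA : x ∈ A := by
    apply hXA (zpowers x) ((zpowers_le).2 hxE)
    · rw [Nat.card_zpowers, hox]
    · exact mem_zpowers x
  have hKA : K ≤ normalizer ((A : Subgroup G) : Set G) := hKE.trans hEA
  by_cases hfix : ∃ y ∈ A, y ≠ 1 ∧ ∀ k ∈ K, k * y = y * k
  · -- a fixed point of `K` on `A`
    obtain ⟨y, hyA, hy1, hyK⟩ := hfix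
    have hyt : y ^ t = 1 := hAe.2 y hyA
    have hcent := c.factY hG ht htU hy1 ⟨1, by rw [pow_one]; exact hyt⟩ hyK
    have hxMs : x ∈ Ms := by
      apply hcent
      rw [mem_centralizer_iff]
      intro z hz
      rw [Set.mem_singleton_iff] at hz
      rw [hz]
      exact elemAb_comm hAe y hyA x hxA
    have hxM : x ∈ M := c.hKU.compl.1 hxU
    have hzp : IsPGroup t (zpowers x) := by
      apply IsPGroup.of_card (n := 1)
      rw [Nat.card_zpowers, hox, pow_one]
    have := eq_bot_of_isPGroup_of_not_dvd ht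
      ((zpowers_le).2 (Subgroup.mem_inf.2 ⟨hxM, hxMs⟩)) hzp (c.not_dvd_inf hG ht htU)
    rw [Subgroup.zpowers_eq_bot] at this
    exact hx1 this
  · -- `K` is fixed point free on `H_σ A`
    push Not at hfix
    have hKW : K ≤ normalizer ((sigmaCore H : Subgroup G) : Set G) :=
      h.hKH.trans (le_normalizer_sigmaCore' H)
    have hKN : K ≤ normalizer ((A ⊔ sigmaCore H : Subgroup G) : Set G) := h76_norm_sup hKA hKW
    have hAW : A ≤ normalizer ((sigmaCore H : Subgroup G) : Set G) :=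
      hAH.trans (le_normalizer_sigmaCore' H)
    have hdisj : A ⊓ sigmaCore H = ⊥ := by
      rw [eq_bot_iff, ← hE.2.2.1]
      exact inf_le_inf_right _ hAE
    have hcentK : ∀ e ∈ K, e ≠ 1 → ∀ z : G, e * z = z * e → ∀ k ∈ K, k * z = z * k := by
      intro e he he1 z hz k hk
      have hk' := le_zpowers_of_card_prime hp he he1 hk
      obtain ⟨j, rfl⟩ := Subgroup.mem_zpowers_iff.1 hk'
      have h0 : Commute e z := hz
      exact (h0.zpow_left j).eq
    have hfpf : ∀ e ∈ K, e ≠ 1 → ∀ u ∈ A ⊔ sigmaCore H, e * u = u * e → u = 1 := by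
      intro e he he1 u hu heu
      obtain ⟨a, ha, s, hs, rfl⟩ :=
        Cfsg.Agent.Lib.Helper24.exists_mul_of_mem_sup_of_le_normalizer A _ hAW u hu
      have ha' : e * a * e⁻¹ ∈ A := h76_conj_mem hKA he ha
      have hs' : e * s * e⁻¹ ∈ sigmaCore H := h76_conj_mem hKW he hs
      have h1 : (e * a * e⁻¹) * (e * s * e⁻¹) = a * s := by
        calc (e * a * e⁻¹) * (e * s * e⁻¹) = e * (a * s) * e⁻¹ := by group
          _ = (a * s) * e * e⁻¹ := by rw [heu]
          _ = a * s := by group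
      have h2 : a⁻¹ * (e * a * e⁻¹) = s * (e * s * e⁻¹)⁻¹ := by
        have : e * a * e⁻¹ = a * s * (e * s * e⁻¹)⁻¹ := by rw [← h1]; group
        rw [this]; group
      have h3 : a⁻¹ * (e * a * e⁻¹) ∈ A ⊓ sigmaCore H := by
        refine Subgroup.mem_inf.2 ⟨A.mul_mem (A.inv_mem ha) ha', ?_⟩
        rw [h2]
        exact (sigmaCore H).mul_mem hs ((sigmaCore H).inv_mem hs')
      rw [hdisj, Subgroup.mem_bot] at h3
      have hea : e * a = a * e := by
        have : e * a * e⁻¹ = a := by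
          have := inv_mul_eq_one.1 h3
          exact this.symm
        calc e * a = (e * a * e⁻¹) * e := by group
          _ = a * e := by rw [this]
      have hes : e * s = s * e := by
        have h4 : s * (e * s * e⁻¹)⁻¹ = 1 := by rw [← h2]; exact h3
        have : e * s * e⁻¹ = s := by
          have := mul_inv_eq_one.1 h4
          exact this.symm
        calc e * s = (e * s * e⁻¹) * e := by group
          _ = s * e := by rw [this]
      have ha1 : a = 1 := by
        by_contra hne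
        obtain ⟨k, hk, hk'⟩ := hfix a ha hne
        exact hk' (hcentK e he he1 a hea k hk)
      have hs1 : s = 1 := by
        have : s ∈ sigmaCore H ⊓ centralizer (K : Set G) := by
          refine Subgroup.mem_inf.2 ⟨hs, ?_⟩
          rw [mem_centralizer_iff]
          intro k hk
          exact hcentK e he he1 s hes k hk
        rw [h.hCK, Subgroup.mem_bot] at this
        exact this
      rw [ha1, hs1, mul_one]
    have hnil : Group.IsNilpotent ↥(A ⊔ sigmaCore H) :=
      Cfsg.Agent.Lib.Helper56.FrobApply.nilpotent_kernel (A ⊔ sigmaCore H) K c.hK1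
        (fun e he u hu => h76_conj_mem hKN he hu) hfpf
    have hne : sigmaCore H ≠ ⊥ := Cfsg.Agent.Lib.Helper59.BG.sigmaCore_ne_bot hG h.hH
    apply hne
    rw [eq_bot_iff, ← hCA]
    intro s hs
    refine Subgroup.mem_inf.2 ⟨hs, ?_⟩
    rw [mem_centralizer_iff]
    intro a ha
    have haN : a ∈ A ⊔ sigmaCore H := (le_sup_left : A ≤ _) ha
    have hsN : s ∈ A ⊔ sigmaCore H := (le_sup_right : sigmaCore H ≤ _) hs
    have h1 : (⟨a, haN⟩ : ↥(A ⊔ sigmaCore H)) ^ t = 1 := Subtype.ext (by simpa using hAe.2 a ha)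
    have h2 : (⟨s, hsN⟩ : ↥(A ⊔ sigmaCore H)) ^ Nat.card (sigmaCore H) = 1 := by
      apply Subtype.ext
      have h0 : (⟨s, hs⟩ : sigmaCore H) ^ Nat.card (sigmaCore H) = 1 := pow_card_eq_one'
      have h00 := congrArg Subtype.val h0
      rw [Subgroup.coe_pow, Subgroup.coe_one] at h00
      rw [Subgroup.coe_pow]
      exact h00
    have h3 : Nat.Coprime t (Nat.card (sigmaCore H)) := (Nat.Prime.coprime_iff_not_dvd ht).2 htW
    have := Cfsg.Agent.Lib.Helper35.commute_of_coprime_of_isNilpotent ↥(A ⊔ sigmaCore H)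
      ⟨a, haN⟩ ⟨s, hsN⟩ t _ h1 h2 h3
    exact congrArg Subtype.val this.eq

end Cfsg.Agent.Lib.Helper76.BG159
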