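import Cfsg.Agent.Lib.Helper21.E8m_SYS
import Cfsg.Agent.Lib.Helper38.E8m_REL
import Cfsg.Agent.Lib.Helper41.E8m_PRES

/-! # E8m hive (S2107), assembly (helper76): `D.SteinbergCover K` is centrally closed

for every simply laced datum `D` (`chkSL D = true`) whose root table satisfies `Tab D dec`, over ANY field `K`:
every central extension `φ : Y → D.SteinbergCover K` has a section (Milnor's argument with roots). -/

set_option autoImplicit false

namespace Cfsg.Agent.Lib.Helper76.E8m

open Cfsg Cfsg.Lie Cfsg.Agent.Lib.Helper39.Sm Cfsg.Agent.Lib.Helper18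
open scoped commutatorElement

theorem cover_centrally_closed {D : ChevalleyDatum} {dec : ℕ → ℕ × ℕ} (hSL : chkSL D = true) (T : Tab D dec)
    {K : Type*} [Field K] {Y : Type*} [Group Y] (φ : Y →* D.SteinbergCover K)
    (hφ : Function.Surjective φ) (hc : φ.ker ≤ Subgroup.center Y) :
    ∃ τ : D.SteinbergCover K →* Y, φ.comp τ = MonoidHom.id (D.SteinbergCover K) := by
  obtain ⟨S, hS⟩ := exists_coverSys (K := K) hSL T.basic
  obtain ⟨S', hS'⟩ := exists_liftSys S φ T hφ hc
  exact exists_section_of_sys hSL T.basic S' φ (fun r hr t => by rw [hS' r hr t, hS])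

end Cfsg.Agent.Lib.Helper76.E8m
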