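import Cfsg.Agent.Lib.Helper39.SmDefs
import Cfsg.Prelude.Def_SteinbergCover

/-! # E8m hive (S2107, Schur multiplier of `E₈(q)` is trivial), owner helper76: shared definitions.

The group `D.SteinbergCover K` presented by (R1), (R2) is CENTRALLY CLOSED for a simply laced datum `D` whose
root table satisfies `Tab D dec` (true for `chevE8`): every central extension `φ : Y → D.SteinbergCover K` splits.
Milnor's argument (Introduction to algebraic K-theory, Thm 5.10) with roots instead of index pairs.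

NOTATION: `sm D a b = some e` : `a + b = e` is a root;  `ep D a b = N_{a,b} = ± 1`;
`Cm D a b` : `b ≠ -a` and `a + b` is not a root (`x_a`, `x_b` commute; includes `a = b`);
in an `SLSys` : `⁅X a t, X b u⁆ = X (a+b) (N_{a,b} t u)` with Mathlib's `⁅g, h⁆ = g * h * g⁻¹ * h⁻¹`. -/

set_option autoImplicit false

namespace Cfsg.Agent.Lib.Helper76.E8m

open Cfsg Cfsg.Lie Cfsg.Agent.Lib.Helper39.Sm
open scoped commutatorElement

/-- the index of the root `a + b`, if it is a root (first entry of the chain table) -/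
def sm (D : ChevalleyDatum) (a b : ℕ) : Option ℕ := (D.chainEntry a b).head?.map Prod.fst

/-- the structure constant `N_{a,b}` (`0` if `a + b` is not a root) -/
def ep (D : ChevalleyDatum) (a b : ℕ) : ℤ := ((D.chainEntry a b).head?.map Prod.snd).getD 0

/-- `x_a` and `x_b` commute: `b ≠ -a` and `a + b` is not a root (`a = b` allowed) -/
def Cm (D : ChevalleyDatum) (a b : ℕ) : Prop :=
  a < D.nroots ∧ b < D.nroots ∧ b ≠ D.neg a ∧ D.chainEntry a b = []

/-- the index of `a - c` (if it is a root; `0` otherwise) -/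
def sb (D : ChevalleyDatum) (a c : ℕ) : ℕ := (sm D a (D.neg c)).getD 0

/-- an `A₃`-configuration: `p + q = pq`, `q + r = qr`, `p + q + r = e`, `p ⟂ r` -/
structure A3 (D : ChevalleyDatum) (p q r pq qr e : ℕ) : Prop where
  hpq : sm D p q = some pq
  hqr : sm D q r = some qr
  hpqr : sm D pq r = some e
  hpqr' : sm D p qr = some e
  c1 : Cm D p r
  c2 : Cm D pq qr
  c3 : Cm D e qr
  sgn : ep D p qr * ep D q r = ep D pq r * ep D p q

/-- basic facts on the sum table -/
structure TabBasic (D : ChevalleyDatum) : Prop where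
  sm_lt : ∀ a b e, sm D a b = some e → a < D.nroots ∧ b < D.nroots ∧ e < D.nroots
  sm_ne : ∀ a b e, sm D a b = some e → a ≠ b ∧ b ≠ D.neg a ∧ a ≠ D.neg b
  ep_sq : ∀ a b e, sm D a b = some e → ep D a b = 1 ∨ ep D a b = -1
  sm_symm : ∀ a b e, sm D a b = some e → sm D b a = some e ∧ ep D b a = - ep D a b
  cm_symm : ∀ a b, Cm D a b → Cm D b a
  cm_sum : ∀ a b e, sm D a b = some e → Cm D a e ∧ Cm D b e

/-- every commuting pair `(a, b)` has a decomposition `a = c + d` with `b` commuting with `c` and `d` -/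
def TabLA (D : ChevalleyDatum) : Prop :=
  ∀ a b, Cm D a b → ∃ c d, sm D c d = some a ∧ Cm D b c ∧ Cm D b d

/-- `dec e = (c, d)` is a decomposition `e = c + d`, and there is another one -/
structure TabDec (D : ChevalleyDatum) (dec : ℕ → ℕ × ℕ) : Prop where
  dec_sum : ∀ e, e < D.nroots → sm D (dec e).1 (dec e).2 = some e
  aux : ∀ e, e < D.nroots → ∃ a b, sm D a b = some e ∧ ¬ (a = (dec e).1 ∧ b = (dec e).2) ∧
    ¬ (a = (dec e).2 ∧ b = (dec e).1)

/-- every decomposition `e = a + b` is the canonical one `(c, d)`, its swap, or one `A₃`-move away from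
`(c, d)` (if `(a, c) = 1` : `(p, q, r) = (c, a - c, b)`) or from `(d, c)` (`(p, q, r) = (d, a - d, b)`) -/
def TabConn (D : ChevalleyDatum) (dec : ℕ → ℕ × ℕ) : Prop :=
  ∀ a b e, sm D a b = some e →
    (a = (dec e).1 ∧ b = (dec e).2) ∨ (a = (dec e).2 ∧ b = (dec e).1) ∨
    A3 D (dec e).1 (sb D a (dec e).1) b a (dec e).2 e ∨
    A3 D (dec e).2 (sb D a (dec e).2) b a (dec e).1 e

/-- all table facts -/
structure Tab (D : ChevalleyDatum) (dec : ℕ → ℕ × ℕ) : Prop where
  basic : TabBasic D
  la : TabLA D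
  dc : TabDec D dec
  conn : TabConn D dec

/-- the canonical decomposition read off the chain table: the first entry `(c, [(idx (c - e), _)])` of the
row of `-e` gives `e = c + (e - c)` -/
def decOf (D : ChevalleyDatum) (e : ℕ) : ℕ × ℕ :=
  match (D.chain.getD (D.neg e) #[]).toList.head? with
  | some (c, arr) => (c, D.neg ((arr.toList.head?.map Prod.fst).getD 0))
  | none => (0, 0)

/-- a "simply laced Steinberg system": elements `X a t` of a group with (R1) and (R2) in simply laced form -/
structure SLSys (D : ChevalleyDatum) (K : Type*) [Field K] (G : Type*) [Group G] where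
  X : ℕ → K → G
  X_add : ∀ (r : ℕ) (t u : K), X r t * X r u = X r (t + u)
  X_cm : ∀ a b, Cm D a b → ∀ t u : K, Commute (X a t) (X b u)
  X_sum : ∀ a b e, sm D a b = some e → ∀ t u : K, ⁅X a t, X b u⁆ = X e (((ep D a b : ℤ) : K) * t * u)

section lifts
variable {D : ChevalleyDatum} {K : Type*} [Field K] {G : Type*} [Group G] {Y : Type*} [Group Y]

/-- `f_{a,b}(t,u)` : the commutator of lifts of `X a t` and `X b u` -/
noncomputable def ff (S : SLSys D K G) (φ : Y →* G) (hφ : Function.Surjective φ) (a b : ℕ) (t u : K) : Y :=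
  cm φ hφ (S.X a t) (S.X b u)

/-- the canonical lift `s_e(t) = f_{c,d}(1, N_{c,d} t)`, `(c, d) = dec e` -/
noncomputable def sl (dec : ℕ → ℕ × ℕ) (S : SLSys D K G) (φ : Y →* G) (hφ : Function.Surjective φ)
    (e : ℕ) (t : K) : Y :=
  ff S φ hφ (dec e).1 (dec e).2 1 (((ep D (dec e).1 (dec e).2 : ℤ) : K) * t)

/-- the key lemma as a property: lifts of commuting root elements commute -/
def LAp (S : SLSys D K G) (φ : Y →* G) : Prop :=
  ∀ ⦃a b : ℕ⦄, Cm D a b → ∀ (t u : K) ⦃y z : Y⦄, φ y = S.X a t → φ z = S.X b u → Commute y z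

end lifts

end Cfsg.Agent.Lib.Helper76.E8m
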