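import Cfsg.Agent.Lib.Helper76.E8mDefs

/-! # E8m hive (S2107): generic Boolean checker for `TabLA` by rows (helper76)

`tla_row D a = true` certifies the row `a` of `TabLA D`; `tla_rows D lo len = true` certifies the rows `lo ≤ a < lo + len`.
The witness `c` is searched in the row `chain[neg a]` (entries `(c, [(idx (c - a), _)])`, `d = neg (idx (c - a))`). -/

set_option autoImplicit false

namespace Cfsg.Agent.Lib.Helper76.E8m

open Cfsg Cfsg.Lie

/-- Boolean form of `Cm` -/
def tla_cmb (D : ChevalleyDatum) (a b : ℕ) : Bool :=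
  decide (a < D.nroots) && decide (b < D.nroots) && decide (b ≠ D.neg a) && decide (D.chainEntry a b = [])

theorem tla_cmb_iff (D : ChevalleyDatum) (a b : ℕ) : tla_cmb D a b = true ↔ Cm D a b := by
  unfold tla_cmb Cm
  simp only [Bool.and_eq_true, decide_eq_true_eq]
  tauto

/-- the check for one pair -/
def tla_pair (D : ChevalleyDatum) (a b : ℕ) : Bool :=
  !(tla_cmb D a b) || (D.chain.getD (D.neg a) #[]).toList.any fun en =>
    decide (sm D en.1 (D.neg ((en.2.toList.head?.map Prod.fst).getD 0)) = some a) && tla_cmb D b en.1 &&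
      tla_cmb D b (D.neg ((en.2.toList.head?.map Prod.fst).getD 0))

/-- the check for one row -/
def tla_row (D : ChevalleyDatum) (a : ℕ) : Bool := (List.range D.nroots).all fun b => tla_pair D a b

/-- the check for the rows `lo ≤ a < lo + len` -/
def tla_rows (D : ChevalleyDatum) (lo len : ℕ) : Bool := (List.range' lo len).all fun a => tla_row D a

theorem tla_row_spec (D : ChevalleyDatum) (a : ℕ) (h : tla_row D a = true) (b : ℕ) (hab : Cm D a b) :
    ∃ c d, sm D c d = some a ∧ Cm D b c ∧ Cm D b d := by
  unfold tla_row at h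
  rw [List.all_eq_true] at h
  have h1 := h b (List.mem_range.2 hab.2.1)
  unfold tla_pair at h1
  rw [Bool.or_eq_true] at h1
  rcases h1 with h1 | h1
  · rw [Bool.not_eq_true', ← Bool.not_eq_true] at h1
    exact absurd ((tla_cmb_iff D a b).2 hab) h1
  · rw [List.any_eq_true] at h1
    obtain ⟨en, -, hen⟩ := h1
    simp only [Bool.and_eq_true, decide_eq_true_eq] at hen
    exact ⟨en.1, _, hen.1.1, (tla_cmb_iff D _ _).1 hen.1.2, (tla_cmb_iff D _ _).1 hen.2⟩

theorem tla_rows_spec (D : ChevalleyDatum) (lo len : ℕ) (h : tla_rows D lo len = true) (a : ℕ)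
    (h1 : lo ≤ a) (h2 : a < lo + len) : tla_row D a = true := by
  unfold tla_rows at h
  rw [List.all_eq_true] at h
  exact h a (List.mem_range'_1.2 ⟨h1, h2⟩)

theorem tla_of_rows (D : ChevalleyDatum) (h : ∀ a, a < D.nroots → tla_row D a = true) : TabLA D :=
  fun a b hab => tla_row_spec D a (h a hab.1) b hab

end Cfsg.Agent.Lib.Helper76.E8m
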