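import Cfsg.Agent.Lib.Helper76.KRep
import Cfsg.Agent.Lib.Helper3.Induced

/-!
# Induced representations over an arbitrary field of characteristic zero
(adapted from `Helper3.Induced`, which works over `ℂ`)
-/

set_option autoImplicit false
set_option linter.style.haveILetI false

namespace Cfsg.Agent.Lib.Helper76

open Cfsg Cfsg.Agent.Lib.Helper3

section Induced

variable {K : Type*} [Field K] {G : Type*} [Group G] {V : Type*} [AddCommGroup V] [Module K V]

/-- The translation representation of `G` on functions `G → V`. -/
def transRepK (K : Type*) [Field K] (G : Type*) [Group G] (V : Type*) [AddCommGroup V]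
    [Module K V] : Representation K G (G → V) where
  toFun g :=
    { toFun := fun f x => f (g⁻¹ * x)
      map_add' := fun _ _ => rfl
      map_smul' := fun _ _ => rfl }
  map_one' := by
    ext f x
    simp
  map_mul' g₁ g₂ := by
    ext f x
    simp [mul_assoc]

theorem transRepK_apply (g : G) (f : G → V) (x : G) : transRepK K G V g f x = f (g⁻¹ * x) := rfl

variable (H : Subgroup G) (σ : Representation K H V)

/-- The space of the induced representation, as a subspace of `G → V`. -/
def indSpaceK : Submodule K (G → V) where
  carrier := {f | ∀ (x : G) (h : H), f (x * h) = σ h⁻¹ (f x)}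
  add_mem' := by
    intro a b ha hb x h
    simp only [Pi.add_apply, map_add]
    rw [ha x h, hb x h]
  zero_mem' := by
    intro x h
    simp
  smul_mem' := by
    intro c a ha x h
    simp only [Pi.smul_apply, map_smul]
    rw [ha x h]

theorem transRepK_mem_indSpaceK (g : G) (f : G → V) (hf : f ∈ indSpaceK H σ) :
    transRepK K G V g f ∈ indSpaceK H σ := by
  intro x h
  rw [transRepK_apply, transRepK_apply, ← mul_assoc, hf]

/-- The induced representation. -/
def indSubrepK : Subrepresentation (transRepK K G V) :=
  ⟨indSpaceK H σ, fun g f hf => transRepK_mem_indSpaceK H σ g f hf⟩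

/-- The induced representation on `indSpaceK`. -/
def indRepK : Representation K G (indSpaceK H σ) := (indSubrepK H σ).toRepresentation

variable [Fintype H]

/-- The averaging projection onto `indSpaceK`. -/
noncomputable def indProjK : (G → V) →ₗ[K] (G → V) where
  toFun f := fun x => (Nat.card H : K)⁻¹ • ∑ h : H, σ h (f (x * h))
  map_add' := by
    intro a b
    funext x
    simp only [Pi.add_apply, map_add, Finset.sum_add_distrib, smul_add]
  map_smul' := by
    intro c a
    funext x
    simp only [Pi.smul_apply, map_smul, RingHom.id_apply, Finset.smul_sum]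
    apply Finset.sum_congr rfl
    intro h _
    rw [smul_comm]

theorem indProjK_apply (f : G → V) (x : G) :
    indProjK H σ f x = (Nat.card H : K)⁻¹ • ∑ h : H, σ h (f (x * h)) := rfl

theorem indProjK_mem (f : G → V) : indProjK H σ f ∈ indSpaceK H σ := by
  intro x k
  rw [indProjK_apply, indProjK_apply, map_smul, map_sum]
  congr 1
  rw [← Equiv.sum_comp (Equiv.mulLeft k⁻¹)]
  apply Finset.sum_congr rfl
  intro h _
  simp only [Equiv.coe_mulLeft]
  rw [← Module.End.mul_apply, ← map_mul]
  congr 2
  simp [mul_assoc]

theorem indProjK_of_mem [CharZero K] (f : G → V) (hf : f ∈ indSpaceK H σ) :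
    indProjK H σ f = f := by
  funext x
  rw [indProjK_apply]
  have : ∀ h : H, σ h (f (x * h)) = f x := by
    intro h
    rw [hf x h, ← Module.End.mul_apply, ← map_mul, mul_inv_cancel, map_one, Module.End.one_apply]
  rw [Finset.sum_congr rfl (fun h _ => this h)]
  simp only [Finset.sum_const, Finset.card_univ]
  rw [← Nat.card_eq_fintype_card, ← Nat.cast_smul_eq_nsmul K, smul_smul, inv_mul_cancel₀, one_smul]
  exact_mod_cast Nat.card_pos.ne'

/-- extension by zero of a `K`-valued function on `H`. -/
noncomputable def ext0K (θ : H → K) (y : G) : K :=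
  open Classical in if h : y ∈ H then θ ⟨y, h⟩ else 0

omit [Fintype H] in
theorem ext0K_apply_mem {θ : H → K} {y : G} (hy : y ∈ H) : ext0K H θ y = θ ⟨y, hy⟩ := by
  unfold ext0K
  rw [dif_pos hy]

omit [Fintype H] in
theorem ext0K_apply_not_mem {θ : H → K} {y : G} (hy : y ∉ H) : ext0K H θ y = 0 := by
  unfold ext0K
  rw [dif_neg hy]

theorem sum_ite_eq_ext0K (θ : H → K) (y : G) [DecidableEq G] :
    ∑ h : H, (if (h : G) = y then θ h else 0) = ext0K H θ y := by
  by_cases hy : y ∈ H
  · rw [ext0K_apply_mem H hy]
    rw [Finset.sum_eq_single (⟨y, hy⟩ : H)]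
    · simp
    · intro b _ hb
      rw [if_neg]
      intro h
      apply hb
      exact Subtype.ext h
    · intro h
      exact absurd (Finset.mem_univ _) h
  · rw [ext0K_apply_not_mem H hy]
    apply Finset.sum_eq_zero
    intro h _
    rw [if_neg]
    intro hh
    apply hy
    rw [← hh]
    exact h.2

theorem indRepK_character [CharZero K] [Fintype G] [FiniteDimensional K V] (g : G) :
    (indRepK H σ).character g =
      (Nat.card H : K)⁻¹ * ∑ x : G, ext0K H σ.character (x⁻¹ * g * x) := by
  classical
  have h1 : (indRepK H σ).character g = LinearMap.trace K (indSpaceK H σ)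
      ((transRepK K G V g).restrict (fun f hf => transRepK_mem_indSpaceK H σ g f hf)) := rfl
  rw [h1, trace_restrict_eq_trace_comp_proj (transRepK K G V g) (indSpaceK H σ)
    (fun f hf => transRepK_mem_indSpaceK H σ g f hf) (indProjK H σ) (indProjK_mem H σ)
    (indProjK_of_mem H σ), trace_pi, Finset.mul_sum]
  apply Finset.sum_congr rfl
  intro x _
  have h2 : LinearMap.proj x ∘ₗ (transRepK K G V g ∘ₗ indProjK H σ) ∘ₗ
      LinearMap.single K (fun _ : G => V) x =
      (Nat.card H : K)⁻¹ • ∑ h : H, (if (h : G) = x⁻¹ * g * x then σ h else 0) := by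
    ext v
    simp only [LinearMap.coe_comp, Function.comp_apply, LinearMap.coe_proj, Function.eval,
      transRepK_apply, indProjK_apply, LinearMap.coe_single, LinearMap.smul_apply,
      LinearMap.sum_apply]
    congr 1
    apply Finset.sum_congr rfl
    intro h _
    by_cases hh : (h : G) = x⁻¹ * g * x
    · rw [if_pos hh]
      have : g⁻¹ * x * ↑h = x := by rw [hh]; group
      rw [this, Pi.single_eq_same]
    · rw [if_neg hh]
      have : g⁻¹ * x * ↑h ≠ x := by
        intro h3
        apply hh
        calc (h : G) = x⁻¹ * g * (g⁻¹ * x * ↑h) := by group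
          _ = x⁻¹ * g * x := by rw [h3]
      rw [Pi.single_eq_of_ne this]
      simp
  rw [h2, map_smul, map_sum, smul_eq_mul]
  congr 1
  rw [← sum_ite_eq_ext0K H σ.character (x⁻¹ * g * x)]
  apply Finset.sum_congr rfl
  intro h _
  by_cases hh : (h : G) = x⁻¹ * g * x
  · rw [if_pos hh, if_pos hh]
    rfl
  · rw [if_neg hh, if_neg hh, map_zero]

end Induced

section KRealInd

variable {K : Type*} [Field K] [CharZero K] {ι : K →+* ℂ} {G : Type*} [Group G] [Fintype G]

/-- Induction preserves `K`-realizability. -/
theorem KReal.ind (H : Subgroup G) {θ : H → ℂ} (h : KReal ι H θ) : KReal ι G (indFun H θ) := by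
  classical
  obtain ⟨n, σ, hσ⟩ := h
  letI : Fintype H := Fintype.ofFinite H
  have key := KReal.of_rep ι (indRepK H σ)
  have e : (fun g => ι ((indRepK H σ).character g)) = indFun H θ := by
    funext g
    rw [indRepK_character]
    unfold indFun
    rw [map_mul, map_inv₀, map_natCast, map_sum]
    congr 1
    apply Finset.sum_congr rfl
    intro x _
    by_cases hx : x⁻¹ * g * x ∈ H
    · rw [ext0K_apply_mem H hx, extendByZero_apply_mem H hx, hσ]
    · rw [ext0K_apply_not_mem H hx, extendByZero_apply_not_mem H hx, map_zero]
  rwa [e] at key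

end KRealInd

end Cfsg.Agent.Lib.Helper76
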