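import Cfsg.Agent.Lib.Helper76.KRep
import Cfsg.Agent.Lib.Helper3.Decomp
import Cfsg.Agent.Lib.Helper15.IrrCrit

/-!
# Irreducible `K`-representations and the Schur index argument
-/

set_option autoImplicit false
set_option linter.style.haveILetI false

namespace Cfsg.Agent.Lib.Helper76

open Cfsg Cfsg.Agent.Lib.Helper3
open scoped ComplexConjugate

universe u v w

section Decomp

variable {K : Type w} [Field K] [CharZero K] (ι : K →+* ℂ) {G : Type u} [Group G] [Fintype G]

omit [CharZero K] [Fintype G] in
theorem isCompl_toSubmoduleK {V : Type*} [AddCommGroup V] [Module K V]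
    {ρ : Representation K G V} {S S' : Subrepresentation ρ} (h : IsCompl S S') :
    IsCompl S.toSubmodule S'.toSubmodule := by
  apply IsCompl.of_eq
  · have := h.inf_eq_bot
    exact congrArg Subrepresentation.toSubmodule this
  · have := h.sup_eq_top
    exact congrArg Subrepresentation.toSubmodule this

/-- Every finite dimensional `K`-representation is a sum of irreducible ones (characters). -/
theorem exists_list_KIrr : ∀ (d : ℕ) (V : Type v) [AddCommGroup V] [Module K V]
    [FiniteDimensional K V] (ρ : Representation K G V), Module.finrank K V = d →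
    ∃ l : List (G → ℂ), (∀ φ ∈ l, KIrr ι G φ) ∧ (fun g => ι (ρ.character g)) = l.sum := by
  have : NeZero (Nat.card G : K) := ⟨by exact_mod_cast Nat.card_pos.ne'⟩
  intro d
  induction d using Nat.strong_induction_on with
  | _ d ih =>
    intro V _ _ _ ρ hd
    by_cases hV : Nontrivial V
    · by_cases hirr : ρ.IsIrreducible
      · refine ⟨[fun g => ι (ρ.character g)], ?_, by simp⟩
        intro φ hφ
        rw [List.mem_singleton] at hφ
        rw [hφ]
        exact KIrr.of_rep ι ρ hirr
      · rw [isIrreducible_iff] at hirr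
        push Not at hirr
        obtain ⟨S, hS, hSb, hSt⟩ := hirr hV
        obtain ⟨S', hS'⟩ := exists_isCompl (subrepOf ρ S hS)
        have hc := isCompl_toSubmoduleK hS'
        have hfr := Submodule.finrank_add_eq_of_isCompl hc
        have hSS : (subrepOf ρ S hS).toSubmodule = S := rfl
        have h1 : 0 < Module.finrank K (subrepOf ρ S hS).toSubmodule := by
          rw [Module.finrank_pos_iff]
          exact Submodule.nontrivial_iff_ne_bot.mpr (by rw [hSS]; exact hSb)
        have h2 : Module.finrank K (subrepOf ρ S hS).toSubmodule < Module.finrank K V :=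
          Submodule.finrank_lt (by rw [hSS]; exact hSt)
        obtain ⟨l₁, hl₁, hs₁⟩ := ih (Module.finrank K (subrepOf ρ S hS).toSubmodule) (by omega)
          (subrepOf ρ S hS).toSubmodule (subrepOf ρ S hS).toRepresentation rfl
        obtain ⟨l₂, hl₂, hs₂⟩ := ih (Module.finrank K S'.toSubmodule) (by omega) S'.toSubmodule
          S'.toRepresentation rfl
        refine ⟨l₁ ++ l₂, ?_, ?_⟩
        · intro φ hφ
          rcases List.mem_append.mp hφ with h | h
          · exact hl₁ φ h
          · exact hl₂ φ h
        · rw [List.sum_append, ← hs₁, ← hs₂]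
          funext g
          rw [character_eq_add_of_isCompl (subrepOf ρ S hS) S' hc g, map_add]
          rfl
    · rw [not_nontrivial_iff_subsingleton] at hV
      refine ⟨[], by simp, ?_⟩
      funext g
      have : ρ g = 0 := by
        apply LinearMap.ext
        intro v
        exact Subsingleton.elim _ _
      unfold Representation.character
      rw [this, map_zero, map_zero]
      rfl

/-- A `K`-realizable character is a sum of `K`-irreducible characters. -/
theorem KReal.exists_list {θ : G → ℂ} (h : KReal ι G θ) :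
    ∃ l : List (G → ℂ), (∀ φ ∈ l, KIrr ι G φ) ∧ θ = l.sum := by
  obtain ⟨n, ρ, hρ⟩ := h
  obtain ⟨l, hl, hs⟩ := exists_list_KIrr ι _ (Fin n → K) ρ rfl
  refine ⟨l, hl, ?_⟩
  rw [← hs]
  funext g
  exact hρ g

end Decomp

section Ortho

variable {K : Type w} [Field K] [CharZero K] {ι : K →+* ℂ} {G : Type u} [Group G] [Fintype G]

/-- Inner products of `K`-irreducible characters: a natural number, and zero unless the two
characters are equal. -/
theorem KIrr.classInner_eq {φ φ' : G → ℂ} (hφ : KIrr ι G φ) (hφ' : KIrr ι G φ') :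
    ∃ d : ℕ, classInner φ φ' = (d : ℂ) ∧ (d ≠ 0 → φ = φ') := by
  have hc' : IsCharacter G φ' := hφ'.kReal.isCharacter
  obtain ⟨n, ρ, hirr, hρ⟩ := hφ
  obtain ⟨n', ρ', hirr', hρ'⟩ := hφ'
  have : Invertible (Nat.card G : K) :=
    invertibleOfNonzero (by exact_mod_cast Nat.card_pos.ne')
  have key := Representation.card_inv_mul_sum_char_mul_char_eq_finrank ρ' ρ
  refine ⟨Module.finrank K (Representation.IntertwiningMap ρ' ρ), ?_, ?_⟩
  · unfold classInner
    have h1 : ∀ g : G, φ g * conj (φ' g) = ι (ρ.character g * ρ'.character g⁻¹) := by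
      intro g
      rw [← IsCharacter.inv hc' g, map_mul, hρ g, hρ' g⁻¹]
    rw [Finset.sum_congr rfl (fun g _ => h1 g), ← map_sum]
    have h2 : ((Nat.card G : ℂ))⁻¹ = ι ((Nat.card G : K)⁻¹) := by
      rw [map_inv₀, map_natCast]
    rw [h2, ← map_mul, key, map_natCast]
  · intro hd
    have := hirr
    have := hirr'
    obtain ⟨f, hf⟩ := (Module.finrank_pos_iff_exists_ne_zero (R := K)).mp
      (Nat.pos_of_ne_zero hd)
    have hb : Function.Bijective f :=
      (Representation.IsIrreducible.bijective_or_eq_zero f).resolve_right hf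
    have e : ρ'.Equiv ρ := f.ofBijective hb
    have hch := Representation.char_iso e
    funext g
    rw [hρ g, hρ' g, hch]

end Ortho

section Main

variable {K : Type w} [Field K] [CharZero K] {ι : K →+* ℂ} {G : Type u} [Group G] [Fintype G]

omit [CharZero K] in
theorem classInner_list_left (χ : G → ℂ) (l : List ((G → ℂ) × ℤ)) :
    classInner (l.map fun t => (t.2 : ℂ) • t.1).sum χ =
      (l.map fun t => (t.2 : ℂ) * classInner t.1 χ).sum := by
  induction l with
  | nil => simp [classInner_zero_left]
  | cons a l ih =>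
    simp only [List.map_cons, List.sum_cons]
    rw [classInner_add_left, classInner_smul_left, ih]

omit [CharZero K] in
theorem classInner_list_right (φ : G → ℂ) (l : List ((G → ℂ) × ℤ)) :
    classInner φ (l.map fun t => (t.2 : ℂ) • t.1).sum =
      (l.map fun t => (t.2 : ℂ) * classInner φ t.1).sum := by
  induction l with
  | nil => simp [classInner_zero_right]
  | cons a l ih =>
    simp only [List.map_cons, List.sum_cons]
    rw [classInner_add_right, classInner_smul_right, ih]
    simp

/-- Refine a ℤ-combination of `K`-realizable characters to one of `K`-irreducible characters. -/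
theorem exists_refine (l : List ((G → ℂ) × ℤ)) (hl : ∀ t ∈ l, KReal ι G t.1) :
    ∃ l' : List ((G → ℂ) × ℤ), (∀ t ∈ l', KIrr ι G t.1) ∧
      (l.map fun t => (t.2 : ℂ) • t.1).sum = (l'.map fun t => (t.2 : ℂ) • t.1).sum := by
  induction l with
  | nil => exact ⟨[], by simp, rfl⟩
  | cons a l ih =>
    obtain ⟨l', hl', hs⟩ := ih (fun t ht => hl t (List.mem_cons_of_mem a ht))
    obtain ⟨m, hm, hms⟩ := (hl a List.mem_cons_self).exists_list ι
    refine ⟨(m.map fun φ => (φ, a.2)) ++ l', ?_, ?_⟩
    · intro t ht
      rcases List.mem_append.mp ht with h | h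
      · obtain ⟨φ, hφ, rfl⟩ := List.mem_map.mp h
        exact hm φ hφ
      · exact hl' t h
    · simp only [List.map_cons, List.sum_cons, List.map_append, List.sum_append, List.map_map]
      rw [hs]
      congr 1
      rw [hms]
      clear hm hms
      induction m with
      | nil => simp
      | cons b m ihm =>
        simp only [List.sum_cons, List.map_cons, smul_add]
        rw [ihm]
        rfl

/-- **Schur index argument**: an irreducible character which is a ℤ-combination of
`K`-realizable characters is itself `K`-realizable. -/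
theorem KReal.of_irr_of_list {χ : G → ℂ} (hχ : IsIrrCharacter G χ)
    (l : List ((G → ℂ) × ℤ)) (hl : ∀ t ∈ l, KReal ι G t.1)
    (hsum : χ = (l.map fun t => (t.2 : ℂ) • t.1).sum) : KReal ι G χ := by
  classical
  obtain ⟨l', hl', hs⟩ := exists_refine l hl
  rw [hs] at hsum
  -- a constituent
  have h1 : classInner χ χ = 1 := by rw [classInner_irr hχ hχ, if_pos rfl]
  have h2 : (l'.map fun t => (t.2 : ℂ) * classInner t.1 χ).sum = 1 := by
    rw [← classInner_list_left, ← hsum, h1]
  have h3 : ∃ t ∈ l', classInner t.1 χ ≠ 0 := by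
    by_contra hcon
    push Not at hcon
    have : (l'.map fun t => (t.2 : ℂ) * classInner t.1 χ).sum = 0 := by
      apply List.sum_eq_zero
      intro x hx
      obtain ⟨t, ht, rfl⟩ := List.mem_map.mp hx
      rw [hcon t ht, mul_zero]
    rw [this] at h2
    exact zero_ne_one h2
  obtain ⟨t, ht, hne⟩ := h3
  set φ := t.1 with hφdef
  have hφK : KIrr ι G φ := hl' t ht
  have hφc : IsCharacter G φ := hφK.kReal.isCharacter
  obtain ⟨m, hm⟩ := IsCharacter.classInner_irr_nat hφc hχ
  have hm0 : m ≠ 0 := by
    intro h0
    apply hne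
    rw [hm, h0]
    simp
  obtain ⟨d, hd, -⟩ := hφK.classInner_eq hφK
  -- `m = d * B`
  have h4 : ∃ B : ℤ, classInner φ χ = (d : ℂ) * (B : ℂ) := by
    rw [hsum, classInner_list_right]
    have : ∀ s ∈ l', ∃ b : ℤ, classInner φ s.1 = (d : ℂ) * (b : ℂ) := by
      intro s hs'
      obtain ⟨e, he, hee⟩ := hφK.classInner_eq (hl' s hs')
      by_cases he0 : e = 0
      · exact ⟨0, by rw [he, he0]; simp⟩
      · refine ⟨1, ?_⟩
        rw [← hee he0, hd]
        simp
    clear hsum h2 hs ht
    induction l' with
    | nil => exact ⟨0, by simp⟩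
    | cons a l'' ih =>
      obtain ⟨B, hB⟩ := ih (fun t ht => hl' t (List.mem_cons_of_mem a ht))
        (fun s hs' => this s (List.mem_cons_of_mem a hs'))
      obtain ⟨b, hb⟩ := this a List.mem_cons_self
      refine ⟨a.2 * b + B, ?_⟩
      simp only [List.map_cons, List.sum_cons]
      rw [hB, hb]
      push_cast
      ring
  obtain ⟨B, hB⟩ := h4
  -- `d ≥ m²`
  letI : Fintype (IrrCharacter G) := Fintype.ofFinite _
  obtain ⟨mult, hmult, hmsum⟩ := IsCharacter.exists_mult hφc
  have hdsum : (d : ℂ) = ∑ ψ : IrrCharacter G, ((mult ψ : ℂ)) * conj ((mult ψ : ℂ)) := by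
    rw [← hd]
    conv_lhs => rw [hmsum]
    exact classInner_sum_sum _ _
  have hdsum' : d = ∑ ψ : IrrCharacter G, mult ψ * mult ψ := by
    have : (d : ℂ) = ((∑ ψ : IrrCharacter G, mult ψ * mult ψ : ℕ) : ℂ) := by
      rw [hdsum]
      push_cast
      apply Finset.sum_congr rfl
      intro ψ _
      rw [Complex.conj_natCast]
    exact_mod_cast this
  have hmχ : mult ⟨χ, hχ⟩ = m := by
    have := hmult ⟨χ, hχ⟩
    rw [hm] at this
    exact_mod_cast this.symm
  have hge : m * m ≤ d := by
    rw [hdsum', ← hmχ]
    exact Finset.single_le_sum (f := fun ψ : IrrCharacter G => mult ψ * mult ψ)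
      (fun i _ => Nat.zero_le _) (Finset.mem_univ _)
  -- arithmetic
  have hmd : (m : ℤ) = (d : ℤ) * B := by
    have : ((m : ℤ) : ℂ) = (((d : ℤ) * B : ℤ) : ℂ) := by
      push_cast
      rw [← hm, hB]
    exact_mod_cast this
  have hmpos : 0 < (m : ℤ) := by exact_mod_cast Nat.pos_of_ne_zero hm0
  have hd1 : d = 1 ∧ m = 1 := by
    have hdpos : 0 < (d : ℤ) := by
      have : 0 < d := lt_of_lt_of_le (Nat.mul_pos (Nat.pos_of_ne_zero hm0) (Nat.pos_of_ne_zero hm0)) hge
      exact_mod_cast this
    have hBpos : 0 < B := by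
      by_contra hB0
      push Not at hB0
      have : (d : ℤ) * B ≤ 0 := mul_nonpos_of_nonneg_of_nonpos hdpos.le hB0
      omega
    have hdm : (d : ℤ) ≤ m := by
      rw [hmd]
      nlinarith
    have hge' : (m : ℤ) * m ≤ d := by exact_mod_cast hge
    have hm1 : (m : ℤ) ≤ 1 := by nlinarith
    have : m = 1 := by omega
    subst this
    constructor
    · have : (1 : ℤ) ≤ d := by omega
      omega
    · rfl
  obtain ⟨hd1, hm1⟩ := hd1
  have hφirr : IsIrrCharacter G φ := by
    apply isIrrCharacter_of_classInner_self_eq_one hφc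
    rw [hd, hd1]
    simp
  have hφχ : φ = χ := by
    by_contra hne'
    apply hne
    rw [classInner_irr hφirr hχ, if_neg hne']
  rw [← hφχ]
  exact hφK.kReal

end Main

end Cfsg.Agent.Lib.Helper76
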