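import Mathlib
import Cfsg.Prelude.Def_Characters
import Cfsg.Agent.Lib.Helper3.CharOps
import Cfsg.Agent.Lib.Helper15.LinearChar
import Cfsg.Agent.Lib.Helper16.OrbitBlock
import Cfsg.Agent.Lib.Helper75.Clifford
import Cfsg.Agent.Lib.Helper75.CliffordCorr
import Cfsg.Agent.Lib.Helper79.CliffordCorr
import Cfsg.Agent.Lib.Helper80.JointEigen

/-!
# Faithful non-linear irreducible characters of elementary groups are induced
-/

set_option autoImplicit false
set_option linter.style.haveILetI false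

namespace Cfsg.Agent.Lib.Helper76

open Cfsg Cfsg.Agent.Lib.Helper3
open scoped ComplexConjugate

universe u

section NormalAbelian

variable {G : Type u} [Group G]

/-- A group whose central quotient has a nontrivial centre has a normal abelian non-central
subgroup. -/
theorem exists_normal_abelian_of_center_quotient
    (h : ∃ q : G ⧸ Subgroup.center G, q ∈ Subgroup.center (G ⧸ Subgroup.center G) ∧ q ≠ 1) :
    ∃ A : Subgroup G, A.Normal ∧ (∀ a ∈ A, ∀ b ∈ A, a * b = b * a) ∧ ¬ A ≤ Subgroup.center G := by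
  obtain ⟨q, hq, hq1⟩ := h
  obtain ⟨y, rfl⟩ := QuotientGroup.mk_surjective q
  have hyZ : y ∉ Subgroup.center G := by
    intro hy
    apply hq1
    exact (QuotientGroup.eq_one_iff y).mpr hy
  set Z := Subgroup.center G with hZ
  set A : Subgroup G := (Subgroup.zpowers (QuotientGroup.mk y : G ⧸ Z)).comap (QuotientGroup.mk' Z)
    with hA
  have hmem : ∀ a : G, a ∈ A ↔ ∃ i : ℤ, (QuotientGroup.mk y : G ⧸ Z) ^ i = QuotientGroup.mk a := by
    intro a
    rw [hA, Subgroup.mem_comap, Subgroup.mem_zpowers_iff]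
    rfl
  have hcen : ∀ (i : ℤ) (r : G ⧸ Z), r * (QuotientGroup.mk y : G ⧸ Z) ^ i
      = (QuotientGroup.mk y : G ⧸ Z) ^ i * r := by
    intro i r
    have : (QuotientGroup.mk y : G ⧸ Z) ^ i ∈ Subgroup.center (G ⧸ Z) :=
      Subgroup.zpow_mem _ hq i
    exact (Subgroup.mem_center_iff.mp this r)
  refine ⟨A, ?_, ?_, ?_⟩
  · constructor
    intro a ha g
    rw [hmem] at ha ⊢
    obtain ⟨i, hi⟩ := ha
    refine ⟨i, ?_⟩
    rw [QuotientGroup.mk_mul, QuotientGroup.mk_mul, ← hi, hcen i, mul_assoc, ← QuotientGroup.mk_mul,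
      mul_inv_cancel, QuotientGroup.mk_one, mul_one]
  · -- abelian
    have hdecomp : ∀ a ∈ A, ∃ (i : ℤ) (z : G), z ∈ Z ∧ a = y ^ i * z := by
      intro a ha
      rw [hmem] at ha
      obtain ⟨i, hi⟩ := ha
      refine ⟨i, (y ^ i)⁻¹ * a, ?_, by group⟩
      rw [← QuotientGroup.eq_one_iff, QuotientGroup.mk_mul, QuotientGroup.mk_inv,
        QuotientGroup.mk_zpow, hi, inv_mul_cancel]
    intro a ha b hb
    obtain ⟨i, z, hz, rfl⟩ := hdecomp a ha
    obtain ⟨j, z', hz', rfl⟩ := hdecomp b hb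
    have c1 : ∀ g : G, g * z = z * g := fun g => Subgroup.mem_center_iff.mp hz g
    have c2 : ∀ g : G, g * z' = z' * g := fun g => Subgroup.mem_center_iff.mp hz' g
    have c3 : y ^ i * y ^ j = y ^ j * y ^ i := by rw [← zpow_add, ← zpow_add, add_comm]
    calc y ^ i * z * (y ^ j * z') = y ^ i * (z * y ^ j) * z' := by group
      _ = y ^ i * (y ^ j * z) * z' := by rw [c1]
      _ = (y ^ i * y ^ j) * (z * z') := by group
      _ = (y ^ j * y ^ i) * (z' * z) := by rw [c3, c2]
      _ = y ^ j * (y ^ i * z') * z := by group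
      _ = y ^ j * (z' * y ^ i) * z := by rw [c2]
      _ = y ^ j * z' * (y ^ i * z) := by group
  · intro hle
    apply hyZ
    apply hle
    rw [hmem]
    exact ⟨1, by simp⟩

/-- A non-commutative finite elementary group has a normal abelian non-central subgroup. -/
theorem exists_normal_abelian_of_isElementary [Finite G] {p : ℕ} (hp : p.Prime)
    (hE : IsElementary p G) (hnc : ∃ a b : G, a * b ≠ b * a) :
    ∃ A : Subgroup G, A.Normal ∧ (∀ a ∈ A, ∀ b ∈ A, a * b = b * a) ∧ ¬ A ≤ Subgroup.center G := by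
  haveI : Fact p.Prime := ⟨hp⟩
  apply exists_normal_abelian_of_center_quotient
  obtain ⟨x, hx, -, k, hk⟩ := hE
  have hCZ : Subgroup.zpowers x ≤ Subgroup.center G := by
    rw [Subgroup.zpowers_le]
    exact hx
  have hdvd : (Subgroup.center G).index ∣ p ^ k := by
    rw [← hk]
    exact Subgroup.index_dvd_of_le hCZ
  obtain ⟨j, -, hj⟩ := (Nat.dvd_prime_pow hp).mp hdvd
  have hcard : Nat.card (G ⧸ Subgroup.center G) = p ^ j := by
    rw [← hj]
    rfl
  have hpg : IsPGroup p (G ⧸ Subgroup.center G) := IsPGroup.of_card hcard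
  haveI : Nontrivial (G ⧸ Subgroup.center G) := by
    obtain ⟨a, b, hab⟩ := hnc
    refine ⟨QuotientGroup.mk a, 1, ?_⟩
    intro h
    apply hab
    have : a ∈ Subgroup.center G := (QuotientGroup.eq_one_iff a).mp h
    exact (Subgroup.mem_center_iff.mp this b).symm
  have hnt := hpg.center_nontrivial
  obtain ⟨⟨q, hq⟩, hq1⟩ := exists_ne (1 : Subgroup.center (G ⧸ Subgroup.center G))
  refine ⟨q, hq, ?_⟩
  intro h
  apply hq1
  exact Subtype.ext h

end NormalAbelian

section Central

variable {G : Type u} [Group G] [Fintype G]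

/-- If `χ` is faithful and an irreducible constituent of its restriction to an abelian normal
subgroup `A` is `G`-invariant, then `A` is central (adapted from `Helper39.GalProd`). -/
theorem le_center_of_invariant {χ : G → ℂ} (hχ : IsIrrCharacter G χ)
    (hfaith : ∀ g : G, χ g = χ 1 → g = 1)
    (A : Subgroup G) [hA : A.Normal] [Fintype A] (hcomm : ∀ a ∈ A, ∀ b ∈ A, a * b = b * a)
    (lam : IrrCharacter A) (hlam : classInner (fun a : A => χ a) (lam : A → ℂ) ≠ 0)
    (hinv : ∀ (g : G) (a : A),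
      (lam : A → ℂ) ⟨g * a * g⁻¹, hA.conj_mem a a.2 g⟩ = (lam : A → ℂ) a) :
    A ≤ Subgroup.center G := by
  classical
  haveI : IsMulCommutative A := ⟨⟨fun a b => Subtype.ext (hcomm a a.2 b b.2)⟩⟩
  letI : Fintype (IrrCharacter A) := Fintype.ofFinite _
  have hlin := Cfsg.Agent.Lib.Helper80.irr_isLinear_of_comm lam
  have hχc : IsCharacter G χ := IsIrrCharacter.isCharacter hχ
  obtain ⟨m, hm, hsum⟩ := IsCharacter.exists_mult (IsCharacter.restrict hχc A)
  have hzero : ∀ φ : IrrCharacter A, φ ≠ lam → m φ = 0 := by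
    intro φ hφ
    by_contra hne
    have hφc : classInner (fun n : A => χ n) (φ : A → ℂ) ≠ 0 := by
      rw [hm φ]; exact_mod_cast hne
    obtain ⟨g, hg⟩ := Cfsg.Agent.Lib.Helper75.clifford_conj A hχ lam.2 φ.2 hlam hφc
    apply hφ
    apply Subtype.ext
    rw [hg]
    funext a
    rw [Cfsg.Agent.Lib.Helper75.conjFun_apply]
    exact hinv g a
  have hres : ∀ a : A, χ a = (m lam : ℂ) * (lam : A → ℂ) a := by
    intro a
    have := congrFun hsum a
    simp only [Finset.sum_apply, Pi.smul_apply, smul_eq_mul] at this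
    rw [this, Finset.sum_eq_single lam]
    · intro φ _ hφ
      rw [hzero φ hφ]; simp
    · intro hn
      exact absurd (Finset.mem_univ _) hn
  have hdeg : χ 1 = (m lam : ℂ) := by
    have := hres 1
    rw [hlin.2, mul_one] at this
    exact this
  intro a ha
  rw [Subgroup.mem_center_iff]
  intro g
  have hc : a⁻¹ * (g * a * g⁻¹) ∈ A := A.mul_mem (A.inv_mem ha) (hA.conj_mem a ha g)
  have h1 : χ (a⁻¹ * (g * a * g⁻¹)) = χ 1 := by
    have := hres ⟨a⁻¹ * (g * a * g⁻¹), hc⟩
    simp only at this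
    rw [this, hdeg]
    have hmul : (lam : A → ℂ) ⟨a⁻¹ * (g * a * g⁻¹), hc⟩ =
        (lam : A → ℂ) (⟨a, ha⟩⁻¹) * (lam : A → ℂ) ⟨g * a * g⁻¹, hA.conj_mem a ha g⟩ := by
      rw [← Cfsg.Agent.Lib.Helper15.linChar_mul hlin]
      rfl
    rw [hmul, hinv g ⟨a, ha⟩, Cfsg.Agent.Lib.Helper15.linChar_inv hlin,
      inv_mul_cancel₀ (Cfsg.Agent.Lib.Helper15.linChar_ne_zero hlin _), mul_one]
  have h2 := hfaith _ h1
  have h3 : g * a * g⁻¹ = a := by
    have : a * (a⁻¹ * (g * a * g⁻¹)) = a * 1 := by rw [h2]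
    simpa [mul_assoc] using this
  calc g * a = g * a * g⁻¹ * g := by group
    _ = a * g := by rw [h3]

/-- A faithful irreducible character of a group with a normal abelian non-central subgroup is
induced from a proper subgroup. -/
theorem exists_proper_induced_of_normal_abelian {χ : G → ℂ} (hχ : IsIrrCharacter G χ)
    (hfaith : ∀ g : G, χ g = χ 1 → g = 1)
    (A : Subgroup G) [hA : A.Normal] (hcomm : ∀ a ∈ A, ∀ b ∈ A, a * b = b * a)
    (hnc : ¬ A ≤ Subgroup.center G) :
    ∃ (T : Subgroup G) (ψ : T → ℂ), T ≠ ⊤ ∧ IsIrrCharacter T ψ ∧ indFun T ψ = χ := by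
  classical
  letI : Fintype A := Fintype.ofFinite _
  obtain ⟨lam, hlam⟩ := Cfsg.Agent.Lib.Helper16.exists_constituent A ⟨χ, hχ⟩
  set T : Subgroup G := Cfsg.Agent.Lib.Helper79.inertia A (lam : A → ℂ) with hTdef
  have hT : ∀ g : G, g ∈ T ↔ ∀ h : A,
      (lam : A → ℂ) ⟨g * h * g⁻¹, hA.conj_mem h h.2 g⟩ = (lam : A → ℂ) h := by
    intro g
    rw [hTdef, Cfsg.Agent.Lib.Helper79.mem_inertia]
    constructor
    · intro h x
      have := congrFun h x
      rwa [Cfsg.Agent.Lib.Helper75.conjFun_apply] at this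
    · intro h
      funext x
      rw [Cfsg.Agent.Lib.Helper75.conjFun_apply]
      exact h x
  have hAT : A ≤ T :=
    Cfsg.Agent.Lib.Helper79.le_inertia A
      (IsCharacter.isClassFunction (IsIrrCharacter.isCharacter lam.2))
  have hne : T ≠ ⊤ := by
    intro htop
    apply hnc
    apply le_center_of_invariant hχ hfaith A hcomm lam hlam
    intro g a
    have : g ∈ T := by rw [htop]; exact Subgroup.mem_top g
    exact (hT g).1 this a
  letI : Fintype T := Fintype.ofFinite _
  obtain ⟨ψ, hψ, hind, -, -⟩ :=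
    Cfsg.Agent.Lib.Helper75.clifford_corr_surjective A T (lam : A → ℂ) lam.2 hT hAT χ hχ hlam
  exact ⟨T, ψ, hne, hψ, hind⟩

/-- **Key step for elementary groups**: a faithful non-linear irreducible character of an
elementary group is induced from a proper subgroup. -/
theorem exists_proper_induced_of_isElementary {p : ℕ} (hp : p.Prime) (hE : IsElementary p G)
    {χ : G → ℂ} (hχ : IsIrrCharacter G χ) (hfaith : ∀ g : G, χ g = χ 1 → g = 1)
    (h1 : χ 1 ≠ 1) :
    ∃ (T : Subgroup G) (ψ : T → ℂ), T ≠ ⊤ ∧ IsIrrCharacter T ψ ∧ indFun T ψ = χ := by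
  have hnc : ∃ a b : G, a * b ≠ b * a := by
    by_contra hcon
    push Not at hcon
    haveI : IsMulCommutative G := ⟨⟨hcon⟩⟩
    exact h1 (Cfsg.Agent.Lib.Helper80.irr_isLinear_of_comm (⟨χ, hχ⟩ : IrrCharacter G)).2
  obtain ⟨A, hAn, hAc, hAz⟩ := exists_normal_abelian_of_isElementary hp hE hnc
  exact exists_proper_induced_of_normal_abelian hχ hfaith A hAc hAz

end Central

end Cfsg.Agent.Lib.Helper76
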