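import Mathlib
import Cfsg.Prelude.Def_Characters
import Cfsg.Agent.Lib.Helper3.CharOps
import Cfsg.Agent.Lib.Helper3.RepBasic
import Cfsg.Agent.Lib.Helper15.LinearChar

/-!
# Characters realizable over a subfield

`KReal ι G θ` : the class function `θ` is the image under the field embedding `ι : K →+* ℂ`
of the character of a matrix representation of `G` over `K`.
-/

set_option autoImplicit false
set_option linter.style.haveILetI false

namespace Cfsg.Agent.Lib.Helper76

open Cfsg Cfsg.Agent.Lib.Helper3

section Defs

variable {K : Type*} [Field K] (ι : K →+* ℂ)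

/-- `θ` is afforded by a matrix representation over `K`. -/
def KReal (G : Type*) [Group G] (θ : G → ℂ) : Prop :=
  ∃ (n : ℕ) (ρ : Representation K G (Fin n → K)), ∀ g, θ g = ι (ρ.character g)

/-- `θ` is afforded by an irreducible matrix representation over `K`. -/
def KIrr (G : Type*) [Group G] (θ : G → ℂ) : Prop :=
  ∃ (n : ℕ) (ρ : Representation K G (Fin n → K)), ρ.IsIrreducible ∧ ∀ g, θ g = ι (ρ.character g)

variable {ι} {G : Type*} [Group G]

theorem KIrr.kReal {θ : G → ℂ} (h : KIrr ι G θ) : KReal ι G θ := by
  obtain ⟨n, ρ, _, h⟩ := h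
  exact ⟨n, ρ, h⟩

variable (ι)

/-- The character of any finite dimensional `K`-representation is `K`-realizable. -/
theorem KReal.of_rep {V : Type*} [AddCommGroup V] [Module K V] [FiniteDimensional K V]
    (ρ : Representation K G V) : KReal ι G (fun g => ι (ρ.character g)) := by
  let e : V ≃ₗ[K] (Fin (Module.finrank K V) → K) := (Module.finBasis K V).equivFun
  refine ⟨_, transportRep ρ e, fun g => ?_⟩
  rw [← Representation.char_iso (transportEquiv ρ e)]

theorem KIrr.of_rep {V : Type*} [AddCommGroup V] [Module K V] [FiniteDimensional K V]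
    (ρ : Representation K G V) (hρ : ρ.IsIrreducible) :
    KIrr ι G (fun g => ι (ρ.character g)) := by
  let e : V ≃ₗ[K] (Fin (Module.finrank K V) → K) := (Module.finBasis K V).equivFun
  refine ⟨_, transportRep ρ e, isIrreducible_of_equiv (transportEquiv ρ e) hρ, fun g => ?_⟩
  rw [← Representation.char_iso (transportEquiv ρ e)]

variable {ι}

theorem KReal.zero : KReal ι G (0 : G → ℂ) := by
  refine ⟨0, 1, fun g => ?_⟩
  have h : (1 : Representation K G (Fin 0 → K)).character g = 0 := by
    unfold Representation.character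
    have : ((1 : Representation K G (Fin 0 → K)) g) = 0 := by
      apply LinearMap.ext
      intro v
      exact Subsingleton.elim _ _
    rw [this, map_zero]
  rw [h, map_zero]
  rfl

theorem KReal.add {θ₁ θ₂ : G → ℂ} (h₁ : KReal ι G θ₁) (h₂ : KReal ι G θ₂) :
    KReal ι G (θ₁ + θ₂) := by
  obtain ⟨n₁, ρ₁, h₁⟩ := h₁
  obtain ⟨n₂, ρ₂, h₂⟩ := h₂
  have h := KReal.of_rep ι (ρ₁.prod ρ₂)
  have e : (fun g => ι ((ρ₁.prod ρ₂).character g)) = θ₁ + θ₂ := by
    funext g
    unfold Representation.character
    have hp : (ρ₁.prod ρ₂) g = LinearMap.prodMap (ρ₁ g) (ρ₂ g) := rfl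
    rw [hp, LinearMap.trace_prodMap', map_add, Pi.add_apply, h₁ g, h₂ g]
    rfl
  rwa [e] at h

theorem KReal.nsmul {θ : G → ℂ} (h : KReal ι G θ) (m : ℕ) : KReal ι G ((m : ℂ) • θ) := by
  induction m with
  | zero =>
    have : ((0 : ℕ) : ℂ) • θ = 0 := by simp
    rw [this]
    exact KReal.zero
  | succ k ih =>
    have : ((k + 1 : ℕ) : ℂ) • θ = (k : ℂ) • θ + θ := by
      push_cast
      rw [add_smul, one_smul]
    rw [this]
    exact ih.add h

theorem KReal.sum {α : Type*} (s : Finset α) (θ : α → G → ℂ) (h : ∀ i ∈ s, KReal ι G (θ i)) :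
    KReal ι G (∑ i ∈ s, θ i) := by
  classical
  induction s using Finset.induction_on with
  | empty =>
    rw [Finset.sum_empty]
    exact KReal.zero
  | insert a s ha ih =>
    rw [Finset.sum_insert ha]
    exact (h a (Finset.mem_insert_self a s)).add
      (ih (fun i hi => h i (Finset.mem_insert_of_mem hi)))

theorem KReal.list_sum (l : List (G → ℂ)) (h : ∀ θ ∈ l, KReal ι G θ) : KReal ι G l.sum := by
  induction l with
  | nil => exact KReal.zero
  | cons a l ih =>
    rw [List.sum_cons]
    exact (h a List.mem_cons_self).add (ih (fun θ hθ => h θ (List.mem_cons_of_mem a hθ)))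

/-- Pull back along a group homomorphism. -/
theorem KReal.comp_hom {H : Type*} [Group H] (f : H →* G) {θ : G → ℂ} (h : KReal ι G θ) :
    KReal ι H (fun x => θ (f x)) := by
  obtain ⟨n, ρ, h⟩ := h
  exact ⟨n, ρ.comp f, fun x => h (f x)⟩

end Defs

section Linear

variable {K : Type*} [Field K] {ι : K →+* ℂ} {G : Type*} [Group G]

/-- A linear character with values in the image of `K` is `K`-realizable. -/
theorem KReal.of_linear {lam : G → ℂ} (h : IsCharacter G lam ∧ lam 1 = 1)
    (hval : ∀ g, lam g ∈ Set.range ι) : KReal ι G lam := by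
  choose c hc using hval
  have hinj : Function.Injective ι := ι.injective
  have c1 : c 1 = 1 := by
    apply hinj
    rw [hc, h.2, map_one]
  have cmul : ∀ a b, c (a * b) = c a * c b := by
    intro a b
    apply hinj
    rw [hc, map_mul, hc, hc]
    exact Cfsg.Agent.Lib.Helper15.linChar_mul h a b
  let ρ : Representation K G (Fin 1 → K) :=
    { toFun := fun g => c g • LinearMap.id
      map_one' := by rw [c1, one_smul]; rfl
      map_mul' := fun a b => by
        rw [cmul]
        apply LinearMap.ext
        intro v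
        simp only [LinearMap.smul_apply, LinearMap.id_coe, id_eq, Module.End.mul_apply,
          map_smul]
        rw [mul_smul]
        exact smul_comm _ _ _ }
  refine ⟨1, ρ, fun g => ?_⟩
  have : ρ.character g = c g := by
    unfold Representation.character
    change LinearMap.trace K (Fin 1 → K) (c g • LinearMap.id) = c g
    rw [map_smul, LinearMap.trace_id]
    simp
  rw [this, hc]

end Linear

section Complexify

variable {K : Type*} [Field K] (ι : K →+* ℂ) {G : Type*} [Group G] {n : ℕ}

/-- The complexification of a matrix representation over `K`. -/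
noncomputable def cplx (ρ : Representation K G (Fin n → K)) : Representation ℂ G (Fin n → ℂ) where
  toFun g := Matrix.toLin' ((LinearMap.toMatrix' (ρ g)).map ι)
  map_one' := by
    rw [map_one]
    have : LinearMap.toMatrix' (1 : Module.End K (Fin n → K)) = 1 := LinearMap.toMatrix'_one
    rw [this, Matrix.map_one ι (map_zero ι) (map_one ι), Matrix.toLin'_one]
    rfl
  map_mul' a b := by
    rw [map_mul, LinearMap.toMatrix'_mul, Matrix.map_mul, Matrix.toLin'_mul]
    rfl

theorem cplx_toMatrix' (ρ : Representation K G (Fin n → K)) (g : G) (i j : Fin n) :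
    LinearMap.toMatrix' (cplx ι ρ g) i j = ι (LinearMap.toMatrix' (ρ g) i j) := by
  change LinearMap.toMatrix' (Matrix.toLin' ((LinearMap.toMatrix' (ρ g)).map ι)) i j = _
  rw [LinearMap.toMatrix'_toLin', Matrix.map_apply]

theorem cplx_character (ρ : Representation K G (Fin n → K)) (g : G) :
    (cplx ι ρ).character g = ι (ρ.character g) := by
  unfold Representation.character
  change LinearMap.trace ℂ _ (Matrix.toLin' ((LinearMap.toMatrix' (ρ g)).map ι)) = _
  rw [Matrix.trace_toLin'_eq]
  have h : ρ g = Matrix.toLin' (LinearMap.toMatrix' (ρ g)) := (Matrix.toLin'_toMatrix' _).symm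
  conv_rhs => rw [h, Matrix.trace_toLin'_eq]
  unfold Matrix.trace
  rw [map_sum]
  rfl

variable {ι}

theorem KReal.isCharacter {θ : G → ℂ} (h : KReal ι G θ) : IsCharacter G θ := by
  obtain ⟨n, ρ, h⟩ := h
  refine ⟨n, cplx ι ρ, ?_⟩
  funext g
  rw [cplx_character, h g]

end Complexify

end Cfsg.Agent.Lib.Helper76
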