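import Cfsg.Agent.Lib.Helper74.FS6
import Cfsg.Agent.Lib.Helper80.Conv
import Cfsg.Agent.Lib.Helper80.Orthogonality
import Cfsg.Agent.Lib.Helper79.Basic
import Cfsg.Agent.Lib.Helper25.DualOrth
import Cfsg.Agent.Lib.Helper3.CharOps
import Cfsg.Agent.Lib.Helper3.OddOrder
import Cfsg.Agent.Lib.Helper2.PGroup

/-!
Twisting irreducible characters by linear characters (`G →* ℂˣ`): the action on `IrrCharacter G`,
the bound `|Stab| ≤ χ(1)^2`, sums of invariant functions over orbits, and the group of linear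
characters trivial on the Frattini subgroup of a `p`-group.
-/

set_option autoImplicit false
set_option linter.unusedSectionVars false
set_option linter.style.haveILetI false

namespace Cfsg.Agent.Lib.Helper76

open Cfsg
open scoped ComplexConjugate

section Twist

variable {G : Type*} [Group G] [Finite G]

theorem hom_mul_conj (φ : G →* ℂˣ) (g : G) :
    ((φ g : ℂˣ) : ℂ) * conj ((φ g : ℂˣ) : ℂ) = 1 := by
  rw [Cfsg.Agent.Lib.Helper25.conj_hom_apply, ← Units.val_mul, ← map_mul, mul_inv_cancel, map_one,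
    Units.val_one]

/-- The twist of an irreducible character by a linear character is irreducible. -/
theorem isIrr_twist (φ : G →* ℂˣ) {χ : G → ℂ} (hχ : IsIrrCharacter G χ) :
    IsIrrCharacter G (fun g => ((φ g : ℂˣ) : ℂ) * χ g) := by
  classical
  haveI := Fintype.ofFinite G
  have hchar : IsCharacter G (fun g => ((φ g : ℂˣ) : ℂ) * χ g) :=
    Cfsg.Agent.Lib.Helper3.IsCharacter.mul
      (Cfsg.Agent.Lib.Helper3.IsIrrCharacter.isCharacter
        (Cfsg.Agent.Lib.Helper79.isIrrCharacter_of_monoidHom φ))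
      (Cfsg.Agent.Lib.Helper3.IsIrrCharacter.isCharacter hχ)
  apply Cfsg.Agent.Lib.Helper3.isIrrCharacter_of_classInner_self_eq_one hchar
  have h1 := Cfsg.Agent.Lib.Helper3.classInner_irr hχ hχ
  rw [if_pos rfl] at h1
  rw [← h1]
  unfold classInner
  congr 1
  apply Finset.sum_congr rfl
  intro g _
  rw [map_mul]
  have := hom_mul_conj φ g
  calc ((φ g : ℂˣ) : ℂ) * χ g * (conj ((φ g : ℂˣ) : ℂ) * conj (χ g))
      = (((φ g : ℂˣ) : ℂ) * conj ((φ g : ℂˣ) : ℂ)) * (χ g * conj (χ g)) := by ring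
    _ = χ g * conj (χ g) := by rw [this, one_mul]

/-- The action of the linear characters on the irreducible characters. -/
noncomputable instance twistAction : MulAction (G →* ℂˣ) (IrrCharacter G) where
  smul φ χ := ⟨fun g => ((φ g : ℂˣ) : ℂ) * χ.1 g, isIrr_twist φ χ.2⟩
  one_smul χ := by
    apply Subtype.ext
    funext g
    change (((1 : G →* ℂˣ) g : ℂˣ) : ℂ) * χ.1 g = χ.1 g
    simp
  mul_smul φ ψ χ := by
    apply Subtype.ext
    funext g
    change (((φ * ψ) g : ℂˣ) : ℂ) * χ.1 g = ((φ g : ℂˣ) : ℂ) * (((ψ g : ℂˣ) : ℂ) * χ.1 g)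
    simp [mul_assoc]

theorem twist_apply (φ : G →* ℂˣ) (χ : IrrCharacter G) (g : G) :
    ((φ • χ : IrrCharacter G) : G → ℂ) g = ((φ g : ℂˣ) : ℂ) * (χ : G → ℂ) g := rfl

end Twist

section OrbitSum

/-- If `F` is invariant under a group action on a finite type and `m` divides
`|orbit x| * F x` for every `x`, then `m` divides `∑ x, F x`. -/
theorem dvd_sum_of_orbit {Λ X : Type*} [Group Λ] [MulAction Λ X] [Fintype X] (F : X → ℤ)
    (hF : ∀ (l : Λ) (x : X), F (l • x) = F x) (m : ℤ)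
    (h : ∀ x, m ∣ (Nat.card (MulAction.orbit Λ x) : ℤ) * F x) : m ∣ ∑ x, F x := by
  classical
  haveI : Fintype (MulAction.orbitRel.Quotient Λ X) := Fintype.ofFinite _
  haveI : ∀ ω : MulAction.orbitRel.Quotient Λ X, Fintype (MulAction.orbit Λ ω.out) :=
    fun ω => Fintype.ofFinite _
  rw [← Equiv.sum_comp (MulAction.selfEquivSigmaOrbits Λ X).symm, Fintype.sum_sigma]
  apply Finset.dvd_sum
  intro ω _
  have hconst : ∀ b : MulAction.orbit Λ ω.out,
      F ((MulAction.selfEquivSigmaOrbits Λ X).symm ⟨ω, b⟩) = F ω.out := by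
    intro b
    have hb : ((MulAction.selfEquivSigmaOrbits Λ X).symm ⟨ω, b⟩ : X) = b.1 := rfl
    rw [hb]
    obtain ⟨l, hl⟩ := b.2
    rw [← hl]
    exact hF l _
  rw [Finset.sum_congr rfl (fun b _ => hconst b), Finset.sum_const, Finset.card_univ,
    nsmul_eq_mul, ← Nat.card_eq_fintype_card]
  exact h ω.out

end OrbitSum

section StabBound

variable {G : Type*} [Group G] [Fintype G]

/-- A finite group `S` of linear characters fixing the irreducible character `χ` has order at most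
`χ(1)^2`. -/
theorem card_le_degree_sq (S : Subgroup (G →* ℂˣ)) [Finite S] (χ : IrrCharacter G)
    (hS : ∀ φ ∈ S, ∀ g, ((φ g : ℂˣ) : ℂ) * (χ : G → ℂ) g = (χ : G → ℂ) g) (n : ℕ)
    (hn : (χ : G → ℂ) 1 = n) : Nat.card S ≤ n ^ 2 := by
  classical
  haveI := Fintype.ofFinite S
  set N : Finset G := Finset.univ.filter (fun g => ∀ φ : S, φ.1 g = 1) with hN
  have hmemN : ∀ g, g ∈ N ↔ ∀ φ : S, φ.1 g = 1 := by
    intro g; rw [hN]; simp
  have h1N : (1 : G) ∈ N := by
    rw [hmemN]; intro φ; exact map_one _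
  -- σ on N
  have hσ1 : ∀ g ∈ N, ∑ φ : S, ((φ.1 g : ℂˣ) : ℂ) = (Nat.card S : ℂ) := by
    intro g hg
    rw [hmemN] at hg
    rw [Finset.sum_congr rfl (fun φ _ => by rw [hg φ, Units.val_one]), Finset.sum_const,
      Finset.card_univ, nsmul_eq_mul, mul_one, Nat.card_eq_fintype_card]
  -- σ off N
  have hσ0 : ∀ g, g ∉ N → ∑ φ : S, ((φ.1 g : ℂˣ) : ℂ) = 0 := by
    intro g hg
    rw [hmemN] at hg
    push Not at hg
    obtain ⟨φ₀, hφ₀⟩ := hg
    have hshift : ∑ φ : S, ((φ.1 g : ℂˣ) : ℂ) = ∑ φ : S, (((φ₀ * φ : S).1 g : ℂˣ) : ℂ) :=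
      (Equiv.sum_comp (Equiv.mulLeft φ₀) (fun φ : S => ((φ.1 g : ℂˣ) : ℂ))).symm
    have hmul : ∑ φ : S, (((φ₀ * φ : S).1 g : ℂˣ) : ℂ) =
        ((φ₀.1 g : ℂˣ) : ℂ) * ∑ φ : S, ((φ.1 g : ℂˣ) : ℂ) := by
      rw [Finset.mul_sum]
      apply Finset.sum_congr rfl
      intro φ _
      rw [Subgroup.coe_mul, MonoidHom.mul_apply, Units.val_mul]
    rw [hmul] at hshift
    have hne : ((φ₀.1 g : ℂˣ) : ℂ) ≠ 1 := by
      intro h
      apply hφ₀
      exact Units.ext h
    have h2 : (1 - ((φ₀.1 g : ℂˣ) : ℂ)) * ∑ φ : S, ((φ.1 g : ℂˣ) : ℂ) = 0 := by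
      rw [sub_mul, one_mul, ← hshift, sub_self]
    rcases mul_eq_zero.mp h2 with h3 | h3
    · exact absurd (sub_eq_zero.mp h3).symm hne
    · exact h3
  -- total sum of σ
  have hsum : ∑ g : G, ∑ φ : S, ((φ.1 g : ℂˣ) : ℂ) = (Nat.card G : ℂ) := by
    rw [Finset.sum_comm]
    have hterm : ∀ φ : S, ∑ g : G, ((φ.1 g : ℂˣ) : ℂ) = if φ = 1 then (Nat.card G : ℂ) else 0 := by
      intro φ
      split_ifs with h
      · subst h
        simp [Nat.card_eq_fintype_card]
      · apply Cfsg.Agent.Lib.Helper25.sum_hom_eq_zero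
        intro hcon
        apply h
        exact Subtype.ext hcon
    rw [Finset.sum_congr rfl (fun φ _ => hterm φ), Finset.sum_ite_eq' Finset.univ (1 : S),
      if_pos (Finset.mem_univ _)]
  have hNS : (N.card : ℂ) * (Nat.card S : ℂ) = (Nat.card G : ℂ) := by
    rw [← hsum, ← Finset.sum_subset (Finset.subset_univ N) (fun g _ hg => hσ0 g hg),
      Finset.sum_congr rfl hσ1, Finset.sum_const, nsmul_eq_mul]
  have hNS' : N.card * Nat.card S = Nat.card G := by exact_mod_cast hNS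
  -- χ vanishes off N
  have hχ0 : ∀ g, g ∉ N → (χ : G → ℂ) g = 0 := by
    intro g hg
    rw [hmemN] at hg
    push Not at hg
    obtain ⟨φ₀, hφ₀⟩ := hg
    have h1 := hS φ₀.1 φ₀.2 g
    have hne : ((φ₀.1 g : ℂˣ) : ℂ) ≠ 1 := by
      intro h
      apply hφ₀
      exact Units.ext h
    have h2 : (((φ₀.1 g : ℂˣ) : ℂ) - 1) * (χ : G → ℂ) g = 0 := by
      rw [sub_mul, one_mul, h1, sub_self]
    rcases mul_eq_zero.mp h2 with h3 | h3
    · exact absurd (sub_eq_zero.mp h3) hne
    · exact h3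
  have horth := Cfsg.Agent.Lib.Helper80.irr_row_orthogonality χ χ
  rw [if_pos rfl] at horth
  have horthN : ∑ g ∈ N, (χ : G → ℂ) g * conj ((χ : G → ℂ) g) = (Nat.card G : ℂ) := by
    rw [← horth]
    apply Finset.sum_subset (Finset.subset_univ N)
    intro g _ hg
    rw [hχ0 g hg, zero_mul]
  have hbound : (Nat.card G : ℝ) ≤ N.card * (n : ℝ) ^ 2 := by
    have h3 : ‖∑ g ∈ N, (χ : G → ℂ) g * conj ((χ : G → ℂ) g)‖ ≤
        ∑ g ∈ N, ‖(χ : G → ℂ) g * conj ((χ : G → ℂ) g)‖ := norm_sum_le _ _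
    rw [horthN] at h3
    have h4 : ∀ g ∈ N, ‖(χ : G → ℂ) g * conj ((χ : G → ℂ) g)‖ ≤ (n : ℝ) ^ 2 := by
      intro g _
      rw [norm_mul, Complex.norm_conj, ← pow_two]
      have h5 := Cfsg.Agent.Lib.Helper80.irr_norm_le χ g
      rw [hn] at h5
      have h6 : ‖(n : ℂ)‖ = (n : ℝ) := by simp
      rw [h6] at h5
      exact pow_le_pow_left₀ (norm_nonneg _) h5 2
    have h7 := Finset.sum_le_sum h4
    rw [Finset.sum_const, nsmul_eq_mul] at h7
    have h8 : ‖(Nat.card G : ℂ)‖ = (Nat.card G : ℝ) := by simp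
    rw [h8] at h3
    exact h3.trans h7
  have hbound' : Nat.card G ≤ N.card * n ^ 2 := by exact_mod_cast hbound
  rw [← hNS'] at hbound'
  have hNpos : 0 < N.card := Finset.card_pos.mpr ⟨1, h1N⟩
  exact Nat.le_of_mul_le_mul_left hbound' hNpos

end StabBound

section FrattiniDual

variable {G : Type*} [Group G] [Finite G]

/-- The group of linear characters trivial on the Frattini subgroup. -/
noncomputable def frattiniDual (G : Type*) [Group G] : Subgroup (G →* ℂˣ) :=
  (MonoidHom.domRestrictHom (frattini G) ℂˣ).ker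

theorem mem_frattiniDual (φ : G →* ℂˣ) :
    φ ∈ frattiniDual G ↔ ∀ x ∈ frattini G, φ x = 1 := by
  unfold frattiniDual
  rw [MonoidHom.mem_ker, MonoidHom.domRestrictHom_apply, MonoidHom.domRestrict_eq_one_iff]

open scoped IsMulCommutative in
/-- For a `p`-group, there are `|G / Φ(G)|` linear characters trivial on `Φ(G)`. -/
theorem card_frattiniDual {p : ℕ} [Fact p.Prime] (hG : IsPGroup p G) :
    Nat.card (frattiniDual G) = Nat.card (G ⧸ frattini G) := by
  haveI : IsMulCommutative (G ⧸ frattini G) :=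
    (Subgroup.Normal.quotient_commutative_iff_commutator_le).mpr
      (Cfsg.Agent.Lib.Helper2.commutator_le_frattini hG)
  unfold frattiniDual
  rw [Nat.card_congr (MonoidHom.domRestrictHomKerEquiv ℂˣ (frattini G)).toEquiv]
  haveI : NeZero ((Monoid.exponent (G ⧸ frattini G) : ℕ) : ℂ) :=
    ⟨by exact_mod_cast Monoid.exponent_ne_zero_of_finite⟩
  exact CommGroup.card_monoidHom_of_hasEnoughRootsOfUnity (G ⧸ frattini G) ℂ

theorem finite_frattiniDual {p : ℕ} [Fact p.Prime] (hG : IsPGroup p G) :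
    Finite (frattiniDual G) := by
  apply Nat.finite_of_card_ne_zero
  rw [card_frattiniDual hG]
  exact Nat.card_pos.ne'

/-- For a `2`-group, the linear characters trivial on `Φ(G)` take the value `1` on squares. -/
theorem frattiniDual_sq (hG : IsPGroup 2 G) {φ : G →* ℂˣ} (hφ : φ ∈ frattiniDual G) (g : G) :
    φ (g * g) = 1 := by
  haveI : Fact (Nat.Prime 2) := ⟨Nat.prime_two⟩
  rw [mem_frattiniDual] at hφ
  apply hφ
  rw [← pow_two]
  exact Cfsg.Agent.Lib.Helper2.pow_mem_frattini hG g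

end FrattiniDual

end Cfsg.Agent.Lib.Helper76
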