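import Mathlib
import Cfsg.Prelude
import Cfsg.Agent.S1217

/-!
MetaSS-M5 (for helper87's S5287): a finite group with quasi-dihedral Sylow 2-subgroups of order
`2^(n+1)` in which all elements of order 4 are conjugate, namely `GL₂(ZMod q)` with
`q ≡ 2^(n-1) - 1 (mod 2^n)` prime.
-/

set_option autoImplicit false
set_option linter.style.haveILetI false
set_option linter.unusedSectionVars false

namespace Cfsg.Agent.Lib.Helper76.MetaSSM5

open Matrix

variable {F : Type*} [Field F]

/-- If `-1` is not a square in `F`, a `2 × 2` matrix `X` with `X⁴ = 1 ≠ X²` has `X² = -1`. -/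
theorem sq_eq_neg_one (hns : ∀ z : F, z * z ≠ -1) (X : Matrix (Fin 2) (Fin 2) F)
    (h4 : (X * X) * (X * X) = 1) (h2 : X * X ≠ 1) : X * X = -1 := by
  obtain ⟨a, b, c, d, rfl⟩ : ∃ a b c d : F, X = !![a, b; c, d] :=
    ⟨X 0 0, X 0 1, X 1 0, X 1 1, (Matrix.eta_fin_two X)⟩
  have hP : (!![a, b; c, d] : Matrix (Fin 2) (Fin 2) F) * !![a, b; c, d]
      = !![a * a + b * c, a * b + b * d; c * a + d * c, c * b + d * d] := by
    rw [Matrix.mul_fin_two]
  rw [hP] at h4 h2 ⊢
  rw [Matrix.mul_fin_two] at h4
  have e00 := congrFun (congrFun h4 0) 0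
  have e01 := congrFun (congrFun h4 0) 1
  have e10 := congrFun (congrFun h4 1) 0
  have e11 := congrFun (congrFun h4 1) 1
  simp only [Matrix.of_apply, Matrix.cons_val', Matrix.cons_val_zero, Matrix.cons_val_one,
    Matrix.cons_val_fin_one, Matrix.one_apply_eq, Matrix.one_apply_ne, ne_eq, one_ne_zero,
    zero_ne_one, not_false_eq_true] at e00 e01 e10 e11
  by_cases ht : a + d = 0
  · -- trace zero: X² is scalar
    have hd : d = -a := by linear_combination ht
    subst hd
    have hs : (a * a + b * c - 1) * (a * a + b * c + 1) = 0 := by linear_combination e00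
    rcases mul_eq_zero.mp hs with h | h
    · exfalso
      apply h2
      have h' : a * a + b * c = 1 := by linear_combination h
      ext i j
      fin_cases i <;> fin_cases j <;> simp <;> first | linear_combination h' | ring
    · have h' : a * a + b * c = -1 := by linear_combination h
      ext i j
      fin_cases i <;> fin_cases j <;> simp <;> first | linear_combination h' | ring
  · exfalso
    by_cases hq : (a + d) * (a + d) - 2 * (a * d - b * c) = 0
    · -- then det² = -1
      apply hns (a * d - b * c)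
      linear_combination (-1 : F) * e00 + ((a + d) * a - (a * d - b * c)) * hq
    · -- then b = c = 0 and a² = d² = 1
      have hb : b = 0 := by
        have : b * ((a + d) * ((a + d) * (a + d) - 2 * (a * d - b * c))) = 0 := by
          linear_combination e01
        rcases mul_eq_zero.mp this with h | h
        · exact h
        · exact absurd h (mul_ne_zero ht hq)
      have hc : c = 0 := by
        have : c * ((a + d) * ((a + d) * (a + d) - 2 * (a * d - b * c))) = 0 := by
          linear_combination e10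
        rcases mul_eq_zero.mp this with h | h
        · exact h
        · exact absurd h (mul_ne_zero ht hq)
      subst hb hc
      have ha : a * a = 1 := by
        have : (a * a - 1) * (a * a + 1) = 0 := by linear_combination e00
        rcases mul_eq_zero.mp this with h | h
        · linear_combination h
        · exact absurd (by linear_combination h : a * a = -1) (hns a)
      have hd : d * d = 1 := by
        have : (d * d - 1) * (d * d + 1) = 0 := by linear_combination e11
        rcases mul_eq_zero.mp this with h | h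
        · linear_combination h
        · exact absurd (by linear_combination h : d * d = -1) (hns d)
      apply h2
      ext i j
      fin_cases i <;> fin_cases j <;> simp [ha, hd]

/-- The companion matrix of `t² + 1`. -/
def J : Matrix (Fin 2) (Fin 2) F := !![0, -1; 1, 0]

theorem det_J : (J : Matrix (Fin 2) (Fin 2) F).det = 1 := by
  simp [J, Matrix.det_fin_two]

/-- If `-1` is not a square, every `X` with `X² = -1` is conjugate to `J` by an invertible matrix. -/
theorem exists_conj_J (hns : ∀ z : F, z * z ≠ -1) (X : Matrix (Fin 2) (Fin 2) F)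
    (h : X * X = -1) : ∃ S : Matrix (Fin 2) (Fin 2) F, S.det ≠ 0 ∧ X * S = S * J := by
  obtain ⟨a, b, c, d, rfl⟩ : ∃ a b c d : F, X = !![a, b; c, d] :=
    ⟨X 0 0, X 0 1, X 1 0, X 1 1, (Matrix.eta_fin_two X)⟩
  rw [Matrix.mul_fin_two] at h
  have e00 := congrFun (congrFun h 0) 0
  have e10 := congrFun (congrFun h 1) 0
  simp only [Matrix.of_apply, Matrix.cons_val', Matrix.cons_val_zero, Matrix.cons_val_one,
    Matrix.cons_val_fin_one, Matrix.neg_apply, Matrix.one_apply_eq, Matrix.one_apply_ne, ne_eq,
    one_ne_zero, not_false_eq_true, neg_zero] at e00 e10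
  have hc : c ≠ 0 := by
    intro hc
    subst hc
    apply hns a
    linear_combination e00
  refine ⟨!![1, a; 0, c], ?_, ?_⟩
  · simpa [Matrix.det_fin_two] using hc
  · rw [J, Matrix.mul_fin_two, Matrix.mul_fin_two]
    ext i j
    fin_cases i <;> fin_cases j <;> simp
    · linear_combination e00
    · linear_combination e10

/-- In `GL₂(F)`, `-1` a non-square in `F`: all elements of order 4 are conjugate. -/
theorem isConj_of_orderOf_four (hns : ∀ z : F, z * z ≠ -1) (x y : GL (Fin 2) F)
    (hx : orderOf x = 4) (hy : orderOf y = 4) : IsConj x y := by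
  have key : ∀ x : GL (Fin 2) F, orderOf x = 4 →
      IsConj (Matrix.GeneralLinearGroup.mkOfDetNeZero (J : Matrix (Fin 2) (Fin 2) F)
        (by rw [det_J]; exact one_ne_zero)) x := by
    intro x hx
    have hx4 : x ^ 4 = 1 := by rw [← hx]; exact pow_orderOf_eq_one x
    have hx2 : x ^ 2 ≠ 1 := by
      intro h
      have := orderOf_dvd_of_pow_eq_one h
      rw [hx] at this
      omega
    have h4 : ((x : Matrix (Fin 2) (Fin 2) F) * x) * ((x : Matrix (Fin 2) (Fin 2) F) * x) = 1 := by
      have := congrArg (fun g : GL (Fin 2) F => (g : Matrix (Fin 2) (Fin 2) F)) hx4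
      simp only [Units.val_pow_eq_pow_val, Units.val_one] at this
      rw [← this]
      noncomm_ring
    have h2 : (x : Matrix (Fin 2) (Fin 2) F) * x ≠ 1 := by
      intro h
      apply hx2
      apply Units.ext
      simp only [Units.val_pow_eq_pow_val, Units.val_one]
      rw [pow_two]
      exact h
    obtain ⟨S, hS, hXS⟩ := exists_conj_J hns _ (sq_eq_neg_one hns _ h4 h2)
    rw [isConj_iff]
    refine ⟨Matrix.GeneralLinearGroup.mkOfDetNeZero S hS, ?_⟩
    rw [mul_inv_eq_iff_eq_mul]
    apply Units.ext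
    exact hXS.symm
  exact (key x hx).symm.trans (key y hy)

end Cfsg.Agent.Lib.Helper76.MetaSSM5

namespace Cfsg.Agent.Lib.Helper87.MetaSS

open Cfsg.Agent.Lib.Helper76.MetaSSM5

/-- M5. Quasi-dihedral Sylow subgroups with all elements of order 4 fused: `G = GL₂(ZMod q)`, `q` a
prime with `q ≡ 2^(n-1) - 1 (mod 2^n)`. -/
theorem exists_quasiDihedral_sylow (n : ℕ) (hn : 3 ≤ n) :
    ∃ (G : Type) (_ : Group G) (_ : Finite G) (P : Sylow 2 G),
      Cfsg.IsQuasiDihedral ↥(P : Subgroup G) ∧ Nat.card ↥(P : Subgroup G) = 2 ^ (n + 1) ∧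
      ∀ x y : G, orderOf x = 4 → orderOf y = 4 → IsConj x y := by
  obtain ⟨k, rfl⟩ : ∃ k, n = k + 3 := ⟨n - 3, by omega⟩
  set b : ℕ := 2 ^ k with hb
  have hb1 : 1 ≤ b := Nat.one_le_two_pow
  have h8b : 2 ^ (k + 3) = 8 * b := by rw [hb]; ring
  have hcop : (4 * b - 1).Coprime (2 ^ (k + 3)) := by
    apply Nat.Coprime.pow_right
    rw [Nat.coprime_two_right]
    exact ⟨2 * b - 1, by omega⟩
  obtain ⟨q, _, hqp, hqmod⟩ := Nat.forall_exists_prime_gt_and_modEq (8 * b)
    (q := 2 ^ (k + 3)) (a := 4 * b - 1) (by positivity) hcop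
  have hq1 : q % (8 * b) = 4 * b - 1 := by
    have h := hqmod
    rw [Nat.ModEq, h8b] at h
    rw [h, Nat.mod_eq_of_lt (by omega)]
  obtain ⟨t, ht⟩ : ∃ t, q = 8 * b * t + (4 * b - 1) :=
    ⟨q / (8 * b), by rw [← hq1]; exact (Nat.div_add_mod q (8 * b)).symm⟩
  obtain ⟨w, hw⟩ : ∃ w, w + 1 = 4 * (b * t) + 2 * b := ⟨4 * (b * t) + 2 * b - 1, by omega⟩
  have hq' : q = 2 * w + 1 := by
    have : 8 * b * t = 8 * (b * t) := by ring
    omega
  have hw1 : w + 1 = 2 * b * (2 * t + 1) := by rw [hw]; ring
  haveI : Fact q.Prime := ⟨hqp⟩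
  haveI : NeZero q := ⟨hqp.ne_zero⟩
  have hq4 : q % 4 = 3 := by
    have : 8 * b * t = 8 * (b * t) := by ring
    omega
  have hns : ∀ z : ZMod q, z * z ≠ -1 := by
    intro z hz
    have : IsSquare (-1 : ZMod q) := ⟨z, hz.symm⟩
    exact (ZMod.exists_sq_eq_neg_one_iff.mp this) hq4
  let P : Sylow 2 (GL (Fin 2) (ZMod q)) := default
  refine ⟨GL (Fin 2) (ZMod q), inferInstance, inferInstance, P, ?_, ?_, ?_⟩
  · exact (Cfsg.Agent.S1217.result P).1 (by rw [ZMod.card]; exact hq4)
  · rw [Sylow.card_eq_multiplicity]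
    have hG : Nat.card (GL (Fin 2) (ZMod q))
        = 2 ^ (k + 3 + 1) * (w * w * (2 * t + 1) * (2 * w + 1)) := by
      rw [Matrix.card_GL_field, Fin.prod_univ_two, ZMod.card]
      simp only [Fin.val_zero, Fin.val_one, pow_zero, pow_one]
      have e1 : q ^ 2 - 1 = 4 * w * (w + 1) := by
        rw [hq']; apply Nat.sub_eq_of_eq_add; ring
      have e2 : q ^ 2 - q = 2 * w * (2 * w + 1) := by
        rw [hq']; apply Nat.sub_eq_of_eq_add; ring
      rw [e1, e2, hw1, hb]; ring
    have hwodd : Odd w := by
      rw [Nat.odd_iff]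
      have : w + 1 = 2 * (b * (2 * t + 1)) := by rw [hw1]; ring
      omega
    have hmodd : Odd (w * w * (2 * t + 1) * (2 * w + 1)) :=
      ((hwodd.mul hwodd).mul ⟨t, rfl⟩).mul ⟨w, rfl⟩
    have hm2 : ¬ 2 ∣ w * w * (2 * t + 1) * (2 * w + 1) := by
      intro h
      have := Nat.odd_iff.mp hmodd
      omega
    have hm0 : w * w * (2 * t + 1) * (2 * w + 1) ≠ 0 := by
      intro h; rw [h] at hm2; exact hm2 (dvd_zero 2)
    rw [hG, Nat.factorization_mul (by positivity) hm0, Finsupp.add_apply,
      Nat.Prime.factorization_pow Nat.prime_two, Finsupp.single_eq_same,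
      Nat.factorization_eq_zero_of_not_dvd hm2, add_zero]
  · intro x y hx hy
    exact isConj_of_orderOf_four hns x y hx hy

end Cfsg.Agent.Lib.Helper87.MetaSS
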