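import Mathlib
import Cfsg.Prelude.Def_ClassicalGeometry
import Cfsg.Prelude.Def_GeometricClasses
import Cfsg.Agent.Lib.Helper81.OnDefs
import Cfsg.Agent.Lib.Helper8.SpBlkDec
import Cfsg.Agent.Lib.Helper76.HyT2

/-! # ON-T1 core (helper81's S5989 hive "On"): `fix_ge_of_plus` with `mod_le_fix` as a hypothesis -/

set_option autoImplicit false
set_option linter.unusedSectionVars false
set_option linter.unusedVariables false
set_option linter.style.haveILetI false

namespace Cfsg.Agent.Lib.Helper81.On

open Polynomial Module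
open Cfsg.Agent.Lib.Helper2.BG Cfsg.Agent.Lib.Helper99 Cfsg.Agent.Lib.Helper48.Ti
open Cfsg.Agent.Lib.Helper8.SpBlk (blk)

section concrete

variable {F : Type*} [Field F]

theorem t1_plusB_apply (d : ℕ) (u v : VP d F) :
    plusB d u v = ∑ i, u (Sum.inl i) * v (Sum.inr i) + ∑ i, u (Sum.inr i) * v (Sum.inl i) := by
  unfold plusB
  rw [Matrix.toBilin'_apply']
  unfold Cfsg.Agent.Lib.Helper37.gramP
  simp [dotProduct, Fintype.sum_sum_type, Matrix.mulVec, Matrix.one_apply]

theorem t1_plusB_symm (d : ℕ) (u v : VP d F) : plusB d u v = plusB d v u := by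
  rw [t1_plusB_apply, t1_plusB_apply, add_comm]
  congr 1 <;> exact Finset.sum_congr rfl (fun i _ => mul_comm _ _)

theorem t1_plusB_sep (d : ℕ) (u : VP d F) (hu : ∀ v, plusB d u v = 0) : u = 0 := by
  classical
  funext k
  rcases k with i | i
  · have := hu (Pi.single (Sum.inr i) 1)
    rw [t1_plusB_apply] at this
    simpa [Pi.single_apply] using this
  · have := hu (Pi.single (Sum.inl i) 1)
    rw [t1_plusB_apply] at this
    simpa [Pi.single_apply] using this

theorem t1_lagrangian (d : ℕ) : ∃ U : Submodule F (VP d F),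
    (∀ u ∈ U, ∀ v ∈ U, plusB d u v = 0) ∧ 2 * finrank F U = finrank F (VP d F) := by
  classical
  let e : Fin d → VP d F := fun i => Pi.single (Sum.inl i) 1
  have hli : LinearIndependent F e := by
    have := (Pi.basisFun F (Fin d ⊕ Fin d)).linearIndependent.comp Sum.inl Sum.inl_injective
    convert this using 1
    funext i
    simp [e, Pi.basisFun_apply]
  have hee : ∀ i j, plusB d (e i) (e j) = 0 := by
    intro i j
    rw [t1_plusB_apply]
    simp [e, Pi.single_apply]
  refine ⟨Submodule.span F (Set.range e), ?_, ?_⟩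
  · have h1 : ∀ i, ∀ v ∈ Submodule.span F (Set.range e), plusB d (e i) v = 0 := by
      intro i v hv
      induction hv using Submodule.span_induction with
      | mem v hv => obtain ⟨j, rfl⟩ := hv; exact hee i j
      | zero => simp
      | add a b _ _ ha hb => rw [map_add, ha, hb, add_zero]
      | smul c a _ ha => rw [map_smul, ha, smul_zero]
    intro u hu v hv
    induction hu using Submodule.span_induction with
    | mem u hu => obtain ⟨i, rfl⟩ := hu; exact h1 i v hv
    | zero => simp
    | add a b _ _ ha hb => rw [map_add, LinearMap.add_apply, ha, hb, add_zero]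
    | smul c a _ ha => rw [map_smul, LinearMap.smul_apply, ha, smul_zero]
  · rw [finrank_span_eq_card hli, Fintype.card_fin]
    simp [VP]
    ring

section elements

variable [Fintype F] {p : ℕ} [Fact p.Prime] [CharP F p] {r : ℕ} [Fact r.Prime]

theorem t1_core (h2 : (2 : F) ≠ 0) (hr2 : r ≠ 2) (hrp : r ≠ p) (d : ℕ) (hd : 1 ≤ d)
    (hev : Even (orderOf ((Fintype.card F : ℕ) : ZMod r)))
    (hdvd : (2 * d) % blk F r = 0) (hodd : Odd ((2 * d) / blk F r))
    {f : Module.End F (VP d F)} (hf : Isom (plusB d) f) (hfr : f ^ r = 1)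
    (hmod : ∃ s : ℕ, finrank F (VP d F) = finrank F (LinearMap.ker (f - 1)) + s * blk F r) :
    blk F r ≤ finrank F (LinearMap.ker (f - 1)) := by
  classical
  have hr : r.Prime := Fact.out
  have hp : p.Prime := Fact.out
  have hblk : blk F r = orderOf ((Fintype.card F : ℕ) : ZMod r) := by
    unfold blk; rw [if_pos hev]
  have hipos : 0 < orderOf ((Fintype.card F : ℕ) : ZMod r) :=
    Cfsg.Agent.Lib.Helper2.BG.orderOf_pos_of_ne (F := F) (p := p) hrp
  have hdimV : finrank F (VP d F) = 2 * d := by
    simp [VP]; ring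
  obtain ⟨s, hs⟩ := hmod
  rw [hdimV] at hs
  by_contra hlt
  push Not at hlt
  have hc0 : finrank F (LinearMap.ker (f - 1)) = 0 := by
    have h1 : (finrank F (LinearMap.ker (f - 1)) + s * blk F r) % blk F r = 0 := by
      rw [← hs]; exact hdvd
    rw [Nat.add_mul_mod_self_right, Nat.mod_eq_of_lt hlt] at h1
    exact h1
  have hker : LinearMap.ker (f - 1) = ⊥ := Submodule.finrank_eq_zero.1 hc0
  have hfix : ∀ v, f v = v → v = 0 := by
    intro v hv
    have h1 : v ∈ LinearMap.ker (f - 1) := by
      rw [LinearMap.mem_ker, LinearMap.sub_apply, hv]; simp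
    rw [hker] at h1
    exact (Submodule.mem_bot F).1 h1
  have hrq : ¬ r ∣ Fintype.card F := by
    intro h0
    obtain ⟨k, _, hk⟩ := FiniteField.card F p
    rw [hk] at h0
    exact hrp ((Nat.prime_dvd_prime_iff_eq hr hp).mp (hr.dvd_of_dvd_pow h0))
  have habs := Cfsg.Agent.Lib.Helper5.Hy.t2_abs (plusB (F := F) d) h2 (t1_plusB_symm d) (t1_plusB_sep d) f
    (fun u v => hf u v) r
    hr2 hrq hfr hfix
  rw [hdimV, Nat.mul_div_cancel_left d (by norm_num : 0 < 2)] at habs
  have hxd := habs.1 (by
    obtain ⟨U, hU1, hU2⟩ := t1_lagrangian (F := F) d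
    exact ⟨U, hU1, by rw [hU2, hdimV]⟩)
  obtain ⟨t, ht⟩ := orderOf_dvd_of_pow_eq_one hxd
  rw [hblk] at hodd
  have h5 : 2 * d / orderOf ((Fintype.card F : ℕ) : ZMod r) = 2 * t := by
    rw [ht, show 2 * (orderOf ((Fintype.card F : ℕ) : ZMod r) * t) =
      orderOf ((Fintype.card F : ℕ) : ZMod r) * (2 * t) by ring]
    exact Nat.mul_div_cancel_left _ hipos
  rw [h5] at hodd
  exact (Nat.not_odd_iff_even.2 ⟨t, by ring⟩) hodd

end elements

end concrete

end Cfsg.Agent.Lib.Helper81.On
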