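import Mathlib
import Cfsg.Prelude.Def_ClassicalGeometry
import Cfsg.Prelude.Def_GeometricClasses
import Cfsg.Agent.Lib.Helper81.OnDefs
import Cfsg.Agent.Lib.Helper8.SpBlkDec
import Cfsg.Agent.Lib.Helper68.HyB1
import Cfsg.Agent.Lib.Helper76.OnT1core

/-! # ON-T1 (helper81's S5989 hive "On"): `fix_ge_of_plus`.  The congruence `dim ker (f-1) ≡ dim V`
modulo `blk` is taken from helper68's `Cfsg.Agent.Lib.Helper5.Hy.sym_blocks` (HY-B1) with `N = ⊤`. -/

set_option autoImplicit false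
set_option linter.unusedSectionVars false
set_option linter.unusedVariables false

namespace Cfsg.Agent.Lib.Helper81.On

open Polynomial Module
open Cfsg.Agent.Lib.Helper2.BG Cfsg.Agent.Lib.Helper99 Cfsg.Agent.Lib.Helper48.Ti
open Cfsg.Agent.Lib.Helper8.SpBlk (blk)

section concrete

variable {F : Type*} [Field F]

section elements

variable [Fintype F] {p : ℕ} [Fact p.Prime] [CharP F p] {r : ℕ} [Fact r.Prime]

/-- ON-T1 -/
theorem fix_ge_of_plus (h2 : (2 : F) ≠ 0) (hr2 : r ≠ 2) (hrp : r ≠ p) (d : ℕ) (hd : 1 ≤ d)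
    (hev : Even (orderOf ((Fintype.card F : ℕ) : ZMod r)))
    (hdvd : (2 * d) % blk F r = 0) (hodd : Odd ((2 * d) / blk F r))
    {f : Module.End F (VP d F)} (hf : Isom (plusB d) f) (hfr : f ^ r = 1) :
    blk F r ≤ finrank F (LinearMap.ker (f - 1)) := by
  have hr : r.Prime := Fact.out
  have hp : p.Prime := Fact.out
  have hrq : ¬ r ∣ Fintype.card F := by
    intro h0
    obtain ⟨k, _, hk⟩ := FiniteField.card F p
    rw [hk] at h0
    exact hrp ((Nat.prime_dvd_prime_iff_eq hr hp).mp (hr.dvd_of_dvd_pow h0))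
  have hnd : Nd (plusB (F := F) d) ⊤ := fun u _ hu => t1_plusB_sep d u (fun v => hu v trivial)
  obtain ⟨-, s, hs, -⟩ := Cfsg.Agent.Lib.Helper5.Hy.sym_blocks (B := plusB (F := F) d) h2
    (t1_plusB_symm d) hf r hr2 hrq hfr (orderOf ((Fintype.card F : ℕ) : ZMod r)) (blk F r) rfl rfl
    (N := ⊤) (fun v _ => trivial) hnd
  refine t1_core h2 hr2 hrp d hd hev hdvd hodd hf hfr ⟨s, ?_⟩
  have hFix : (⊤ ⊓ Cfsg.Agent.Lib.Helper5.Hy.Fix f : Submodule F (VP d F)) = LinearMap.ker (f - 1) :=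
    top_inf_eq _
  rw [finrank_top, hFix] at hs
  exact hs

end elements

end concrete

end Cfsg.Agent.Lib.Helper81.On
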