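import Mathlib
import Cfsg.Prelude.Def_Local
import Cfsg.Agent.Lib.Helper76.PSolvable
import Cfsg.Agent.Lib.Helper69.PSolvable
import Cfsg.Agent.Lib.Helper24.RelSZ

set_option autoImplicit false
set_option linter.style.haveILetI false

/-!
# `p`-complements (Hall `p'`-subgroups) in `p`-solvable groups

* `IsPCompl p H` : `|H|` is coprime to `p` and `|G : H|` is a power of `p`.
* `exists_isPCompl` (existence, from helper69's `exists_pComplement`).
* `isPCompl_dominates` : every `p'`-subgroup is conjugate into any given `p`-complement.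
* `isPCompl_conj` : any two `p`-complements are conjugate.
-/

namespace Cfsg.Agent.Lib.Helper76

open Cfsg Cfsg.Agent.Lib.Helper55 Cfsg.Agent.Lib.Helper33 Cfsg.Agent.Lib.Helper24

universe u

/-- `H` is a `p`-complement (Hall `p'`-subgroup) of `G`. -/
def IsPCompl {G : Type*} [Group G] (p : ℕ) (H : Subgroup G) : Prop :=
  (Nat.card H).Coprime p ∧ ∃ n : ℕ, H.index = p ^ n

theorem exists_isPCompl {G : Type u} [Group G] [Finite G] {p : ℕ} [Fact p.Prime]
    (h : IsPSolvable p G) : ∃ H : Subgroup G, IsPCompl p H :=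
  Cfsg.Agent.Lib.Helper69.exists_pComplement p h

theorem IsPCompl.card_eq {G : Type*} [Group G] [Finite G] {p : ℕ} [Fact p.Prime]
    {H₁ H₂ : Subgroup G} (h₁ : IsPCompl p H₁) (h₂ : IsPCompl p H₂) :
    Nat.card H₁ = Nat.card H₂ := by
  obtain ⟨c1, a, ha⟩ := h₁
  obtain ⟨c2, b, hb⟩ := h₂
  have e1 := H₁.card_mul_index
  have e2 := H₂.card_mul_index
  rw [ha] at e1
  rw [hb] at e2
  apply Nat.dvd_antisymm
  · have : Nat.card H₁ ∣ Nat.card H₂ * p ^ b := by rw [e2, ← e1]; exact dvd_mul_right _ _
    exact (Nat.Coprime.pow_right b c1).dvd_of_dvd_mul_right this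
  · have : Nat.card H₂ ∣ Nat.card H₁ * p ^ a := by rw [e1, ← e2]; exact dvd_mul_right _ _
    exact (Nat.Coprime.pow_right a c2).dvd_of_dvd_mul_right this

theorem IsPCompl.map {G : Type*} [Group G] [Finite G] {G' : Type*} [Group G'] {p : ℕ}
    [Fact p.Prime] {H : Subgroup G} (h : IsPCompl p H) (f : G →* G')
    (hf : Function.Surjective f) : IsPCompl p (H.map f) := by
  obtain ⟨c, n, hn⟩ := h
  refine ⟨?_, ?_⟩
  · have : Nat.card (H.map f) ∣ Nat.card H := Subgroup.card_map_dvd _ _
    exact Nat.Coprime.coprime_dvd_left this c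
  · have : (H.map f).index ∣ p ^ n := hn ▸ Subgroup.index_map_dvd H hf
    obtain ⟨k, -, hk⟩ := (Nat.dvd_prime_pow Fact.out).1 this
    exact ⟨k, hk⟩

theorem card_eq_of_inf_eq_bot {G : Type*} [Group G] (N X : Subgroup G) (h : N ⊓ X = ⊥) :
    N.relIndex X = Nat.card X := by
  rw [← Subgroup.inf_relIndex_right, h, Subgroup.relIndex_bot_left]

theorem isPCompl_dominates_aux (p : ℕ) [Fact p.Prime] :
    ∀ (n : ℕ) (G : Type u) [Group G] [Finite G], Nat.card G = n → IsPSolvable p G →
      ∀ H : Subgroup G, IsPCompl p H → ∀ U : Subgroup G, (Nat.card U).Coprime p →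
        ∃ g : G, cj g U ≤ H := by
  intro n
  induction n using Nat.strong_induction_on with
  | _ n ih =>
    intro G _ _ hn hsolv H hH U hU
    by_cases htriv : Subsingleton G
    · refine ⟨1, ?_⟩
      intro x _
      have : x = 1 := Subsingleton.elim _ _
      rw [this]; exact H.one_mem
    · have : Nontrivial G := not_subsingleton_iff_nontrivial.1 htriv
      obtain ⟨N, hNn, hNbot, hNcase⟩ := exists_normal_of_isPSolvable hsolv
      have := hNn
      have hlt : Nat.card (G ⧸ N) < n := by
        rw [← hn, Subgroup.card_eq_card_quotient_mul_card_subgroup N]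
        have h1 : 1 < Nat.card N := (Subgroup.one_lt_card_iff_ne_bot N).2 hNbot
        have h2 : 0 < Nat.card (G ⧸ N) := Nat.card_pos
        nlinarith
      have hUbar : (Nat.card (U.map (QuotientGroup.mk' N))).Coprime p :=
        Nat.Coprime.coprime_dvd_left (Subgroup.card_map_dvd _ _) hU
      obtain ⟨gbar, hgbar⟩ := ih _ hlt (G ⧸ N) rfl (isPSolvable_quotient N hsolv)
        (H.map (QuotientGroup.mk' N)) (hH.map _ (QuotientGroup.mk'_surjective N))
        (U.map (QuotientGroup.mk' N)) hUbar
      obtain ⟨g, rfl⟩ := QuotientGroup.mk'_surjective N gbar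
      -- `cj g U ≤ H ⊔ N`
      have hle : cj g U ≤ H ⊔ N := by
        intro x hx
        obtain ⟨u, hu, rfl⟩ := mem_cj'.1 hx
        have h1 : QuotientGroup.mk' N (g * u * g⁻¹) ∈ H.map (QuotientGroup.mk' N) := by
          apply hgbar
          rw [mem_cj']
          exact ⟨QuotientGroup.mk' N u, Subgroup.mem_map_of_mem _ hu, by simp⟩
        have h2 : g * u * g⁻¹ ∈ (H.map (QuotientGroup.mk' N)).comap (QuotientGroup.mk' N) := h1
        rwa [Subgroup.comap_map_eq, QuotientGroup.ker_mk'] at h2
      obtain ⟨cH, a, ha⟩ := hH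
      rcases hNcase with hNp | hNp'
      · -- `N` is a `p`-group: Schur–Zassenhaus conjugacy
        set V := cj g U with hV
        have hVcard : (Nat.card V).Coprime p := by rw [hV, card_cj]; exact hU
        obtain ⟨k, hk⟩ := IsPGroup.iff_card.1 hNp
        have hNV : N ⊓ V = ⊥ := by
          apply (Subgroup.disjoint_of_coprime_natCard _).eq_bot
          rw [hk]; exact (Nat.Coprime.pow_right k hVcard).symm
        set H0 := (V ⊔ N) ⊓ H with hH0
        have hH0card : (Nat.card H0).Coprime p :=
          Nat.Coprime.coprime_dvd_left (Subgroup.card_dvd_of_le inf_le_right) cH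
        have hNH0 : N ⊓ H0 = ⊥ := by
          apply (Subgroup.disjoint_of_coprime_natCard _).eq_bot
          rw [hk]; exact (Nat.Coprime.pow_right k hH0card).symm
        have hsup : H0 ⊔ N = V ⊔ N := by
          apply le_antisymm
          · exact sup_le inf_le_left le_sup_right
          · intro x hx
            have hx' : x ∈ H ⊔ N := (sup_le hle le_sup_right) hx
            obtain ⟨h, hh, m, hm, rfl⟩ := Subgroup.mem_sup_of_normal_right.1 hx'
            have hh' : h ∈ V ⊔ N := by
              have : h = h * m * m⁻¹ := by group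
              rw [this]
              exact Subgroup.mul_mem _ hx (Subgroup.inv_mem _ (Subgroup.mem_sup_right hm))
            exact Subgroup.mul_mem _ (Subgroup.mem_sup_left ⟨hh', hh⟩) (Subgroup.mem_sup_right hm)
        have hcardeq : Nat.card H0 = Nat.card V := by
          rw [← card_eq_of_inf_eq_bot N H0 hNH0, ← card_eq_of_inf_eq_bot N V hNV,
            ← Subgroup.relIndex_sup_right H0 N, ← Subgroup.relIndex_sup_right V N, hsup]
        have hsolvN : Group.IsSolvable N := by
          have : Group.IsNilpotent N := hNp.isNilpotent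
          infer_instance
        have hVnorm : V ≤ Subgroup.normalizer (N : Set G) := by
          rw [Subgroup.normalizer_eq_top]; exact le_top
        have hcop : (Nat.card V).Coprime (Nat.card N) := by
          rw [hk]; exact Nat.Coprime.pow_right k hVcard
        obtain ⟨m, hm, hmeq⟩ := rel_sz_conj N V H0 hVnorm hcop (Or.inl hsolvN) inf_le_left hcardeq
        refine ⟨m * g, ?_⟩
        rw [cj_mul, ← hV, hmeq]
        exact inf_le_right
      · -- `N` is a `p'`-group: `N ≤ H`
        have hHN : H ⊔ N = H := by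
          apply le_antisymm _ le_sup_left
          rw [← Subgroup.relIndex_eq_one]
          have d1 : H.relIndex (H ⊔ N) ∣ p ^ a := ha ▸ Subgroup.relIndex_dvd_index_of_le le_sup_left
          have d2 : H.relIndex (H ⊔ N) ∣ Nat.card H * Nat.card N :=
            (Subgroup.relIndex_dvd_card _ _).trans (card_sup_dvd_mul H N)
          have hc : (p ^ a).Coprime (Nat.card H * Nat.card N) :=
            (Nat.Coprime.pow_right a (Nat.Coprime.mul_left cH hNp')).symm
          have := Nat.dvd_gcd d1 d2
          rw [hc] at this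
          exact Nat.dvd_one.mp this
        exact ⟨g, hHN ▸ hle⟩

/-- In a finite `p`-solvable group every `p'`-subgroup is conjugate into any given `p`-complement. -/
theorem isPCompl_dominates {G : Type u} [Group G] [Finite G] {p : ℕ} [Fact p.Prime]
    (hG : IsPSolvable p G) {H : Subgroup G} (hH : IsPCompl p H) {U : Subgroup G}
    (hU : (Nat.card U).Coprime p) : ∃ g : G, cj g U ≤ H :=
  isPCompl_dominates_aux p _ G rfl hG H hH U hU

/-- In a finite `p`-solvable group any two `p`-complements are conjugate. -/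
theorem isPCompl_conj {G : Type u} [Group G] [Finite G] {p : ℕ} [Fact p.Prime]
    (hG : IsPSolvable p G) {H₁ H₂ : Subgroup G} (h₁ : IsPCompl p H₁) (h₂ : IsPCompl p H₂) :
    ∃ g : G, H₂ = cj g H₁ := by
  obtain ⟨g, hg⟩ := isPCompl_dominates hG h₁ h₂.1
  have : cj g H₂ = H₁ := by
    apply Subgroup.eq_of_le_of_card_ge hg
    rw [card_cj, h₁.card_eq h₂]
  refine ⟨g⁻¹, ?_⟩
  rw [← this, cj_inv_cj]

end Cfsg.Agent.Lib.Helper76
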