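import Mathlib
import Cfsg.Prelude.Def_Characters

set_option autoImplicit false

/-! Definitions for the `Sl` hive (S2332): sharp minimal degree `(q^n - q)/(q - 1)` of `SL_n(q)`, `n ≥ 3`.
`Gm F m = SL_{m+2}(F)`. -/

namespace Cfsg.Agent.Lib.Helper76.Sl

open Matrix

variable (F : Type*) [Field F] [Fintype F] [DecidableEq F]

/-- `SL_{m+2}(F)` -/
abbrev Gm (m : ℕ) := Matrix.SpecialLinearGroup (Fin (m + 2)) F

/-- the root element `E_{0,last}(1)` of `SL_{m+2}` -/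
def tv (m : ℕ) : Gm F m :=
  Matrix.SpecialLinearGroup.transvection (i := (0 : Fin (m + 2))) (j := Fin.last (m + 1))
    (by rw [Ne, Fin.ext_iff]; simp) (1 : F)

/-- the root element `E_{1,last}(1)` of `SL_{m+3}`: the image of `tv F m` under the lower-right block
embedding `SL_{m+2} → SL_{m+3}`. -/
def tvS (m : ℕ) : Gm F (m + 1) :=
  Matrix.SpecialLinearGroup.transvection (i := (1 : Fin (m + 3))) (j := Fin.last (m + 2))
    (by rw [Ne, Fin.ext_iff]; simp) (1 : F)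

/-- `Q`: the unipotent radical of the stabiliser of the line `F e_0` (all transvections with centre `e_0`):
all rows except row `0` are rows of the identity matrix. Elementary abelian of order `q^(m+1)`. -/
def Qset (m : ℕ) : Set (Gm F m) :=
  {g | ∀ i j : Fin (m + 2), i ≠ 0 → g.1 i j = (1 : Matrix (Fin (m + 2)) (Fin (m + 2)) F) i j}

/-- `S`: the stabiliser of the vector `e_0`: column `0` is that of the identity. `S = Q ⋊ SL_{m+1}`. -/
def Sset (m : ℕ) : Set (Gm F m) :=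
  {g | ∀ i : Fin (m + 2), g.1 i 0 = (1 : Matrix (Fin (m + 2)) (Fin (m + 2)) F) i 0}

open Classical in
/-- `g ↦ |Q|⁻¹ ∑_{x ∈ Q} χ (x g)` (`|Q| = q^(m+1)`). -/
noncomputable def avgQ (m : ℕ) (χ : Gm F m → ℂ) (g : Gm F m) : ℂ :=
  ((Fintype.card F : ℂ) ^ (m + 1))⁻¹ * ∑ x ∈ Finset.univ.filter (fun x : Gm F m => x ∈ Qset F m), χ (x * g)

open Classical in
/-- `|S|⁻¹ ∑_{x ∈ S} χ x`. -/
noncomputable def avgS (m : ℕ) (χ : Gm F m → ℂ) : ℂ :=
  ((Finset.univ.filter (fun x : Gm F m => x ∈ Sset F m)).card : ℂ)⁻¹ *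
    ∑ x ∈ Finset.univ.filter (fun x : Gm F m => x ∈ Sset F m), χ x

/-- `Q'`: all transvections with axis `x_last = 0` (unipotent radical of the stabiliser of that hyperplane):
all columns except the last are columns of the identity matrix. `|Q'| = q^(m+1)`. -/
def Qpset (m : ℕ) : Set (Gm F m) :=
  {g | ∀ i j : Fin (m + 2), j ≠ Fin.last (m + 1) → g.1 i j = (1 : Matrix (Fin (m + 2)) (Fin (m + 2)) F) i j}

/-- `H = Q Q'` (Heisenberg-type group of order `q^(2m+1)`): identity entries outside row `0` and the last column,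
and `g 0 0 = 1`. -/
def Hset (m : ℕ) : Set (Gm F m) :=
  {g | (∀ i j : Fin (m + 2), i ≠ 0 → j ≠ Fin.last (m + 1) →
      g.1 i j = (1 : Matrix (Fin (m + 2)) (Fin (m + 2)) F) i j) ∧ g.1 0 0 = 1}

open Classical in
/-- `|A|⁻¹ ∑_{x ∈ A} χ x` for a set `A` of group elements. -/
noncomputable def avgOn {G : Type*} [Fintype G] (A : Set G) (χ : G → ℂ) : ℂ :=
  ((Finset.univ.filter (fun x : G => x ∈ A)).card : ℂ)⁻¹ * ∑ x ∈ Finset.univ.filter (fun x : G => x ∈ A), χ x

/-- number of points of `PG(n-1,q)`: `1 + q + ... + q^(n-1) = (q^n - 1)/(q - 1)` -/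
def Npt (q n : ℕ) : ℕ := ∑ i ∈ Finset.range n, q ^ i

/-- the bound `(q^n - q)/(q - 1) = q (q^(n-1) - 1)/(q - 1)` -/
def Tn (q n : ℕ) : ℕ := q * Npt q (n - 1)

/-- the number of transvections of `SL_n(q)` (one conjugacy class for `n ≥ 3`) -/
def Ccl (q n : ℕ) : ℕ := Npt q n * (q ^ (n - 1) - 1)

/-- the exceptional pairs `(n, q)` -/
def Exc (n q : ℕ) : Prop := (n = 3 ∧ q = 2) ∨ (n = 3 ∧ q = 4) ∨ (n = 4 ∧ q = 2) ∨ (n = 4 ∧ q = 3)

end Cfsg.Agent.Lib.Helper76.Sl
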