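import Cfsg.Agent.Lib.Helper76.SlDefs
import Cfsg.Agent.Lib.Helper3.CharOps
import Cfsg.Agent.Lib.Helper9.SlK3
import Cfsg.Agent.Lib.Helper3.CharBasic
import Cfsg.Agent.Lib.Helper34.SlAR1
import Cfsg.Agent.Lib.Helper25.SlAR3
import Cfsg.Agent.Lib.Helper25.SlAR4
import Cfsg.Agent.Lib.Helper49.SlCH1
import Cfsg.Agent.Lib.Helper49.SlK6
import Cfsg.Agent.Lib.Helper54.SlK4
import Cfsg.Agent.Lib.Helper74.SlEX1
import Cfsg.Agent.Lib.Helper74.SlEX3
import Cfsg.Agent.Lib.Helper54.SlEX2
import Cfsg.Agent.Lib.Helper11.SlAR5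
import Cfsg.Agent.Lib.Helper5.SlK1
import Cfsg.Agent.Lib.Helper43.SlK2
import Cfsg.Agent.Lib.Helper73.SlK5
import Cfsg.Agent.Lib.Helper24.SlK7core

set_option autoImplicit false

namespace Cfsg.Agent.Lib.Helper76.Sl

open Matrix Cfsg

variable {F : Type*} [Field F] [Fintype F] [DecidableEq F]

/-- K7 DECOMP: wrapper of helper24's `k7_core` on K1 (`resq`) and K6 (`linear_trivial`). -/
theorem decomp (m : ℕ) (hm : 1 ≤ m) (φ : Gm F m → ℂ) (hφ : IsCharacter (Gm F m) φ) (m0 : ℕ)
    (h1 : φ 1 = m0) (ht : φ (tv F m) = (m0 : ℂ) - (Fintype.card F : ℂ) ^ (m + 1)) :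
    ∃ (ψ : Gm F m → ℂ) (k : ℕ), IsIrrCharacter (Gm F m) ψ ∧ ψ 1 ≠ 1 ∧
      classInner φ (fun _ => 1) = k ∧ ψ 1 + k = m0 ∧
      ψ (tv F m) = ψ 1 - (Fintype.card F : ℂ) ^ (m + 1) :=
  k7_core m (fun χ hχ hnl => resq m hm χ hχ hnl) (fun ψ hψ h => linear_trivial m hm ψ hψ h)
    φ hφ m0 h1 ht

omit [DecidableEq F] in
theorem card_ge_two : 2 ≤ Fintype.card F := Fintype.one_lt_card

theorem cast_pow_sub_one (q k : ℕ) (hq : 1 ≤ q) : ((q ^ k - 1 : ℕ) : ℂ) = (q : ℂ) ^ k - 1 := by
  rw [Nat.cast_sub (Nat.one_le_pow _ _ hq)]; push_cast; ring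

theorem main (m : ℕ) : ∀ (χ : Gm F (m + 1) → ℂ), IsIrrCharacter (Gm F (m + 1)) χ → χ 1 ≠ 1 →
    ¬ Exc (m + 3) (Fintype.card F) → ∃ d : ℕ, χ 1 = d ∧ Tn (Fintype.card F) (m + 3) ≤ d := by
  have hq2 : 2 ≤ Fintype.card F := card_ge_two
  have hq1 : 1 ≤ Fintype.card F := by omega
  induction m with
  | zero =>
    intro χ hχ hnl hexc
    obtain ⟨m0, mm, hmm, h1, ht, hav⟩ := resq 1 le_rfl χ hχ hnl
    by_cases h2 : 2 ≤ mm
    · refine ⟨m0 + mm * (Fintype.card F ^ 2 - 1), ?_, ?_⟩
      · rw [h1]; push_cast [cast_pow_sub_one _ _ hq1]; ring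
      · exact ar1 _ 3 m0 mm hq2 le_rfl h2
    · have hmm1 : mm = 1 := by omega
      subst hmm1
      rcases trich 0 χ hχ m0 (by rw [h1]; push_cast; ring) (by rw [ht]; push_cast; ring) hav with
        ⟨hA, -⟩ | ⟨-, hB⟩
      · have hd : χ 1 = ((m0 + (Fintype.card F ^ 2 - 1) : ℕ) : ℂ) := by
          rw [h1]; push_cast [cast_pow_sub_one _ _ hq1]; ring
        have hz : χ (tv F 1) = (((m0 : ℤ) - 1 : ℤ) : ℂ) := by rw [ht]; push_cast; ring
        have hdvd := integ 1 le_rfl χ hχ _ _ hd hz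
        have hpp : IsPrimePow (Fintype.card F) := FiniteField.isPrimePow_card F
        have h3 := ar3 (Fintype.card F) m0 hpp hexc (by simpa using hA) hdvd
        refine ⟨_, hd, ?_⟩
        exact ar2 _ 3 m0 hq2 (by norm_num) (by
          show Npt (Fintype.card F) 2 ≤ m0
          simp only [Npt, Finset.sum_range_succ, Finset.sum_range_zero, pow_zero, pow_one]
          omega)
      · exact absurd hB hexc
  | succ m ih =>
    intro χ hχ hnl hexc
    obtain ⟨m0, mm, hmm, h1, ht, hav⟩ := resq (m + 2) (by omega) χ hχ hnl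
    by_cases h2 : 2 ≤ mm
    · refine ⟨m0 + mm * (Fintype.card F ^ (m + 3) - 1), ?_, ?_⟩
      · rw [h1]; push_cast [cast_pow_sub_one _ _ hq1]; ring
      · exact ar1 _ (m + 4) m0 mm hq2 (by omega) h2
    · have hmm1 : mm = 1 := by omega
      subst hmm1
      rcases trich (m + 1) χ hχ m0 (by rw [h1]; push_cast; ring) (by rw [ht]; push_cast; ring) hav with
        ⟨hA, hA2⟩ | ⟨-, hB⟩
      swap
      · exact absurd hB hexc
      have hd : χ 1 = ((m0 + (Fintype.card F ^ (m + 3) - 1) : ℕ) : ℂ) := by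
        rw [h1]; push_cast [cast_pow_sub_one _ _ hq1]; ring
      have hz : χ (tv F (m + 2)) = (((m0 : ℤ) - 1 : ℤ) : ℂ) := by rw [ht]; push_cast; ring
      have hdvd := integ (m + 2) (by omega) χ hχ _ _ hd hz
      obtain ⟨φ, hφ, hφ1, hφt, hφk⟩ := exists_defl (m + 1) χ (Cfsg.Agent.Lib.Helper3.IsIrrCharacter.isCharacter hχ)
      rw [hav] at hφ1
      rw [hA2] at hφt
      obtain ⟨ψ, k, hψ, hψnl, hk, hψk, hψt⟩ := decomp (m + 1) (by omega) φ hφ m0 hφ1 hφt
      have hk1 : k ≤ 1 := by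
        rw [hφk] at hk
        rcases avgS_zero_or_one (m + 2) (by omega) χ hχ with h0 | h0
        · rw [h0] at hk
          have : k = 0 := by exact_mod_cast hk.symm
          omega
        · rw [h0] at hk
          have : k = 1 := by exact_mod_cast hk.symm
          omega
      suffices hN : Npt (Fintype.card F) (m + 3) ≤ m0 from
        ⟨_, hd, ar2 _ (m + 4) m0 hq2 (by omega) hN⟩
      by_cases hE : Exc (m + 3) (Fintype.card F)
      · -- special: predecessor exceptional
        obtain ⟨m0', mm', hmm', h1', ht', hav'⟩ := resq (m + 1) (by omega) ψ hψ hψnl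
        have hqpow : ((Fintype.card F : ℂ) ^ (m + 2)) ≠ 0 := by
          apply pow_ne_zero; exact_mod_cast (by omega : Fintype.card F ≠ 0)
        have hmm1' : mm' = 1 := by
          have e : ((mm' : ℂ) - 1) * (Fintype.card F : ℂ) ^ (m + 2) = 0 := by
            have := hψt
            rw [h1', ht'] at this
            linear_combination (-1 : ℂ) * this
          rcases mul_eq_zero.mp e with h | h
          · have : (mm' : ℂ) = 1 := by linear_combination h
            exact_mod_cast this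
          · exact absurd h hqpow
        subst hmm1'
        have hc : m0' = 0 ∨ Fintype.card F ^ (m + 1) - 1 ≤ m0' := by
          rcases trich m ψ hψ m0' (by rw [h1']; push_cast; ring) (by rw [ht']; push_cast; ring) hav' with
            ⟨hA', -⟩ | ⟨hB', -⟩
          · exact Or.inr hA'
          · exact Or.inl hB'
        have hm0 : m0 = (m0' + k) + (Fintype.card F ^ (m + 2) - 1) := by
          have : ((m0 : ℕ) : ℂ) = (((m0' + k) + (Fintype.card F ^ (m + 2) - 1) : ℕ) : ℂ) := by
            rw [← hψk, h1']; push_cast [cast_pow_sub_one _ _ hq1]; ring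
          exact_mod_cast this
        exact ar5 (Fintype.card F) (m + 4) (m0' + k) m0 hE hexc (by omega)
          (by
            show m0' + k = 0 ∨ m0' + k = 1 ∨ Fintype.card F ^ (m + 4 - 3) - 1 ≤ m0' + k
            have : m + 4 - 3 = m + 1 := by omega
            rw [this]
            rcases hc with h | h
            · interval_cases k
              · left; omega
              · right; left; omega
            · right; right; omega)
          hm0 hdvd
      · -- generic predecessor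
        obtain ⟨d', hd', hT⟩ := ih ψ hψ hψnl hE
        have hm0 : m0 = d' + k := by
          have : ((m0 : ℕ) : ℂ) = ((d' + k : ℕ) : ℂ) := by rw [← hψk, hd']; push_cast; ring
          exact_mod_cast this
        exact ar4 (Fintype.card F) (m + 4) m0 hq2 (by omega) (by show Tn _ (m + 3) ≤ m0; omega) hdvd

end Cfsg.Agent.Lib.Helper76.Sl
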