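import Cfsg.Agent.Lib.Helper76.SlMain
import Cfsg.Agent.S2336

set_option autoImplicit false

namespace Cfsg.Agent.Lib.Helper76.Sl

open Matrix Cfsg

variable {F : Type*} [Field F] [Fintype F] [DecidableEq F]

theorem lower (n : ℕ) (hn : 3 ≤ n) (hexc : ¬ Exc n (Fintype.card F)) (k : ℕ)
    (ρ : Representation ℂ (Matrix.SpecialLinearGroup (Fin n) F) (Fin k → ℂ)) (hρ : ρ.IsIrreducible)
    (hk : 2 ≤ k) : (Fintype.card F ^ n - Fintype.card F) / (Fintype.card F - 1) ≤ k := by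
  obtain ⟨m, rfl⟩ : ∃ m, n = m + 3 := ⟨n - 3, by omega⟩
  have hχ : IsIrrCharacter (Gm F (m + 1)) ρ.character := ⟨k, ρ, hρ, rfl⟩
  have h1 : ρ.character 1 = k := character_one_eq _ k ρ
  obtain ⟨d, hd, hT⟩ := main m ρ.character hχ
    (by rw [h1]; exact_mod_cast (by omega : k ≠ 1)) hexc
  have hdk : d = k := by exact_mod_cast (hd.symm.trans h1)
  rw [Tn_eq _ _ card_ge_two (by omega)]
  omega

theorem exist (n : ℕ) (hn : 3 ≤ n) (hexc : ¬ Exc n (Fintype.card F)) :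
    ∃ ρ : Representation ℂ (Matrix.SpecialLinearGroup (Fin n) F)
      (Fin ((Fintype.card F ^ n - Fintype.card F) / (Fintype.card F - 1)) → ℂ), ρ.IsIrreducible := by
  obtain ⟨m, rfl⟩ : ∃ m, n = m + 3 := ⟨n - 3, by omega⟩
  have hq2 : 2 ≤ Fintype.card F := card_ge_two
  obtain ⟨χ, hirr, hinj, hsum⟩ := Cfsg.Agent.S2336.result (F := F) (m + 3) (by omega)
  have hnl := perm_constituent_nonlinear (m + 3) (by omega) χ hirr hinj hsum
  choose d hd hT using fun i => main m (χ i) (hirr i) (hnl i) hexc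
  have h1 := hsum 1
  rw [card_fixed_one] at h1
  have hs : Fintype.card F ^ (m + 3) - 1 = 1 + ∑ i, d i := by
    have : ((Fintype.card F ^ (m + 3) - 1 : ℕ) : ℂ) = ((1 + ∑ i, d i : ℕ) : ℂ) := by
      rw [h1]; push_cast
      congr 1
      exact Finset.sum_congr rfl (fun i _ => hd i)
    exact_mod_cast this
  obtain ⟨i, hi⟩ := pigeon (Fintype.card F) (m + 3) hq2 (by omega) d hT hs
  obtain ⟨k, ρ, hρ, hc⟩ := hirr i
  have hk : k = Tn (Fintype.card F) (m + 3) := by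
    have := character_one_eq _ k ρ
    rw [hc, hd i, hi] at this
    exact_mod_cast this.symm
  rw [Tn_eq _ _ hq2 (by omega)]
  subst hk
  exact ⟨ρ, hρ⟩

end Cfsg.Agent.Lib.Helper76.Sl
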