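import Cfsg.Agent.Lib.Helper76.TuIRR

/-!
# Tu hive (S5953): TU-DVD `dvd_finrank_moved` lives in `Helper76/TuIRR.lean`; this file only re-imports it so that
`import Cfsg.Agent.Lib.Helper76.TuDVD` (the file name announced on the board) works.
-/
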